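import Cfsg.Agent.Lib.BSW.Setup
import Cfsg.Agent.Lib.Fusion.Tate
import Cfsg.Agent.Lib.Invol.TwoClasses
import Cfsg.Agent.Lib.Invol.DihedralSylow
import Cfsg.Agent.S0514

/-!
# The hypotheses of Brauer–Suzuki–Wall from a dihedral Sylow 2-subgroup
-/

set_option autoImplicit false
set_option linter.unusedSectionVars false

open Subgroup Cfsg DihedralGroup
open scoped Pointwise

namespace CfsgLib.BSW

variable {G : Type*} [Group G]

/-- An element of `H ⊔ N`, when `H` normalizes `N`, is a product. -/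
theorem exists_mul_of_mem_sup {H N : Subgroup G} (hle : H ≤ normalizer (N : Set G)) {y : G}
    (hy : y ∈ H ⊔ N) : ∃ a ∈ H, ∃ o ∈ N, a * o = y := by
  have : y ∈ (↑(H ⊔ N) : Set G) := hy
  rw [coe_mul_of_left_le_normalizer_right H N hle] at this
  exact Set.mem_mul.1 this

theorem dihedral_two_klein : ∀ a : DihedralGroup 2, a * a = 1 := by decide

theorem sr_conj_r {n : ℕ} (i k : ZMod n) : sr i * r k * (sr i)⁻¹ = (r k : DihedralGroup n)⁻¹ := by
  rw [inv_sr, sr_mul_r, sr_mul_sr, inv_r]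
  congr 1
  abel

theorem eq_one_of_sq_of_odd [Finite G] {O : Subgroup G} (hodd : Odd (Nat.card O)) {x : G}
    (hx : x ∈ O) (h : x * x = 1) : x = 1 :=
  orderOf_eq_one_iff.1 (Nat.eq_one_of_dvd_coprimes (Nat.coprime_two_right.2 hodd)
    (Subgroup.orderOf_dvd_natCard O hx) (orderOf_dvd_of_pow_eq_one (by rw [pow_two, h])))

variable [Finite G]

/-- Outside a cyclic subgroup of index 2 of a dihedral 2-group are inverting involutions. -/
theorem outside_cyclic {S S0 : Subgroup G} {n : ℕ} (hn : 2 ≤ n) (e : S ≃* DihedralGroup n)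
    (hle : S0 ≤ S) (hc : IsCyclic S0) (hi : S0.relIndex S = 2) {w : G} (hw : w ∈ S)
    (hw0 : w ∉ S0) : w * w = 1 ∧ ∀ a ∈ S0, w * a * w⁻¹ = a⁻¹ := by
  haveI : NeZero n := ⟨by omega⟩
  rcases Nat.lt_or_ge 2 n with hn3 | hn2
  · obtain ⟨x, hx⟩ := Subgroup.isCyclic_iff_exists_zpowers_eq_top (H := S0) |>.1 hc
    have hxS : x ∈ S := hle (hx ▸ mem_zpowers x)
    have hcard : Nat.card S0 = n := by
      have h1 := (S0.subgroupOf S).card_mul_index
      rw [Nat.card_congr (subgroupOfEquivOfLe hle).toEquiv, show (S0.subgroupOf S).index = 2 from hi,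
        Nat.card_congr e.toEquiv, DihedralGroup.nat_card] at h1
      omega
    have hox : orderOf (e ⟨x, hxS⟩) = n := by
      rw [MulEquiv.orderOf_eq, Subgroup.orderOf_mk, ← Nat.card_zpowers, hx, hcard]
    obtain ⟨j, hj⟩ : ∃ j, e ⟨x, hxS⟩ = r j := by
      rcases hh : e ⟨x, hxS⟩ with j | j
      · exact ⟨j, rfl⟩
      · rw [hh, orderOf_sr] at hox
        omega
    have hrot : zpowers (r j : DihedralGroup n) = zpowers (r 1) := by
      refine Subgroup.eq_of_le_of_card_ge (zpowers_le.2 ⟨(j.val : ℤ), ?_⟩) ?_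
      · simp [r_one_pow]
      · rw [Nat.card_zpowers, Nat.card_zpowers, orderOf_r_one, ← hj, hox]
    have hrmem : ∀ a : S, ∀ i, e a = r i → (a : G) ∈ S0 := by
      intro a i hai
      have : (r i : DihedralGroup n) ∈ zpowers (r j) := by
        rw [hrot]; exact ⟨(i.val : ℤ), by simp [r_one_pow]⟩
      obtain ⟨k, hk⟩ := mem_zpowers_iff.1 this
      rw [← hj, ← map_zpow, ← hai] at hk
      rw [← e.injective hk, Subgroup.coe_zpow]
      exact zpow_mem (hx ▸ mem_zpowers x) _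
    obtain ⟨i, hwi⟩ : ∃ i, e ⟨w, hw⟩ = sr i := by
      rcases hh : e ⟨w, hw⟩ with i | i
      · exact absurd (hrmem _ _ hh) hw0
      · exact ⟨i, rfl⟩
    refine ⟨congrArg Subtype.val (e.injective (a₁ := (⟨w, hw⟩ : S) * ⟨w, hw⟩) (a₂ := 1)
      (by rw [map_mul, map_one, hwi, sr_mul_self])), fun a ha => ?_⟩
    rw [← hx] at ha
    obtain ⟨k, rfl⟩ := mem_zpowers_iff.1 ha
    have hwx : w * x * w⁻¹ = x⁻¹ := congrArg Subtype.val (e.injective
      (a₁ := (⟨w, hw⟩ : S) * ⟨x, hxS⟩ * ⟨w, hw⟩⁻¹) (a₂ := (⟨x, hxS⟩ : S)⁻¹)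
      (by rw [map_mul, map_mul, map_inv, map_inv, hwi, hj, sr_conj_r]))
    exact (Invol.conj_zpow_of_inverts hwx k).trans (by simp)
  · obtain rfl : n = 2 := le_antisymm hn2 hn
    have hsq : ∀ a ∈ S, a * a = 1 := fun a ha =>
      congrArg Subtype.val (e.injective (a₁ := (⟨a, ha⟩ : S) * ⟨a, ha⟩) (a₂ := 1)
        (by rw [map_mul, map_one, dihedral_two_klein]))
    have hinv : ∀ a ∈ S, a⁻¹ = a := fun a ha => inv_eq_of_mul_eq_one_right (hsq a ha)
    refine ⟨hsq w hw, fun a ha => ?_⟩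
    have h1 := hinv (w * a) (mul_mem hw (hle ha))
    rw [mul_inv_rev, hinv w hw, hinv a (hle ha)] at h1
    rw [← h1, hinv a (hle ha), hinv w hw, mul_assoc, hsq w hw, mul_one]

/-- A dihedral 2-group has a cyclic subgroup of index 2 containing a given central involution. -/
theorem exists_cyclic_index_two' {S : Subgroup G} {n : ℕ} (hn : 2 ≤ n) (e : S ≃* DihedralGroup n)
    {t : G} (ht : orderOf t = 2) (htS : t ∈ S) (htZ : ∀ s ∈ S, s * t = t * s) :
    ∃ S0 : Subgroup G, S0 ≤ S ∧ IsCyclic S0 ∧ S0.relIndex S = 2 ∧ t ∈ S0 := by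
  haveI : NeZero n := ⟨by omega⟩
  have key : ∀ x : G, x ∈ S → orderOf x = n → (zpowers x).relIndex S = 2 := fun x hxS hox => by
    have h1 := ((zpowers x).subgroupOf S).card_mul_index
    rw [Nat.card_congr (subgroupOfEquivOfLe (zpowers_le.2 hxS)).toEquiv, Nat.card_zpowers, hox,
      Nat.card_congr e.toEquiv, DihedralGroup.nat_card, mul_comm 2 n] at h1
    exact Nat.eq_of_mul_eq_mul_left (by omega) h1
  rcases Nat.lt_or_ge 2 n with hn3 | hn2
  · refine ⟨zpowers ((e.symm (r 1) : S) : G), zpowers_le.2 (SetLike.coe_mem _), inferInstance,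
      key _ (SetLike.coe_mem _) (by rw [Subgroup.orderOf_coe, MulEquiv.orderOf_eq, orderOf_r_one]), ?_⟩
    have hcz : e.symm (r 1) * ⟨t, htS⟩ = ⟨t, htS⟩ * e.symm (r 1) :=
      Subtype.ext (htZ _ (SetLike.coe_mem _))
    have hc2 := congrArg e hcz
    rw [map_mul, map_mul, MulEquiv.apply_symm_apply] at hc2
    rcases hh : e ⟨t, htS⟩ with i | i
    · refine ⟨(i.val : ℤ), ?_⟩
      show ((e.symm (r 1) : S) : G) ^ (i.val : ℤ) = t
      rw [← Subgroup.coe_zpow, ← map_zpow, zpow_natCast, r_one_pow, ZMod.natCast_val, ZMod.cast_id,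
        ← hh, MulEquiv.symm_apply_apply]
    · rw [hh, r_mul_sr, sr_mul_r] at hc2
      have h2 : ((2 : ℕ) : ZMod n) = 0 := by
        have h3 := DihedralGroup.sr.inj hc2
        push_cast
        linear_combination -h3
      rw [ZMod.natCast_eq_zero_iff] at h2
      have := Nat.le_of_dvd two_pos h2
      omega
  · exact ⟨zpowers t, zpowers_le.2 htS, inferInstance,
      key t htS (ht.trans (le_antisymm hn hn2)), mem_zpowers t⟩

/-- The core of the centralizer of an involution, with a Sylow 2-subgroup, gives the whole centralizer. -/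
theorem core_facts (S : Sylow 2 G) {n : ℕ} (hn : 2 ≤ n)
    (hS : Nonempty ((S : Subgroup G) ≃* DihedralGroup n)) {t : G} (ht : orderOf t = 2)
    (hSC : (S : Subgroup G) ≤ centralizer ({t} : Set G)) {O : Subgroup G}
    (hO : O = (Cfsg.oddCore (centralizer ({t} : Set G))).map (centralizer ({t} : Set G)).subtype) :
    Odd (Nat.card O) ∧ centralizer ({t} : Set G) ≤ normalizer (O : Set G) ∧
      O ≤ centralizer ({t} : Set G) ∧ (S : Subgroup G) ⊔ O = centralizer ({t} : Set G) := by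
  haveI : Fact (Nat.Prime 2) := ⟨Nat.prime_two⟩
  obtain ⟨N, hN, hodd, k, hk⟩ := Cfsg.Agent.S0514.result S n hn hS t ht
  have hcore : Cfsg.oddCore (centralizer ({t} : Set G)) = N := by
    refine le_antisymm (sSup_le fun M hM => ?_) (le_sSup ⟨hN, Nat.coprime_two_right.2 hodd⟩)
    have hc : (Nat.card M).Coprime (2 ^ k) := hM.2.pow_right k
    exact relIndex_eq_one.1 (Nat.eq_one_of_dvd_coprimes hc (relIndex_dvd_card N M)
      (hk ▸ relIndex_dvd_index_of_normal N M))
  rw [hcore] at hO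
  subst hO
  have hcard : Nat.card (N.map (centralizer ({t} : Set G)).subtype) = Nat.card N :=
    Nat.card_congr (equivMapOfInjective N _ (subtype_injective _)).toEquiv.symm
  have hOC : N.map (centralizer ({t} : Set G)).subtype ≤ centralizer ({t} : Set G) := map_subtype_le N
  refine ⟨hcard ▸ hodd, fun c hc => ?_, hOC, ?_⟩
  · have h1 := Subgroup.le_normalizer_map (H := N) (centralizer ({t} : Set G)).subtype
    rw [normalizer_eq_top_iff.2 hN] at h1
    exact h1 (mem_map_of_mem _ (mem_top (⟨c, hc⟩ : centralizer ({t} : Set G))))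
  refine Subgroup.eq_of_le_of_card_ge (sup_le hSC hOC) ?_
  have h2 : 2 ^ k ∣ Nat.card (S : Subgroup G) := by
    have h3 : 2 ^ k ∣ Nat.card (S : Subgroup G) * (S : Subgroup G).index := by
      rw [card_mul_index]
      exact (hk ▸ index_dvd_card N).trans (card_subgroup_dvd_card _)
    exact ((Nat.prime_two.coprime_iff_not_dvd.2 S.not_dvd_index).pow_left k).dvd_of_dvd_mul_right h3
  have h4 : Nat.card N * 2 ^ k = Nat.card (centralizer ({t} : Set G)) := hk ▸ N.card_mul_index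
  rw [← h4]
  exact Nat.le_of_dvd Nat.card_pos (((Nat.coprime_two_right.2 hodd).pow_right k).mul_dvd_of_dvd_of_dvd
    (hcard ▸ card_dvd_of_le le_sup_right) (h2.trans (card_dvd_of_le le_sup_left)))

/-- The hypotheses of the abstract theorem, from those on a dihedral Sylow subgroup. -/
theorem hyp_of_dihedral [IsSimpleGroup G] (S : Sylow 2 G) (n : ℕ)
    (hn : 2 ≤ n) (hS : Nonempty ((S : Subgroup G) ≃* DihedralGroup n)) (t : G) (ht : orderOf t = 2)
    (htS : t ∈ (S : Subgroup G))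
    (htZ : ∀ s ∈ (S : Subgroup G), s * t = t * s) (O : Subgroup G)
    (hO : O = (Cfsg.oddCore (centralizer ({t} : Set G))).map (centralizer ({t} : Set G)).subtype)
    (ha : O ≠ ⊥ → IsCyclic ((S : Subgroup G) ⊓ centralizer (O : Set G) : Subgroup G) ∧
      ((S : Subgroup G) ⊓ centralizer (O : Set G)).relIndex (S : Subgroup G) = 2)
    (hb : ∀ s ∈ (S : Subgroup G), s ∉ centralizer (O : Set G) → ∀ y ∈ O, s * y * s⁻¹ = y⁻¹)
    (hc : ∀ Y : Subgroup G, Y ≤ O → Y ≠ ⊥ → normalizer (Y : Set G) ≤ centralizer ({t} : Set G)) :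
    ∃ (s : G) (K : Subgroup G), Hyp t s K := by
  haveI : Fact (Nat.Prime 2) := ⟨Nat.prime_two⟩
  obtain ⟨e⟩ := hS
  have hSC : (S : Subgroup G) ≤ centralizer ({t} : Set G) := fun a ha' =>
    mem_centralizer_singleton_iff.2 (htZ a ha')
  obtain ⟨hodd, hCN, hOC, hSO⟩ := core_facts S hn ⟨e⟩ ht hSC hO
  -- the cyclic subgroup of index 2
  obtain ⟨S0, hS0, hcyc, hidx, htS0, hcen, hout⟩ : ∃ S0 : Subgroup G, S0 ≤ (S : Subgroup G) ∧
      IsCyclic S0 ∧ S0.relIndex (S : Subgroup G) = 2 ∧ t ∈ S0 ∧ (∀ a ∈ S0, ∀ o ∈ O, a * o = o * a) ∧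
      ∀ w ∈ (S : Subgroup G), w ∉ S0 → ∀ o ∈ O, w * o * w⁻¹ = o⁻¹ := by
    by_cases hO1 : O = ⊥
    · obtain ⟨S0, h1, h2, h3, h4⟩ := exists_cyclic_index_two' hn e ht htS htZ
      refine ⟨S0, h1, h2, h3, h4, fun a _ o ho => ?_, fun w _ _ o ho => ?_⟩ <;>
      · rw [hO1, mem_bot] at ho
        simp [ho]
    · refine ⟨_, inf_le_left, (ha hO1).1, (ha hO1).2, mem_inf.2 ⟨htS, ?_⟩, ?_, ?_⟩
      · exact mem_centralizer_iff.2 fun o ho => (mem_centralizer_singleton_iff.1 (hOC ho))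
      · exact fun a ha' o ho => ((mem_centralizer_iff.1 (mem_inf.1 ha').2) o ho).symm
      · exact fun w hw hw' => hb w hw fun hh => hw' (mem_inf.2 ⟨hw, hh⟩)
  have hout2 := fun (w : G) (hw : w ∈ (S : Subgroup G)) (hw0 : w ∉ S0) =>
    outside_cyclic hn e hS0 hcyc hidx hw hw0
  obtain ⟨s, hsS, hs0⟩ : ∃ s ∈ (S : Subgroup G), s ∉ S0 := SetLike.not_le_iff_exists.1 fun hle => by
    rw [relIndex_eq_one.2 hle] at hidx
    omega
  have hs : orderOf s = 2 := Invol.invol_iff.2 ⟨(hout2 s hsS hs0).1, fun e => hs0 (e ▸ one_mem S0)⟩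
  have hOab : ∀ x ∈ O, ∀ y ∈ O, x * y = y * x := fun x hx y hy => by
    have h1 : (x * y)⁻¹ = x⁻¹ * y⁻¹ := by
      rw [← hout s hsS hs0 _ (mul_mem hx hy), ← hout s hsS hs0 x hx, ← hout s hsS hs0 y hy]
      group
    rw [← mul_inv_rev y x, inv_inj] at h1
    exact h1
  obtain ⟨l, hl⟩ := S.2.exists_card_eq
  have hdisj : ∀ a : G, a ∈ (S : Subgroup G) → a ∈ O → a = 1 := fun a h1 h2 =>
    orderOf_eq_one_iff.1 (Nat.eq_one_of_dvd_coprimes ((Nat.coprime_two_right.2 hodd).pow_right l)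
      (Subgroup.orderOf_dvd_natCard O h2) (hl ▸ Subgroup.orderOf_dvd_natCard _ h1))
  obtain ⟨x0, hx0⟩ := Subgroup.isCyclic_iff_exists_zpowers_eq_top (H := S0) |>.1 hcyc
  have hS0inv : ∀ a ∈ S0, a * a = 1 → a = 1 ∨ a = t := fun a ha' h1 =>
    (eq_or_ne a 1).imp_right fun h2 =>
      Invol.invol_zpowers_unique (Invol.invol_iff.2 ⟨h1, h2⟩) ht (hx0 ▸ ha') (hx0 ▸ htS0)
  have hS0N : S0 ≤ normalizer (O : Set G) := (hS0.trans hSC).trans hCN
  set K := S0 ⊔ O with hK
  have hKC : K ≤ centralizer ({t} : Set G) := sup_le (hS0.trans hSC) hOC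
  have hKel : ∀ y ∈ K, ∃ a ∈ S0, ∃ o ∈ O, a * o = y := fun y hy => exists_mul_of_mem_sup hS0N hy
  have hS0ab : ∀ a ∈ S0, ∀ b ∈ S0, a * b = b * a := fun a ha' b hb' => by
    haveI := hcyc
    exact congrArg Subtype.val (IsCyclic.commGroup.mul_comm (⟨a, ha'⟩ : S0) ⟨b, hb'⟩)
  have hKab : ∀ x ∈ K, ∀ y ∈ K, x * y = y * x := fun x hx y hy => by
    obtain ⟨a, ha', o, ho, rfl⟩ := hKel x hx
    obtain ⟨b, hb', p, hp, rfl⟩ := hKel y hy
    calc a * o * (b * p) = a * (o * b) * p := by group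
      _ = a * b * (o * p) := by rw [← hcen b hb' o ho]; group
      _ = b * a * (p * o) := by rw [hS0ab a ha' b hb', hOab o ho p hp]
      _ = b * (a * p) * o := by group
      _ = b * p * (a * o) := by rw [hcen a ha' p hp]; group
  have hinv : ∀ x ∈ K, s * x * s⁻¹ = x⁻¹ := fun x hx => by
    obtain ⟨a, ha', o, ho, rfl⟩ := hKel x hx
    rw [show s * (a * o) * s⁻¹ = s * a * s⁻¹ * (s * o * s⁻¹) by group, (hout2 s hsS hs0).2 a ha',
      hout s hsS hs0 o ho, ← mul_inv_rev, hcen a ha' o ho]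
  -- involutions of `K`
  have hinvK : ∀ y ∈ K, y * y = 1 → y = 1 ∨ y = t := fun y hy hy2 => by
    obtain ⟨a, ha', o, ho, rfl⟩ := hKel y hy
    have h1 : a * a * (o * o) = 1 := by
      calc a * a * (o * o) = a * (a * o) * o := by group
        _ = a * (o * a) * o := by rw [← hcen a ha' o ho]
        _ = a * o * (a * o) := by group
        _ = 1 := hy2
    have h3 : o = 1 := eq_one_of_sq_of_odd hodd ho (hdisj _
      (eq_inv_of_mul_eq_one_right h1 ▸ inv_mem (hS0 (mul_mem ha' ha'))) (mul_mem ho ho))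
    subst h3
    rw [mul_one] at hy2 ⊢
    exact hS0inv a ha' hy2
  have hsK : s ∉ K := fun hh => by
    obtain ⟨a, ha', o, ho, e⟩ := hKel s hh
    have h2 : o = 1 := hdisj o
      (by rw [← inv_mul_cancel_left a o, e]; exact mul_mem (inv_mem (hS0 ha')) hsS) ho
    rw [h2, mul_one] at e
    exact hs0 (e ▸ ha')
  have htK : t ∈ K := mem_sup_left htS0
  have hS0two : ∀ w ∈ (S : Subgroup G), w ∉ S0 → s * w ∈ S0 := fun w hw hw0 =>
    (mul_mem_iff_of_index_two (H := S0.subgroupOf (S : Subgroup G)) hidx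
      (a := ⟨s, hsS⟩) (b := ⟨w, hw⟩)).2 (iff_of_false hs0 hw0)
  have hgen : K ⊔ zpowers s = centralizer ({t} : Set G) := by
    refine le_antisymm (sup_le hKC (zpowers_le.2 (hSC hsS))) (hSO ▸ sup_le (fun w hw => ?_)
      (le_sup_right.trans le_sup_left))
    by_cases hw0 : w ∈ S0
    · exact mem_sup_left (mem_sup_left hw0)
    · rw [← inv_mul_cancel_left s w]
      exact mul_mem (inv_mem (mem_sup_right (mem_zpowers s)))
        (mem_sup_left (mem_sup_left (hS0two w hw hw0)))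
  -- involutions centralizing part of the core
  have hCO : ∀ u : G, u ∈ centralizer ({t} : Set G) → orderOf u = 2 →
      ∀ x ∈ O, x ≠ 1 → u * x = x * u → u = t := fun u hu hu2 x hx hx1 hux => by
    obtain ⟨w, hw, o, ho, rfl⟩ := exists_mul_of_mem_sup (hSC.trans hCN) (hSO.symm ▸ hu)
    by_cases hw0 : w ∈ S0
    · exact (hinvK _ (mul_mem (mem_sup_left hw0) (mem_sup_right ho))
        (Invol.invol_mul_self hu2)).resolve_left (Invol.invol_ne_one hu2)
    · exfalso
      have h1 : x⁻¹ = x := by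
        calc x⁻¹ = w * x * w⁻¹ := (hout w hw hw0 x hx).symm
          _ = w * (o * x * o⁻¹) * w⁻¹ := by rw [hOab o ho x hx, mul_inv_cancel_right]
          _ = w * o * x * (w * o)⁻¹ := by group
          _ = x := by rw [hux, mul_inv_cancel_right]
      exact hx1 (eq_one_of_sq_of_odd hodd hx (by nth_rewrite 1 [← h1]; exact inv_mul_cancel x))
  have hpow : ∀ a ∈ S0, ∀ o ∈ O, (a * o) ^ 2 ^ l = o ^ 2 ^ l := fun a ha' o ho => by
    rw [(show Commute a o from hcen a ha' o ho).mul_pow, ← hl,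
      orderOf_dvd_iff_pow_eq_one.1 (Subgroup.orderOf_dvd_natCard _ (hS0 ha')), one_mul]
  refine ⟨s, K, ht, hKab, hKC, htK, hs, hSC hsS, hsK, hgen, ?_, hinv, ?_, ?_⟩
  · refine le_antisymm (fun y hy => ?_) (zpowers_le.2 (mem_inf.2 ⟨htK,
      mem_centralizer_singleton_iff.2 (htZ s hsS).symm⟩))
    obtain ⟨hy1, hy2⟩ := mem_inf.1 hy
    have h1 : y * y = 1 := by
      have h2 := hinv y hy1
      rw [← mem_centralizer_singleton_iff.1 hy2, mul_inv_cancel_right] at h2
      nth_rewrite 1 [h2]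
      exact inv_mul_cancel y
    rcases hinvK y hy1 h1 with rfl | rfl
    · exact one_mem _
    · exact mem_zpowers _
  · intro g hg
    rw [eq_bot_iff]
    intro y hy
    obtain ⟨hyK, x, hxK, hxy⟩ := mem_inf.1 hy
    change g * x * g⁻¹ = y at hxy
    rw [mem_bot]
    by_contra hy1
    obtain ⟨a, ha', o, ho, rfl⟩ := hKel y hyK
    obtain ⟨b, hb', p, hp, rfl⟩ := hKel x hxK
    rcases eq_or_ne o 1 with rfl | ho1
    · rw [mul_one] at hy1 hxy
      obtain ⟨i, hi⟩ : t ∈ zpowers a := by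
        have hev : Even (Nat.card (zpowers a)) := by
          rw [Nat.card_zpowers, even_iff_two_dvd]
          obtain ⟨j, -, hj⟩ := (Nat.dvd_prime_pow Nat.prime_two).1
            (hl ▸ Subgroup.orderOf_dvd_natCard _ (hS0 ha'))
          rw [hj]
          exact dvd_pow_self 2 fun e => hy1 (orderOf_eq_one_iff.1 (by rw [hj, e, pow_zero]))
        obtain ⟨z, hz, hz2⟩ := Invol.exists_invol_mem hev
        rwa [← (hS0inv z (zpowers_le.2 ha' hz) (Invol.invol_mul_self hz2)).resolve_left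
          (Invol.invol_ne_one hz2)]
      change a ^ i = t at hi
      have h1 : g * (b * p) ^ i * g⁻¹ = t := by rw [← conj_zpow, hxy, hi]
      have h2 : orderOf ((b * p) ^ i) = 2 := by
        rw [show (b * p) ^ i = g⁻¹ * t * g⁻¹⁻¹ by rw [← h1]; group]
        exact Invol.invol_conj ht g⁻¹
      rw [(hinvK _ (zpow_mem hxK i) (Invol.invol_mul_self h2)).resolve_left
        (Invol.invol_ne_one h2)] at h1
      exact hg (mem_centralizer_singleton_iff.2 (mul_inv_eq_iff_eq_mul.1 h1))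
    · have hop : g * p ^ 2 ^ l * g⁻¹ = o ^ 2 ^ l := by
        rw [← hpow b hb' p hp, ← hpow a ha' o ho, ← hxy, conj_pow]
      have ho' : o ^ 2 ^ l ≠ 1 := fun e => ho1 (orderOf_eq_one_iff.1 (Nat.eq_one_of_dvd_coprimes
        ((Nat.coprime_two_right.2 hodd).pow_right l) (Subgroup.orderOf_dvd_natCard O ho)
        (orderOf_dvd_of_pow_eq_one e)))
      have hcm : Commute (g * t * g⁻¹) (o ^ 2 ^ l) := by
        rw [← hop]
        exact (Commute.conj_iff g).2
          (Commute.pow_right (Eq.symm (mem_centralizer_singleton_iff.1 (hOC hp))) (2 ^ l))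
      have hN : g * t * g⁻¹ ∈ normalizer (zpowers (o ^ 2 ^ l) : Set G) :=
        Subgroup.centralizer_le_normalizer _ (mem_centralizer_iff.2 fun z hz => by
          obtain ⟨i, rfl⟩ := mem_zpowers_iff.1 hz
          exact (hcm.zpow_right i).symm.eq)
      have h1 := hCO _ (hc _ (zpowers_le.2 (pow_mem ho _)) (zpowers_ne_bot.2 ho') hN)
        (Invol.invol_conj ht g) _ (pow_mem ho _) ho' hcm.eq
      exact hg (mem_centralizer_singleton_iff.2 (mul_inv_eq_iff_eq_mul.1 h1))
  · suffices h : ∀ u : G, orderOf u = 2 → IsConj u t from fun x y hx hy => (h x hx).trans (h y hy).symm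
    intro u hu
    by_contra hno
    obtain ⟨M, hM, hM2, -⟩ := Fusion.thompson_transfer S hS0 hidx
      (u := u) (by rw [pow_two, Invol.invol_mul_self hu]) fun g hg => hno (isConj_iff.2 ⟨g,
        (hS0inv _ hg (Invol.invol_mul_self (Invol.invol_conj hu g))).resolve_left
          (Invol.invol_ne_one (Invol.invol_conj hu g))⟩)
    rcases hM.eq_bot_or_eq_top with rfl | rfl
    · rw [index_bot] at hM2
      have h1 := hM2 ▸ card_subgroup_dvd_card (S : Subgroup G)
      rw [Nat.card_congr e.toEquiv, DihedralGroup.nat_card] at h1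
      have := Nat.le_of_dvd two_pos h1
      omega
    · simp at hM2

end CfsgLib.BSW
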