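import Cfsg.Agent.Lib.BSW.Minus
import Cfsg.Agent.Lib.BSW.DihedralHyp
import Cfsg.Agent.S0731

/-!
# Brauer–Suzuki–Wall: recognition of `PSL(2, q)`
-/

set_option autoImplicit false
set_option linter.unusedSectionVars false

open Subgroup Cfsg
open scoped Pointwise

namespace CfsgLib.BSW

universe u

variable {G : Type u} [Group G] [Finite G]

/-- A simple group is not of order 12. -/
theorem card_ne_twelve [IsSimpleGroup G] : Nat.card G ≠ 12 := by
  intro h12
  haveI : Fact (Nat.Prime 2) := ⟨Nat.prime_two⟩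
  obtain ⟨S⟩ : Nonempty (Sylow 2 G) := inferInstance
  have h1 := (S : Subgroup G).card_mul_index
  obtain ⟨l, hl⟩ := S.2.exists_card_eq
  rw [h12, hl] at h1
  have hi : (S : Subgroup G).index = 3 := by
    have h2 : (S : Subgroup G).index ∣ 3 :=
      ((Nat.prime_two.coprime_iff_not_dvd.2 S.not_dvd_index).symm.pow_right 2).dvd_of_dvd_mul_right
        (show (S : Subgroup G).index ∣ 3 * 2 ^ 2 from ⟨2 ^ l, by rw [mul_comm _ (2 ^ l), h1]⟩)
    rcases (Nat.dvd_prime Nat.prime_three).1 h2 with h3 | h3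
    · rw [h3, mul_one] at h1
      have : 3 ∣ 2 ^ l := ⟨4, by omega⟩
      have := Nat.prime_three.dvd_of_dvd_pow this
      omega
    · exact h3
  rcases (Nat.dvd_prime Nat.prime_three).1 (hi ▸ S.card_dvd_index) with h3 | h3
  · haveI : Subsingleton (Sylow 2 G) := (Nat.card_eq_one_iff_unique.1 h3).1
    rcases (Sylow.normal_of_subsingleton S).eq_bot_or_eq_top with h2 | h2
    · rw [h2, index_bot, h12] at hi; omega
    · rw [h2, index_top] at hi; omega
  · rcases (inferInstance : (MulAction.toPermHom G (Sylow 2 G)).ker.Normal).eq_bot_or_eq_top with h2 | h2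
    · have h4 := card_dvd_of_injective _ ((MonoidHom.ker_eq_bot_iff _).1 h2)
      rw [Nat.card_perm, h3, h12] at h4
      exact absurd h4 (by decide)
    · have h4 : Subsingleton (Sylow 2 G) := ⟨fun A B => by
        obtain ⟨g, hg⟩ := MulAction.exists_smul_eq G A B
        have hk : g ∈ (MulAction.toPermHom G (Sylow 2 G)).ker := by rw [h2]; exact mem_top g
        rw [← hg]
        exact (Equiv.ext_iff.1 (MonoidHom.mem_ker.1 hk) A).symm⟩
      rw [Nat.card_of_subsingleton S] at h3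
      omega

/-- `Concl` and simplicity give `PSL(2, q)`. -/
theorem psl_of_concl [IsSimpleGroup G] (h : Concl G) :
    ∃ (F : Type) (_ : Field F) (_ : Fintype F), Odd (Fintype.card F) ∧
      Nonempty (G ≃* Matrix.ProjectiveSpecialLinearGroup (Fin 2) F) := by
  obtain ⟨Q, D, hG, hQC, hD, hQD, hdisj, hN, hX⟩ := h
  set q := Nat.card Q with hq
  set m := Nat.card D with hm
  have hm0 : 0 < m := Nat.card_pos
  have hQab : ∀ x ∈ Q, ∀ y ∈ Q, x * y = y * x := fun x hx y hy => by
    rcases eq_or_ne y 1 with rfl | hy1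
    · simp
    · rw [← hQC y hy hy1] at hx
      exact mem_centralizer_singleton_iff.1 hx
  set N := normalizer (Q : Set G) with hNdef
  have hDN : D ≤ N := hN ▸ le_sup_right
  have hQN : Q ≤ N := Subgroup.le_normalizer
  have hNel : ∀ y ∈ N, ∃ d ∈ D, ∃ o ∈ Q, d * o = y := fun y hy =>
    exists_mul_of_mem_sup hDN (by rw [sup_comm, ← hN]; exact hy)
  have hcardN : Nat.card N = m * q := by
    rw [hm, hq, ← Nat.card_prod]
    refine (Nat.card_congr (Equiv.ofBijective (fun p : D × Q => (⟨p.1 * p.2,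
      mul_mem (hDN p.1.2) (hQN p.2.2)⟩ : N)) ⟨fun a b e => ?_, fun y => ?_⟩)).symm
    · exact mul_injective_of_disjoint (disjoint_iff.2 (by rw [inf_comm]; exact hdisj))
        (congrArg Subtype.val e)
    · obtain ⟨d, hd, o, ho, e⟩ := hNel y y.2
      exact ⟨(⟨d, hd⟩, ⟨o, ho⟩), Subtype.ext e⟩
  have hG2 : Nat.card G = m * q * (2 * (m + 1)) := by
    rw [← hQD, Nat.add_sub_cancel] at hG
    rw [← hQD]
    linarith
  have hidx : N.index = q + 1 := by
    have h1 := N.card_mul_index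
    rw [hcardN, hG2] at h1
    have h2 := Nat.eq_of_mul_eq_mul_left (Nat.mul_pos hm0 Nat.card_pos) h1
    omega
  have hm2 : 2 ≤ m := by
    by_contra hcon
    refine card_ne_twelve (G := G) ?_
    rw [hG2, ← hQD, show m = 1 by omega]
  have hDbot : D ≠ ⊥ := fun e => by rw [hm, e, Subgroup.card_bot] at hm2; omega
  obtain ⟨-, u, hu, huD, huinv, hND⟩ := hX D le_rfl hDbot
  have hcomm : ∀ d ∈ D, ∀ o ∈ Q, o ≠ 1 → d * o = o * d → d = 1 := fun d hd o ho ho1 e => by
    have h1 : d ∈ Q ⊓ D := mem_inf.2 ⟨hQC o ho ho1 ▸ mem_centralizer_singleton_iff.2 e, hd⟩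
    rwa [hdisj, mem_bot] at h1
  -- trivial intersection
  have hTI : ∀ g x : G, x ∈ Q → x ≠ 1 → g * x * g⁻¹ ∈ Q → g ∈ N := fun g x hx hx1 hgx => by
    refine Subgroup.mem_normalizer_iff.2 fun y => ⟨fun hy => ?_, fun hy => ?_⟩
    · rw [← hQC _ hgx (fun e => hx1 (conj_eq_one_iff.1 e)), mem_centralizer_singleton_iff]
      exact ((Commute.conj_iff g).2 (hQab y hy x hx)).eq
    · rw [← hQC x hx hx1, mem_centralizer_singleton_iff]
      exact (Commute.conj_iff g).1 (hQab _ hy _ hgx)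
  have hQord : ∀ x ∈ N, x ^ q = 1 → x ∈ Q := fun x hx hxq => by
    have hi : (Q.subgroupOf N).index = m := by
      have h1 := (Q.subgroupOf N).card_mul_index
      rw [Nat.card_congr (subgroupOfEquivOfLe hQN).toEquiv, hcardN, mul_comm m] at h1
      exact Nat.eq_of_mul_eq_mul_left Nat.card_pos h1
    have hQn : (Q.subgroupOf N).Normal := Subgroup.normal_in_normalizer
    have h2 : x ^ m ∈ Q := by
      have h := (Q.subgroupOf N).pow_index_mem (⟨x, hx⟩ : N)
      rwa [hi] at h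
    have hcop : m.Coprime (orderOf x) := by
      refine Nat.Coprime.coprime_dvd_right (orderOf_dvd_of_pow_eq_one hxq) ?_
      rw [← hQD, mul_comm 2 m, Nat.coprime_mul_left_add_right]
      exact Nat.coprime_one_right _
    obtain ⟨j, hj⟩ := exists_pow_eq_self_of_coprime hcop
    exact hj ▸ pow_mem h2 j
  have hQnorm : ∀ g ∈ N, ∀ o ∈ Q, g * o * g⁻¹ ∈ Q := fun g hg o ho =>
    (Subgroup.mem_normalizer_iff.1 hg o).1 ho
  have huN : u ∉ N := fun huN => by
    obtain ⟨d, hd, o, ho, e⟩ := hNel u huN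
    rcases eq_or_ne o 1 with rfl | ho1
    · exact huD (by rw [← e, mul_one]; exact hd)
    refine hDbot (eq_bot_iff.2 fun c hc => mem_bot.2 (hcomm c hc o ho ho1 ?_))
    have h1 : o * c * o⁻¹ ∈ D := by
      rw [show o * c * o⁻¹ = d⁻¹ * (u * c * u⁻¹) * d by rw [← e]; group, huinv c hc]
      exact mul_mem (mul_mem (inv_mem hd) (inv_mem hc)) hd
    have h2 : o * c * o⁻¹ * c⁻¹ ∈ Q ⊓ D := mem_inf.2 ⟨by
      rw [show o * c * o⁻¹ * c⁻¹ = o * (c * o⁻¹ * c⁻¹) by group]
      exact mul_mem ho (hQnorm c (hDN hc) _ (inv_mem ho)), mul_mem h1 (inv_mem hc)⟩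
    rw [hdisj, mem_bot, mul_inv_eq_one, mul_inv_eq_iff_eq_mul] at h2
    exact h2.symm
  -- the action
  set p : G ⧸ N := ((1 : G) : G ⧸ N) with hp
  have hfix : ∀ g : G, g • p = p ↔ g ∈ N := fun g => by
    rw [hp, MulAction.Quotient.smul_coe, smul_eq_mul, mul_one, QuotientGroup.eq, mul_one, inv_mem_iff]
  have hstab : MulAction.stabilizer G p = N := Subgroup.ext fun g => by
    rw [MulAction.mem_stabilizer_iff, hfix]
  have hfree : ∀ o ∈ Q, ∀ z : G ⧸ N, z ≠ p → o • z = z → o = 1 := by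
    intro o ho z hz e
    obtain ⟨g, rfl⟩ := QuotientGroup.mk_surjective z
    have hgN : g ∉ N := fun hg => hz (QuotientGroup.eq.2 (by simpa using inv_mem hg))
    by_contra ho1
    rw [MulAction.Quotient.smul_coe, smul_eq_mul, QuotientGroup.eq, mul_inv_rev] at e
    have h1 : g⁻¹ * o⁻¹ * g ∈ Q := by
      refine hQord _ e ?_
      rw [show g⁻¹ * o⁻¹ * g = g⁻¹ * o⁻¹ * g⁻¹⁻¹ by group, conj_pow, conj_eq_one_iff]
      exact orderOf_dvd_iff_pow_eq_one.1 (Subgroup.orderOf_dvd_natCard Q (inv_mem ho))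
    exact hgN (inv_mem_iff.1 (hTI g⁻¹ o⁻¹ (inv_mem ho) (inv_ne_one.2 ho1) (by rwa [inv_inv])))
  have hcardΩ : Nat.card (G ⧸ N) = q + 1 := by rw [← Subgroup.index_eq_card, hidx]
  have hreg : ∀ y z : G ⧸ N, y ≠ p → z ≠ p → ∃! o : Q, (o : G) • y = z := by
    intro y z hy hz
    let f : Q → {z : G ⧸ N // z ≠ p} := fun o => ⟨(o : G) • y, fun e => hy (by
      rw [← inv_smul_smul (o : G) y, e, hfix]; exact hQN (inv_mem o.2))⟩
    have hf : Function.Injective f := fun a b e => Subtype.ext (by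
      have e' : (a : G) • y = (b : G) • y := congrArg Subtype.val e
      refine (inv_mul_eq_one.1 (hfree ((b : G)⁻¹ * a) (mul_mem (inv_mem b.2) a.2) y hy ?_)).symm
      rw [mul_smul, e', inv_smul_smul])
    have hb' : Function.Bijective f := by
      classical
      letI := Fintype.ofFinite Q
      letI := Fintype.ofFinite (G ⧸ N)
      refine (Fintype.bijective_iff_injective_and_card f).2 ⟨hf, ?_⟩
      rw [Fintype.card_subtype_compl, Fintype.card_subtype_eq, ← Nat.card_eq_fintype_card,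
        ← Nat.card_eq_fintype_card, hcardΩ, ← hq, Nat.add_sub_cancel]
    obtain ⟨o, ho⟩ := hb'.2 ⟨z, hz⟩
    have ho' : (o : G) • y = z := congrArg Subtype.val ho
    exact ⟨o, ho', fun o2 ho2 => hf (Subtype.ext (ho2.trans ho'.symm))⟩
  have h2t : MulAction.IsMultiplyPretransitive G (G ⧸ N) 2 := by
    rw [MulAction.is_two_pretransitive_iff]
    intro a b c d hab hcd
    obtain ⟨g, hg⟩ := MulAction.exists_smul_eq G a p
    obtain ⟨k, hk⟩ := MulAction.exists_smul_eq G c p
    obtain ⟨o, ho, -⟩ := hreg (g • b) (k • d) (fun e => hab (MulAction.injective g (hg.trans e.symm)))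
      (fun e => hcd (MulAction.injective k (hk.trans e.symm)))
    refine ⟨k⁻¹ * o * g, ?_, ?_⟩
    · rw [mul_smul, mul_smul, hg, (hfix _).2 (hQN o.2), ← hk, inv_smul_smul]
    · rw [mul_smul, mul_smul, ho, inv_smul_smul]
  have hpu : u • p ≠ p := fun e => huN ((hfix u).1 e)
  have hDfix : ∀ d ∈ D, d • u • p = u • p := fun d hd => by
    rw [← mul_smul, show d * u = u * (u⁻¹ * d * u) by group, mul_smul]
    congr 1
    rw [hfix, Invol.invol_inv hu]
    have h1 := huinv d hd
    rw [Invol.invol_inv hu] at h1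
    rw [h1]
    exact hDN (inv_mem hd)
  have hstab2 : ∀ g : G, g • p = p → g • u • p = u • p → g ∈ D := fun g hg hgu => by
    obtain ⟨d, hd, o, ho, rfl⟩ := hNel g ((hfix g).1 hg)
    rw [hfree o ho (u • p) hpu ?_, mul_one]
    · exact hd
    rw [mul_smul] at hgu
    exact MulAction.injective d (hgu.trans (hDfix d hd).symm)
  have hZ : Cfsg.IsZassenhausGroup G (G ⧸ N) := by
    refine ⟨?_, h2t, ?_, ?_, ?_⟩
    · refine ⟨fun {g k} hgk => ?_⟩
      rcases (inferInstance : N.normalCore.Normal).eq_bot_or_eq_top with h1 | h1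
      · have h2 : k⁻¹ * g ∈ N.normalCore := by
          rw [Subgroup.normalCore_eq_ker, MonoidHom.mem_ker]
          exact Equiv.ext fun z => by
            show (k⁻¹ * g) • z = z
            rw [mul_smul, hgk, inv_smul_smul]
        rw [h1, mem_bot, inv_mul_eq_one] at h2
        exact h2.symm
      · exact absurd ((h1 ▸ Subgroup.normalCore_le N : (⊤ : Subgroup G) ≤ N) (mem_top u)) huN
    · intro g a b c hab hbc hac ha' hb' hc'
      obtain ⟨k, hka, hkb⟩ := (MulAction.is_two_pretransitive_iff.1 h2t) hab hpu.symm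
      have key : ∀ {y : G ⧸ N}, g • y = y → (k * g * k⁻¹) • k • y = k • y := fun {y} hy => by
        rw [mul_smul, mul_smul, inv_smul_smul, hy]
      have hd : k * g * k⁻¹ ∈ D := hstab2 _ (hka ▸ key ha') (hkb ▸ key hb')
      obtain ⟨o, ho, -⟩ := hreg (u • p) (k • c) hpu
        (fun e => hac (MulAction.injective k (hka.trans e.symm)))
      have ho1 : (o : G) ≠ 1 := fun e => hbc (MulAction.injective k (by
        rw [e, one_smul] at ho; exact hkb.trans ho))
      set d := k * g * k⁻¹ with hddef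
      have hd2 : (o : G)⁻¹ * d * o ∈ D := by
        refine hstab2 _ ((hfix _).2 (mul_mem (mul_mem (hQN (inv_mem o.2)) (hDN hd)) (hQN o.2))) ?_
        rw [mul_smul, mul_smul, ho, key hc', ← ho, inv_smul_smul]
      have h2 : d⁻¹ * ((o : G)⁻¹ * d * o) ∈ Q ⊓ D := mem_inf.2 ⟨by
        rw [show d⁻¹ * ((o : G)⁻¹ * d * o) = d⁻¹ * (o : G)⁻¹ * d⁻¹⁻¹ * o by group]
        exact mul_mem (hQnorm _ (hDN (inv_mem hd)) _ (inv_mem o.2)) o.2,
        mul_mem (inv_mem hd) hd2⟩
      rw [hdisj, mem_bot, inv_mul_eq_one, eq_comm, mul_assoc, inv_mul_eq_iff_eq_mul] at h2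
      exact conj_eq_one_iff.1 (hcomm d hd o o.2 ho1 h2)
    · obtain ⟨d, hd, hd1⟩ := D.bot_or_exists_ne_one.resolve_left hDbot
      exact ⟨d, hd1, p, u • p, hpu.symm, (hfix d).2 (hDN hd), hDfix d hd⟩
    · intro M hM hMt
      rcases hM.eq_bot_or_eq_top with rfl | rfl
      · obtain ⟨⟨g, hg⟩, hgp⟩ := hMt.exists_smul_eq p (u • p)
        rw [mem_bot] at hg
        subst hg
        exact absurd ((one_smul G p).symm.trans hgp).symm hpu
      · obtain ⟨d, hd, hd1⟩ := D.bot_or_exists_ne_one.resolve_left hDbot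
        refine ⟨p, fun e => hd1 ?_⟩
        have h1 : (⟨d, mem_top d⟩ : (⊤ : Subgroup G)) ∈ MulAction.stabilizer (⊤ : Subgroup G) p :=
          (hfix d).2 (hDN hd)
        exact congrArg Subtype.val (mem_bot.1 (e.le h1))
  rcases Cfsg.Agent.S0731.result hZ p Q (hstab.symm ▸ hQN)
      (by rw [hstab]; exact Subgroup.normal_in_normalizer)
      ⟨⟨fun a b => Subtype.ext (hQab a a.2 b b.2)⟩⟩ hreg with ⟨h3, h3s⟩ | ⟨K, i1, i2, hK, hiso⟩
  · exfalso
    classical
    letI := Fintype.ofFinite (G ⧸ N)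
    haveI : MulAction.IsPretransitive G (Fin 3 ↪ G ⧸ N) := h3
    obtain ⟨x⟩ : Nonempty (Fin 3 ↪ G ⧸ N) := Function.Embedding.nonempty_of_card_le (by
      rw [Fintype.card_fin, ← Nat.card_eq_fintype_card, hcardΩ]; omega)
    have h1 := MulAction.index_stabilizer_of_transitive G x
    rw [h3s x, index_bot, Nat.card_eq_fintype_card (α := Fin 3 ↪ G ⧸ N), Fintype.card_embedding_eq,
      Fintype.card_fin, ← Nat.card_eq_fintype_card, hcardΩ, hG2, ← hQD] at h1
    simp only [Nat.descFactorial_succ, Nat.descFactorial_zero, Nat.sub_zero, mul_one,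
      Nat.add_sub_cancel, show 2 * m + 1 + 1 - 2 = 2 * m by omega] at h1
    have h2 : 0 < m * (2 * m + 1) * (2 * (m + 1)) := by positivity
    nlinarith [h1, h2]
  · exact ⟨K, i1, i2, Nat.odd_iff.2 (FiniteField.odd_card_of_char_ne_two hK), hiso⟩

end CfsgLib.BSW
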