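import Cfsg.Agent.Lib.BSW.Real

/-!
# The two congruence cases
-/

set_option autoImplicit false
set_option linter.unusedSectionVars false

open Subgroup Cfsg
open scoped ComplexConjugate

namespace CfsgLib.BSW

universe u

variable {G : Type u} [Group G] [Fintype G] {t s : G} {K : Subgroup G}
  {A : IrrCharacter G} {a : G → ℤ} {δ : ℤ} {q r : ℕ}

/-- The conclusion of the theorem. -/
def Concl (G : Type u) [Group G] : Prop :=
  ∃ Q D : Subgroup G, 2 * Nat.card G = Nat.card ↥Q * (Nat.card ↥Q + 1) * (Nat.card ↥Q - 1) ∧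
    (∀ x ∈ Q, x ≠ 1 → Subgroup.centralizer ({x} : Set G) = Q) ∧
    IsMulCommutative ↥D ∧ 2 * Nat.card ↥D + 1 = Nat.card ↥Q ∧ Q ⊓ D = ⊥ ∧
    Subgroup.normalizer (Q : Set G) = Q ⊔ D ∧
    ∀ X : Subgroup G, X ≤ D → X ≠ ⊥ →
      Subgroup.normalizer (X : Set G) = Subgroup.normalizer (D : Set G) ∧
      ∃ u : G, orderOf u = 2 ∧ u ∉ D ∧ (∀ d ∈ D, u * d * u⁻¹ = d⁻¹) ∧
        Subgroup.normalizer (D : Set G) = D ⊔ Subgroup.zpowers u

theorem mem_centralizer_conj {g y x : G} :
    g * x * g⁻¹ ∈ centralizer ({g * y * g⁻¹} : Set G) ↔ x ∈ centralizer ({y} : Set G) := by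
  simp only [mem_centralizer_singleton_iff]
  rw [show g * x * g⁻¹ * (g * y * g⁻¹) = g * (x * y) * g⁻¹ by group,
    show g * y * g⁻¹ * (g * x * g⁻¹) = g * (y * x) * g⁻¹ by group, mul_left_inj, mul_right_inj]

theorem card_centralizer_conj (g y : G) :
    Nat.card (centralizer ({g * y * g⁻¹} : Set G)) = Nat.card (centralizer ({y} : Set G)) :=
  (Nat.card_congr ((MulAut.conj g).toEquiv.subtypeEquiv fun _ => mem_centralizer_conj.symm)).symm

namespace Data

variable (h : Hyp t s K) (D : Data K t A a δ q r)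

include h D

open scoped Classical in
theorem sum_pairs :
    ((∑ y ∈ Finset.univ.filter (fun y : G => ¬ IntoK K y), pairs y : ℕ) : ℤ) =
      (q : ℤ) * r * ((q : ℤ) * r - 1 - ((Nat.card K : ℤ) - 1) * Nat.card K) := by
  have h1 := congrArg (fun n : ℕ => (n : ℤ)) h.pairs_total
  rw [D.idx] at h1
  push_cast [Nat.cast_sub (Nat.card_pos (α := K))] at h1 ⊢
  linarith

theorem order_eq : 2 * Nat.card G = q * (q + 1) * (q - 1) := by
  have hq := q_pos h D
  apply Int.ofNat.inj
  show ((2 * Nat.card G : ℕ) : ℤ) = ((q * (q + 1) * (q - 1) : ℕ) : ℤ)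
  push_cast [card_G h D, Nat.cast_sub (by omega : 1 ≤ q)]
  linear_combination -(q : ℤ) * four_kr h D

/-- Centralizers of nontrivial elements of the centralizer of a vanishing, inverted element. -/
theorem ti_zero {y u : G} (hy : ¬ IntoK K y) (ha : a y = 0) (hu : orderOf u = 2)
    (hinv : u * y * u⁻¹ = y⁻¹) {z : G} (hz : z ∈ centralizer ({y} : Set G)) (hz1 : z ≠ 1) :
    centralizer ({z} : Set G) = centralizer ({y} : Set G) ∧ a z = 0 ∧ ¬ IntoK K z := by
  have hzZ := h.outside_centralizer hy hz hz1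
  have hle : centralizer ({y} : Set G) ≤ centralizer ({z} : Set G) := fun c hc =>
    mem_centralizer_singleton_iff.2 (h.comm_centralizer hy hu hinv hc hz)
  have hd := card_dvd_of_le hle
  rw [card_zero h D hy ha] at hd
  have ha0 : a z = 0 := by
    by_contra hne
    have h2 := Nat.eq_one_of_dvd_coprimes (coprime_kqr h D).2.2 dvd_rfl (hd.trans (dvd_r h D hzZ hne))
    have := q_pos h D
    omega
  refine ⟨(eq_of_le_of_card_ge hle ?_).symm, ha0, hzZ⟩
  rw [card_zero h D hy ha, card_zero h D hzZ ha0]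

/-- The normalizer of the centralizer of a vanishing element inverted by `t`. -/
theorem norm_zero {y : G} (hy : ¬ IntoK K y) (ha : a y = 0) (hinv : t * y * t⁻¹ = y⁻¹) :
    q - 1 ≤ 2 * Nat.card (Subgroup.normalizer ((centralizer ({y} : Set G) : Subgroup G) : Set G) ⊓ K :
      Subgroup G) := by
  classical
  have h1 := h.count_conjugates (fun z => ¬ IntoK K z ∧ a z = 0)
    (fun g z hz => ⟨by rw [intoK_conj]; exact hz.1, by rw [a_conj h D]; exact hz.2⟩)
    (fun z hz hz1 => (ti_zero h D hy ha h.ht hinv hz hz1).1)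
    (fun z hz hz1 => ⟨(ti_zero h D hy ha h.ht hinv hz hz1).2.2, (ti_zero h D hy ha h.ht hinv hz hz1).2.1⟩)
  rw [card_zero h D hy ha] at h1
  have h2 : (Finset.univ.filter (fun z : G => ¬ IntoK K z ∧ a z = 0)).card = 4 * Nat.card K * r := by
    have h3 := (card_zeros h D).1
    rw [four_kr h D] at h3
    exact_mod_cast h3
  replace h1 : (Subgroup.normalizer ((centralizer ({y} : Set G) : Subgroup G) : Set G)).index * (q - 1) ≤
      4 * Nat.card K * r := h1.trans (le_of_eq (by convert h2))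
  have h4 := (Subgroup.normalizer ((centralizer ({y} : Set G) : Subgroup G) : Set G)).card_mul_index
  rw [h.card_normalizer hy hinv, card_zero h D hy ha, card_G h D] at h4
  generalize Nat.card (Subgroup.normalizer ((centralizer ({y} : Set G) : Subgroup G) : Set G) ⊓ K :
    Subgroup G) = d at h4 ⊢
  generalize (Subgroup.normalizer ((centralizer ({y} : Set G) : Subgroup G) : Set G)).index = j at h1 h4
  have hq := q_pos h D
  have hk := k_two_le h D
  have hr := r_pos h D
  have h5 : j * d = 2 * Nat.card K * r := by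
    apply Nat.eq_of_mul_eq_mul_left (show 0 < q by omega)
    linarith
  have hkr : 0 < 2 * Nat.card K * r := Nat.mul_pos (by omega) (by omega)
  refine Nat.le_of_mul_le_mul_left (?_ : 2 * Nat.card K * r * (q - 1) ≤ 2 * Nat.card K * r * (2 * d)) hkr
  calc 2 * Nat.card K * r * (q - 1) = d * (j * (q - 1)) := by rw [← h5]; ring
    _ ≤ d * (4 * Nat.card K * r) := Nat.mul_le_mul_left d h1
    _ = 2 * Nat.card K * r * (2 * d) := by ring

theorem exists_inverting {y : G} (hp : pairs y ≠ 0) :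
    ∃ u : G, orderOf u = 2 ∧ u * y * u⁻¹ = y⁻¹ := by
  obtain ⟨u, v, hu, hv, rfl⟩ := (pairs_pos_iff y).1 hp
  exact ⟨u, hu, Invol.invol_conj_mul hu hv⟩

theorem concl_plus (hδ : δ = 1) : Concl G := by
  classical
  have hq' := D.hq
  have hr' := D.hr
  rw [hδ] at hq' hr'
  obtain ⟨y, hy, ha, hp⟩ : ∃ y, ¬ IntoK K y ∧ a y = 0 ∧ pairs y ≠ 0 := by
    by_contra hc
    push Not at hc
    have h1 := sum_pairs h D
    have h2 : (∑ y ∈ Finset.univ.filter (fun y : G => ¬ IntoK K y), pairs y) ≤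
        r * (Finset.univ.filter (fun y : G => ¬ IntoK K y ∧ a y ≠ 0)).card := by
      rw [← Finset.sum_filter_ne_zero, Finset.filter_filter]
      calc ∑ y ∈ Finset.univ.filter (fun y : G => ¬ IntoK K y ∧ pairs y ≠ 0), pairs y
          ≤ ∑ y ∈ Finset.univ.filter (fun y : G => ¬ IntoK K y ∧ pairs y ≠ 0), r := by
            refine Finset.sum_le_sum fun y hy => ?_
            obtain ⟨-, hy1, hy2⟩ := Finset.mem_filter.1 hy
            exact (h.pairs_le_centralizer y).trans (Nat.le_of_dvd (r_pos h D)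
              (dvd_r h D hy1 fun e => hy2 (hc y hy1 e)))
        _ ≤ _ := by
            rw [Finset.sum_const, smul_eq_mul, mul_comm]
            refine Nat.mul_le_mul_left r (Finset.card_le_card fun y hy => ?_)
            obtain ⟨-, hy1, hy2⟩ := Finset.mem_filter.1 hy
            exact Finset.mem_filter.2 ⟨Finset.mem_univ _, hy1, fun e => hy2 (hc y hy1 e)⟩
    have h3 : ((∑ y ∈ Finset.univ.filter (fun y : G => ¬ IntoK K y), pairs y : ℕ) : ℤ) ≤
        (r : ℤ) * ((Finset.univ.filter (fun y : G => ¬ IntoK K y ∧ a y ≠ 0)).card : ℤ) := by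
      exact_mod_cast h2
    rw [h1, (card_zeros h D).2, hδ] at h3
    have hk := k_two_le h D
    have hqr : (0 : ℤ) < (q : ℤ) * r := by
      have := q_pos h D; have := r_pos h D; positivity
    have h4 : (q : ℤ) * r - 1 - ((Nat.card K : ℤ) - 1) * Nat.card K ≤
        1 + (r : ℤ) * ((Nat.card K : ℤ) - 1) := by
      refine le_of_mul_le_mul_left ?_ hqr
      linarith
    rw [hq', hr'] at h4
    nlinarith
  obtain ⟨u, hu, hinv⟩ := exists_inverting h D hp
  obtain ⟨g, hg⟩ := h.conj_to_t hu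
  set y' := g * y * g⁻¹ with hy'
  have hyZ : ¬ IntoK K y' := by rw [hy', intoK_conj]; exact hy
  have ha' : a y' = 0 := by rw [hy', a_conj h D]; exact ha
  have hinv' : t * y' * t⁻¹ = y'⁻¹ := by
    rw [← hg, hy', show g * u * g⁻¹ * (g * y * g⁻¹) * (g * u * g⁻¹)⁻¹ = g * (u * y * u⁻¹) * g⁻¹ by group,
      hinv]
    group
  set Q := centralizer ({y'} : Set G) with hQ
  have hQc : Nat.card Q = q := card_zero h D hyZ ha'
  have hd := norm_zero h D hyZ ha' hinv'
  have hKle : K ≤ Subgroup.normalizer (Q : Set G) := by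
    have heq : Subgroup.normalizer (Q : Set G) ⊓ K = K := by
      refine eq_of_le_of_card_ge inf_le_right ?_
      rw [← hQ] at hd
      omega
    exact heq ▸ inf_le_left
  have hdisj : Q ⊓ K = ⊥ := by
    refine (eq_bot_iff).2 fun c hc => ?_
    rw [mem_bot]
    by_contra hc1
    exact h.outside_centralizer hyZ hc.1 hc1 ⟨1, by simpa using hc.2⟩
  have hN : Subgroup.normalizer (Q : Set G) = Q ⊔ K := by
    refine le_antisymm (fun n hn => ?_) (sup_le le_normalizer hKle)
    obtain ⟨z, hz, hzc⟩ := h.norm_decomp hyZ h.ht hinv' hn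
    have hzK := h.norm_fixed hyZ hinv' (mul_mem (le_normalizer hz) hn) (mem_centralizer_singleton_iff.2 hzc)
    rw [show n = z⁻¹ * (z * n) by rw [inv_mul_cancel_left]]
    exact mul_mem (mem_sup_left (inv_mem hz)) (mem_sup_right hzK)
  have hNK : ∀ X : Subgroup G, X ≤ K → X ≠ ⊥ →
      Subgroup.normalizer (X : Set G) = centralizer ({t} : Set G) := by
    intro X hX hX1
    refine le_antisymm (fun n hn => ?_) (fun c hc => ?_)
    · obtain ⟨x, hx, hx1⟩ := X.ne_bot_iff_exists_ne_one.1 hX1 |> fun ⟨x, hx⟩ =>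
        (⟨x.1, x.2, fun e => hx (Subtype.ext e)⟩ : ∃ x, x ∈ X ∧ x ≠ 1)
      exact h.conj_mem_H (hX hx) hx1 (hX ((Subgroup.mem_normalizer_iff.1 hn x).1 hx))
    · rw [Subgroup.mem_normalizer_iff]
      rcases h.mem_cases hc with h1 | h1
      · intro x
        constructor
        · intro hx; rwa [h.comm c h1 x (hX hx), mul_inv_cancel_right]
        · intro hx
          have h2 := h.comm c⁻¹ (inv_mem h1) _ (hX hx)
          rw [show c⁻¹ * (c * x * c⁻¹) = x * c⁻¹ by group] at h2
          have h3 : x = c * x * c⁻¹ := mul_right_cancel h2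
          rwa [← h3] at hx
      · have hcs : c = s * (s * c) := by rw [← mul_assoc, Invol.invol_mul_self h.hs, one_mul]
        have hci : orderOf c = 2 := hcs ▸ h.smul_invol h1
        intro x
        constructor
        · intro hx
          rw [hcs, h.sK_inv h1 (hX hx)]
          exact inv_mem hx
        · intro hx
          have h2 := h.sK_inv h1 (hX hx)
          rw [← hcs, show c * (c * x * c⁻¹) * c⁻¹ = (c * c) * x * (c * c)⁻¹ by group,
            Invol.invol_mul_self hci, one_mul, inv_one, mul_one] at h2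
          rw [h2]
          exact inv_mem hx
  refine ⟨Q, K, ?_, fun x hx hx1 => (ti_zero h D hyZ ha' h.ht hinv' hx hx1).1, h.isComm, ?_, hdisj, hN, ?_⟩
  · rw [hQc]; exact order_eq h D
  · rw [hQc]; omega
  · intro X hX hX1
    have hKne : K ≠ ⊥ := fun e => by
      have := h.tK
      rw [e, mem_bot] at this
      exact h.t_ne_one this
    refine ⟨(hNK X hX hX1).trans (hNK K le_rfl hKne).symm, s, h.hs, h.sK, h.inv, ?_⟩
    rw [hNK K le_rfl hKne, h.gen]

theorem no_real_zero (hδ : δ = -1) {y u : G} (hy : ¬ IntoK K y) (ha : a y = 0) (hu : orderOf u = 2)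
    (hinv : u * y * u⁻¹ = y⁻¹) : False := by
  classical
  have hq' := D.hq
  have hr' := D.hr
  rw [hδ] at hq' hr'
  obtain ⟨g, hg⟩ := h.conj_to_t hu
  have hyZ : ¬ IntoK K (g * y * g⁻¹) := by rw [intoK_conj]; exact hy
  have ha' : a (g * y * g⁻¹) = 0 := by rw [a_conj h D]; exact ha
  have hinv' : t * (g * y * g⁻¹) * t⁻¹ = (g * y * g⁻¹)⁻¹ := by
    rw [← hg, show g * u * g⁻¹ * (g * y * g⁻¹) * (g * u * g⁻¹)⁻¹ = g * (u * y * u⁻¹) * g⁻¹ by group, hinv]
    group
  have hd := norm_zero h D hyZ ha' hinv'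
  have hdk := card_dvd_of_le (inf_le_right :
    Subgroup.normalizer ((centralizer ({g * y * g⁻¹} : Set G) : Subgroup G) : Set G) ⊓ K ≤ K)
  have hdq := h.dvd_card_sub_one hyZ
  rw [card_zero h D hyZ ha'] at hdq
  generalize Nat.card (Subgroup.normalizer ((centralizer ({g * y * g⁻¹} : Set G) : Subgroup G) : Set G) ⊓ K :
    Subgroup G) = d at hd hdk hdq
  have hq1 : q - 1 = 2 * (Nat.card K - 1) := by omega
  have h2 : d ∣ 2 := by
    have h3 := Nat.dvd_sub (hdk.mul_left 2) hdq
    rwa [show 2 * Nat.card K - (q - 1) = 2 by omega] at h3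
  have hd2 := Nat.le_of_dvd two_pos h2
  obtain ⟨m, hm⟩ := h.two_dvd_k
  have hk := k_two_le h D
  have hk2 : Nat.card K = 2 := by omega
  have h4 := sum_pairs h D
  have hp : pairs y ≠ 0 := by
    refine (pairs_pos_iff y).2 ⟨u, u * y, hu, ?_, by rw [← mul_assoc, Invol.invol_mul_self hu, one_mul]⟩
    rw [Invol.invol_iff]
    refine ⟨?_, fun e => hy ?_⟩
    · rw [Invol.invol_inv hu] at hinv
      rw [show u * y * (u * y) = u * y * u * y by group, hinv, inv_mul_cancel]
    · rw [eq_inv_of_mul_eq_one_right e, Invol.invol_inv hu]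
      exact h.intoK_invol hu
  have h5 : 0 < ∑ z ∈ Finset.univ.filter (fun z : G => ¬ IntoK K z), pairs z :=
    (Nat.pos_of_ne_zero hp).trans_le (Finset.single_le_sum (f := pairs) (fun _ _ => Nat.zero_le _)
      (Finset.mem_filter.2 ⟨Finset.mem_univ y, hy⟩))
  have hq3 : q = 3 := by omega
  have hr1 : r = 1 := by omega
  rw [hk2, hq3, hr1] at h4
  norm_num at h4
  exact h5.ne' (by exact_mod_cast h4)

theorem pairs_zero (hδ : δ = -1) {y : G} (hy : ¬ IntoK K y) (ha : a y = 0) : pairs y = 0 := by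
  by_contra hp
  obtain ⟨u, hu, hinv⟩ := exists_inverting h D hp
  exact no_real_zero h D hδ hy ha hu hinv

theorem pairs_nonzero (hδ : δ = -1) {y : G} (hy : ¬ IntoK K y) (ha : a y ≠ 0) :
    pairs y = r ∧ Nat.card (centralizer ({y} : Set G)) = r := by
  classical
  have hle : ∀ z ∈ Finset.univ.filter (fun z : G => ¬ IntoK K z ∧ a z ≠ 0), pairs z ≤ r := fun z hz =>
    (h.pairs_le_centralizer z).trans (Nat.le_of_dvd (r_pos h D)
      (dvd_r h D (Finset.mem_filter.1 hz).2.1 (Finset.mem_filter.1 hz).2.2))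
  have hsum : ∑ z ∈ Finset.univ.filter (fun z : G => ¬ IntoK K z ∧ a z ≠ 0), pairs z =
      ∑ _z ∈ Finset.univ.filter (fun z : G => ¬ IntoK K z ∧ a z ≠ 0), r := by
    have h1 := sum_pairs h D
    have h2 : ∑ z ∈ Finset.univ.filter (fun z : G => ¬ IntoK K z ∧ a z ≠ 0), pairs z =
        ∑ z ∈ Finset.univ.filter (fun z : G => ¬ IntoK K z), pairs z := by
      refine Finset.sum_subset (fun z hz => ?_) fun z hz hz' => ?_
      · exact Finset.mem_filter.2 ⟨Finset.mem_univ _, (Finset.mem_filter.1 hz).2.1⟩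
      · have hzZ := (Finset.mem_filter.1 hz).2
        exact pairs_zero h D hδ hzZ (by_contra fun e => hz' (Finset.mem_filter.2 ⟨Finset.mem_univ _, hzZ, e⟩))
    rw [Finset.sum_const, smul_eq_mul, h2]
    apply Int.ofNat.inj
    show ((∑ z ∈ _, pairs z : ℕ) : ℤ) = ((_ * r : ℕ) : ℤ)
    rw [h1, Nat.cast_mul, (card_zeros h D).2, D.hr, D.hq, hδ]
    ring
  have h3 := (Finset.sum_eq_sum_iff_of_le hle).1 hsum y (Finset.mem_filter.2 ⟨Finset.mem_univ _, hy, ha⟩)
  refine ⟨h3, le_antisymm (Nat.le_of_dvd (r_pos h D) (dvd_r h D hy ha)) ?_⟩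
  exact h3 ▸ h.pairs_le_centralizer y

/-- The centralizers of order `r` and their normalizers. -/
theorem r_centralizer (hδ : δ = -1) {y : G} (hy : ¬ IntoK K y) (ha : a y ≠ 0) :
    (∀ b ∈ centralizer ({y} : Set G), ∀ c ∈ centralizer ({y} : Set G), b * c = c * b) ∧
    (∀ z ∈ centralizer ({y} : Set G), z ≠ 1 → centralizer ({z} : Set G) = centralizer ({y} : Set G)) ∧
    ∃ u : G, orderOf u = 2 ∧ (∀ c ∈ centralizer ({y} : Set G), u * c * u⁻¹ = c⁻¹) ∧
      ∀ n ∈ Subgroup.normalizer ((centralizer ({y} : Set G) : Subgroup G) : Set G),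
        n ∈ centralizer ({y} : Set G) ∨ u * n ∈ centralizer ({y} : Set G) := by
  obtain ⟨hp, hc⟩ := pairs_nonzero h D hδ hy ha
  have hrp := r_pos h D
  obtain ⟨u, hu, hinv⟩ := exists_inverting h D (y := y) (by omega)
  have hinvall := h.inverts_centralizer hy hu (h.normalizes_of_inverts hu hinv)
  refine ⟨fun b hb c hc' => h.comm_centralizer hy hu hinv hb hc', fun z hz hz1 => ?_, u, hu, hinvall, ?_⟩
  · refine h.ti_centralizer hy hu hinv hc (fun w hw hw1 => ?_) hz hz1
    have hwZ := h.outside_centralizer hy hw hw1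
    refine Nat.le_of_dvd hrp (dvd_r h D hwZ fun hw0 => ?_)
    have hle : centralizer ({y} : Set G) ≤ centralizer ({w} : Set G) := fun c hc' =>
      mem_centralizer_singleton_iff.2 (h.comm_centralizer hy hu hinv hc' hw)
    have hd := card_dvd_of_le hle
    rw [hc, card_zero h D hwZ hw0] at hd
    have h1 := Nat.eq_one_of_dvd_coprimes (coprime_kqr h D).2.2 hd dvd_rfl
    have hwy : Nontrivial (centralizer ({y} : Set G)) :=
      ⟨⟨⟨w, hw⟩, 1, fun e => hw1 (congrArg Subtype.val e)⟩⟩
    have := Finite.one_lt_card (α := centralizer ({y} : Set G))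
    omega
  · intro n hn
    obtain ⟨g, hg⟩ := h.conj_to_t hu
    have hyZ : ¬ IntoK K (g * y * g⁻¹) := by rw [intoK_conj]; exact hy
    have hinv' : t * (g * y * g⁻¹) * t⁻¹ = (g * y * g⁻¹)⁻¹ := by
      rw [← hg, show g * u * g⁻¹ * (g * y * g⁻¹) * (g * u * g⁻¹)⁻¹ = g * (u * y * u⁻¹) * g⁻¹ by group, hinv]
      group
    obtain ⟨z, hz, hzc⟩ := h.norm_decomp hy hu hinv hn
    have hw : g * (z * n) * g⁻¹ ∈
        Subgroup.normalizer ((centralizer ({g * y * g⁻¹} : Set G) : Subgroup G) : Set G) := by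
      have hzn := mul_mem (le_normalizer hz) hn
      rw [Subgroup.mem_normalizer_iff]
      intro x
      rw [show x = g * (g⁻¹ * x * g) * g⁻¹ by group, mem_centralizer_conj,
        Subgroup.mem_normalizer_iff.1 hzn (g⁻¹ * x * g), ← mem_centralizer_conj (g := g)]
      group
    have hwt : g * (z * n) * g⁻¹ ∈ centralizer ({t} : Set G) := by
      rw [← hg, mem_centralizer_conj]
      exact mem_centralizer_singleton_iff.2 hzc
    have hwK := h.norm_fixed hyZ hinv' hw hwt
    set d := Nat.card (Subgroup.normalizer ((centralizer ({g * y * g⁻¹} : Set G) : Subgroup G) : Set G) ⊓ K :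
      Subgroup G) with hd_def
    have hdk : d ∣ Nat.card K := card_dvd_of_le inf_le_right
    have hdr : d ∣ r - 1 := by
      have := h.dvd_card_sub_one hyZ
      rwa [card_centralizer_conj, hc] at this
    have hd2 : d ∣ 2 := by
      have h3 := Nat.dvd_sub hdk hdr
      have hr' := D.hr
      rw [hδ] at hr'
      rwa [show Nat.card K - (r - 1) = 2 by omega] at h3
    have hsq : g * (z * n) * g⁻¹ * (g * (z * n) * g⁻¹) = 1 := by
      have h4 : (⟨_, mem_inf.2 ⟨hw, hwK⟩⟩ : (Subgroup.normalizer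
        ((centralizer ({g * y * g⁻¹} : Set G) : Subgroup G) : Set G) ⊓ K : Subgroup G)) ^ 2 = 1 :=
        orderOf_dvd_iff_pow_eq_one.1 ((_root_.orderOf_dvd_natCard _).trans hd2)
      rw [pow_two] at h4
      exact congrArg Subtype.val h4
    rcases h.invol_K hwK hsq with e | e
    · left
      rw [conj_eq_one_iff] at e
      rw [eq_inv_of_mul_eq_one_right e]
      exact inv_mem hz
    · right
      rw [← hg] at e
      have e' : z * n = u := mul_left_cancel (mul_right_cancel e)
      have e2 : n = z⁻¹ * u := by rw [← e', inv_mul_cancel_left]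
      have h5 := hinvall _ (inv_mem hz)
      rw [inv_inv, Invol.invol_inv hu] at h5
      rw [e2, ← mul_assoc, h5]
      exact hz

end Data
end CfsgLib.BSW
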