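import Cfsg.Agent.Lib.BSW.Pair

/-!
# The common constituent
-/

set_option autoImplicit false
set_option linter.unusedSectionVars false

open Subgroup Cfsg
open scoped ComplexConjugate IsMulCommutative

namespace CfsgLib.BSW

universe u

variable {G : Type u} [Group G] [Fintype G] {t s : G} {K : Subgroup G}

/-- Degree and value at `t` of the common constituent. -/
structure IsCenter (K : Subgroup G) (t : G) (A : IrrCharacter G) (δ : ℤ) (d : ℕ) : Prop where
  ne : A ≠ Block.oneChar G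
  sgn : δ = 1 ∨ δ = -1
  at_t : (A : G → ℂ) t = δ
  deg : (A : G → ℂ) 1 = d
  order : (Nat.card G : ℂ) * ((δ : ℂ) * d - 1) ^ 2 =
    4 * (Nat.card K : ℂ) ^ 3 * ((δ : ℂ) * d * ((δ : ℂ) * d + 1))

/-- `A` occurs in `expFun φ` with sign `δ`, and is alone there with value `±1` at `t`. -/
def Good (t : G) (φ : K →* ℂˣ) (A : IrrCharacter G) (δ : ℤ) : Prop :=
  coef φ A = δ ∧ ∀ B : IrrCharacter G, B ≠ Block.oneChar G → coef φ B ≠ 0 →
    ∀ z : ℤ, (B : G → ℂ) t = z → z ^ 2 = 1 → B = A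

namespace Hyp

variable (h : Hyp t s K)

include h

theorem center_of_pattern {φ : K →* ℂˣ} {μ ν : IrrCharacter G} {x y : ℤ} {d : ℕ}
    (hμ : μ ≠ Block.oneChar G) (hν : ν ≠ Block.oneChar G) (hμν : μ ≠ ν)
    (hf : expFun φ = (Block.oneChar G : G → ℂ) + (μ : G → ℂ) - (ν : G → ℂ)) (hd0 : 0 < d)
    (hd : (μ : G → ℂ) 1 = d) (hd' : (ν : G → ℂ) 1 = (d : ℂ) + 1)
    (hx : (μ : G → ℂ) t = x) (hy : (ν : G → ℂ) t = y)
    (heq : (Nat.card G : ℂ) * (1 + (x : ℂ) ^ 2 / d - (y : ℂ) ^ 2 / (d + 1)) =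
      4 * (Nat.card K : ℂ) ^ 3)
    (hpat : (x = 1 ∧ y ^ 2 = 4) ∨ (y = -1 ∧ x ^ 2 = 4)) :
    ∃ (A : IrrCharacter G) (δ : ℤ) (e : ℕ), IsCenter K t A δ e ∧ Good t φ A δ ∧
      ((x = 1 ∧ A = μ) ∨ (y = -1 ∧ A = ν)) := by
  classical
  have hc := h.coef_of_pair hf
  have hd1 : (d : ℂ) ≠ 0 := by exact_mod_cast hd0.ne'
  have hd2 : (d : ℂ) + 1 ≠ 0 := by exact_mod_cast Nat.succ_ne_zero d
  have hcases : ∀ B : IrrCharacter G, B ≠ Block.oneChar G → coef φ B ≠ 0 → B = μ ∨ B = ν := by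
    intro B hB hB0
    by_contra hh
    push Not at hh
    exact hB0 (by rw [hc B hB, if_neg hh.1, if_neg hh.2, sub_zero])
  rcases hpat with ⟨rfl, hy2⟩ | ⟨rfl, hx2⟩
  · refine ⟨μ, 1, d, ⟨hμ, Or.inl rfl, hx, hd, ?_⟩, ⟨?_, fun B hB hB0 z hz hz2 => ?_⟩, Or.inl ⟨rfl, rfl⟩⟩
    · have hy2' : (y : ℂ) ^ 2 = 4 := by exact_mod_cast hy2
      rw [hy2'] at heq
      field_simp at heq
      push_cast at heq ⊢
      linear_combination heq
    · rw [hc μ hμ, if_pos rfl, if_neg hμν, Int.cast_one, sub_zero]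
    · refine (hcases B hB hB0).resolve_right fun e => ?_
      subst e
      rw [hy, Int.cast_inj] at hz
      subst hz
      omega
  · refine ⟨ν, -1, d + 1, ⟨hν, Or.inr rfl, hy, by rw [hd']; push_cast; rfl, ?_⟩,
      ⟨?_, fun B hB hB0 z hz hz2 => ?_⟩, Or.inr ⟨rfl, rfl⟩⟩
    · have hx2' : (x : ℂ) ^ 2 = 4 := by exact_mod_cast hx2
      rw [hx2'] at heq
      field_simp at heq
      push_cast at heq ⊢
      linear_combination heq
    · rw [hc ν hν, if_pos rfl, if_neg hμν.symm, zero_sub, Int.cast_neg, Int.cast_one]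
    · refine (hcases B hB hB0).resolve_left fun e => ?_
      subst e
      rw [hx, Int.cast_inj] at hz
      subst hz
      omega

theorem mixed {φ ψ : K →* ℂˣ} (hφ : φ * φ ≠ 1) (hψ : ψ * ψ ≠ 1) (hφt : (φ ⟨t, h.tK⟩ : ℂ) = 1)
    (hψt : (ψ ⟨t, h.tK⟩ : ℂ) = -1) :
    ∃ (A : IrrCharacter G) (δ : ℤ) (e : ℕ), IsCenter K t A δ e ∧ Good t φ A δ ∧ Good t ψ A δ := by
  classical
  haveI := h.isComm
  obtain ⟨μ, ν, x, y, d, e, hμ, hν, hμν, hf, hd0, hd, hd', hx, hy, he, -, hxy, heq⟩ :=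
    h.pair_of_nonreal hφ
  obtain ⟨μ', ν', x', y', d', e', hμ', hν', hμν', hf', hd0', hdd, hdd', hx', hy', he', -, hxy', heq'⟩ :=
    h.pair_of_nonreal hψ
  rw [hφt] at he
  rw [hψt] at he'
  obtain rfl : e = 1 := by exact_mod_cast he.symm
  obtain rfl : e' = -1 := by exact_mod_cast he'.symm
  have hne1 : φ ≠ ψ := fun e0 => by
    have := congrArg (fun χ : K →* ℂˣ => (χ ⟨t, h.tK⟩ : ℂ)) e0
    simp only [hφt, hψt] at this
    norm_num at this
  have hne2 : φ * ψ ≠ 1 := fun e0 => by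
    have := congrArg (fun χ : K →* ℂˣ => (χ ⟨t, h.tK⟩ : ℂ)) e0
    simp only [MonoidHom.mul_apply, Units.val_mul, hφt, hψt, MonoidHom.one_apply, Units.val_one] at this
    norm_num at this
  have hinner := h.inner_expFun φ ψ (fun e0 => hφ (MonoidHom.ext fun z => by simp [e0]))
    (fun e0 => hψ (MonoidHom.ext fun z => by simp [e0]))
  rw [if_neg hne1, if_neg hne2, hf, hf'] at hinner
  simp only [Char.classInner_sub_left, Char.classInner_sub_right, Char.classInner_add_left,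
    Char.classInner_add_right, Char.classInner_irr, if_neg hμ, if_neg hν, if_neg hμ'.symm, if_neg hν'.symm,
    add_zero, zero_add, sub_zero, if_true] at hinner
  have hg : (Nat.card G : ℂ) ≠ 0 := by exact_mod_cast Nat.card_pos.ne'
  have hkey : (1 : ℂ) + (x : ℂ) ^ 2 / d - (y : ℂ) ^ 2 / (d + 1) =
      1 + (x' : ℂ) ^ 2 / d' - (y' : ℂ) ^ 2 / (d' + 1) := mul_left_cancel₀ hg (heq.trans heq'.symm)
  have hd1 : (d : ℂ) ≠ 0 := by exact_mod_cast hd0.ne'
  have hd2 : (d : ℂ) + 1 ≠ 0 := by exact_mod_cast Nat.succ_ne_zero d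
  by_cases h1 : μ = μ'
  · subst h1
    rw [hdd, Nat.cast_inj] at hd
    subst hd
    rw [hx', Int.cast_inj] at hx
    subst hx
    have hyy : (y : ℂ) ^ 2 = (y' : ℂ) ^ 2 := by
      field_simp at hkey
      have : (y : ℂ) ^ 2 * (d' : ℂ) = (y' : ℂ) ^ 2 * (d' : ℂ) := by linear_combination -hkey
      exact mul_right_cancel₀ hd1 this
    have hyy' : y ^ 2 = y' ^ 2 := by exact_mod_cast hyy
    have hx1 : x' = 1 := by nlinarith
    subst hx1
    obtain rfl : y = 2 := by omega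
    obtain rfl : y' = -2 := by omega
    obtain ⟨A, δ, m, hA, hG, hA'⟩ := h.center_of_pattern hμ hν hμν hf hd0' hdd hd' hx' hy heq
      (Or.inl ⟨rfl, by norm_num⟩)
    obtain ⟨B, δ', m', hB, hG', hB'⟩ := h.center_of_pattern hμ' hν' hμν' hf' hd0' hdd hdd' hx' hy' heq'
      (Or.inl ⟨rfl, by norm_num⟩)
    obtain ⟨-, rfl⟩ := hA'.resolve_right (fun e0 => by omega)
    obtain ⟨-, rfl⟩ := hB'.resolve_right (fun e0 => by omega)
    have hδ : δ = δ' := by
      have := hA.at_t.symm.trans hB.at_t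
      exact_mod_cast this
    subst hδ
    exact ⟨_, δ, m, hA, hG, hG'⟩
  by_cases h2 : ν = ν'
  · subst h2
    rw [hdd', add_left_inj, Nat.cast_inj] at hd'
    subst hd'
    rw [hy', Int.cast_inj] at hy
    subst hy
    have hxx : (x : ℂ) ^ 2 = (x' : ℂ) ^ 2 := by
      field_simp at hkey
      have : (x : ℂ) ^ 2 * ((d' : ℂ) + 1) = (x' : ℂ) ^ 2 * ((d' : ℂ) + 1) := by linear_combination hkey
      exact mul_right_cancel₀ hd2 this
    have hxx' : x ^ 2 = x' ^ 2 := by exact_mod_cast hxx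
    have hy1 : y' = -1 := by nlinarith
    subst hy1
    obtain rfl : x = -2 := by omega
    obtain rfl : x' = 2 := by omega
    obtain ⟨A, δ, m, hA, hG, hA'⟩ := h.center_of_pattern hμ hν hμν hf hd0' hd hdd' hx hy' heq
      (Or.inr ⟨rfl, by norm_num⟩)
    obtain ⟨B, δ', m', hB, hG', hB'⟩ := h.center_of_pattern hμ' hν' hμν' hf' hd0' hdd hdd' hx' hy' heq'
      (Or.inr ⟨rfl, by norm_num⟩)
    obtain ⟨-, rfl⟩ := hA'.resolve_left (fun e0 => by omega)
    obtain ⟨-, rfl⟩ := hB'.resolve_left (fun e0 => by omega)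
    have hδ : δ = δ' := by
      have := hA.at_t.symm.trans hB.at_t
      exact_mod_cast this
    subst hδ
    exact ⟨_, δ, m, hA, hG, hG'⟩
  exfalso
  rw [if_neg h1, if_neg h2] at hinner
  split_ifs at hinner <;> norm_num at hinner

theorem coef_inv (φ : K →* ℂˣ) (χ : IrrCharacter G) : coef φ⁻¹ (χ : G → ℂ) = coef φ χ := by
  classical
  haveI := h.isComm
  rw [coef, coef]
  congr 1
  refine Fintype.sum_bijective _ (inv_involutive (G := K)).bijective _ _ fun y => ?_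
  rw [MonoidHom.inv_apply, map_inv, h.irr_real_K χ y.2, h.irr_real_K χ (y⁻¹ : K).2, Subgroup.coe_inv,
    Char.irr_inv, h.irr_real_K χ y.2]

theorem good_inv {φ : K →* ℂˣ} {A : IrrCharacter G} {δ : ℤ} (hG : Good t φ A δ) :
    Good t φ⁻¹ A δ :=
  ⟨(h.coef_inv φ A).trans hG.1, fun B hB hB0 => hG.2 B hB (by rwa [h.coef_inv] at hB0)⟩

open scoped Classical in
/-- The characters of `K` are equally divided by their value at `t`. -/
theorem card_halves [IsMulCommutative K] :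
    2 * (Finset.univ.filter (fun φ : K →* ℂˣ => (φ ⟨t, h.tK⟩ : ℂ) = 1)).card = Nat.card K ∧
    2 * (Finset.univ.filter (fun φ : K →* ℂˣ => (φ ⟨t, h.tK⟩ : ℂ) = -1)).card = Nat.card K := by
  have hne : (⟨t, h.tK⟩ : K) ≠ 1 := fun e => h.t_ne_one (congrArg Subtype.val e)
  have hneg : Finset.univ.filter (fun φ : K →* ℂˣ => ¬ (φ ⟨t, h.tK⟩ : ℂ) = 1) =
      Finset.univ.filter (fun φ : K →* ℂˣ => (φ ⟨t, h.tK⟩ : ℂ) = -1) := by
    refine Finset.filter_congr fun φ _ => ⟨(h.phi_t φ).resolve_left, fun e => by rw [e]; norm_num⟩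
  have h1 := Finset.card_filter_add_card_filter_not (s := (Finset.univ : Finset (K →* ℂˣ)))
    (fun φ : K →* ℂˣ => (φ ⟨t, h.tK⟩ : ℂ) = 1)
  rw [hneg, Finset.card_univ, ← Nat.card_eq_fintype_card, card_dual] at h1
  have h2 := sum_dual hne
  rw [← Finset.sum_filter_add_sum_filter_not Finset.univ
    (fun φ : K →* ℂˣ => (φ ⟨t, h.tK⟩ : ℂ) = 1), hneg,
    Finset.sum_congr rfl (g := fun _ => (1 : ℂ)) (fun φ hφ => (Finset.mem_filter.1 hφ).2),
    Finset.sum_congr rfl (g := fun _ => (-1 : ℂ)) (fun φ hφ => (Finset.mem_filter.1 hφ).2),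
    Finset.sum_const, Finset.sum_const, nsmul_eq_mul, nsmul_eq_mul, mul_one, mul_neg, mul_one,
    add_neg_eq_zero, Nat.cast_inj] at h2
  omega

/-- There is one nontrivial real character of `K`. -/
theorem real_unique [IsMulCommutative K] {φ ψ : K →* ℂˣ} (hφ : φ * φ = 1) (hψ : ψ * ψ = 1)
    (hφ1 : φ ≠ 1) (hψ1 : ψ ≠ 1) : φ = ψ := by
  classical
  let sq : K →* K := powMonoidHom 2
  have hker : Nat.card sq.ker = 2 := by
    rw [Nat.card_congr (Equiv.subtypeEquivRight (q := fun y : K => y ∈ ({1, ⟨t, h.tK⟩} : Finset K))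
      fun y => ?_), Nat.card_eq_fintype_card, Fintype.card_coe,
      Finset.card_pair fun e => h.t_ne_one (congrArg Subtype.val e).symm]
    rw [MonoidHom.mem_ker, powMonoidHom_apply, pow_two, Finset.mem_insert, Finset.mem_singleton]
    constructor
    · intro e
      exact (h.invol_K y.2 (congrArg Subtype.val e)).imp (fun e' => Subtype.ext e') fun e' => Subtype.ext e'
    · rintro (rfl | rfl)
      · exact one_mul 1
      · exact Subtype.ext (Invol.invol_mul_self h.ht)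
  have hidx : sq.range.index = 2 := by
    have h1 := sq.range.card_mul_index
    have h2 : Nat.card sq.ker * Nat.card sq.range = Nat.card K := by
      rw [← sq.ker.card_mul_index, Subgroup.index_ker]
    rw [hker] at h2
    have h0 : 0 < Nat.card sq.range := Nat.card_pos
    nlinarith
  have hkill : ∀ χ : K →* ℂˣ, χ * χ = 1 → ∀ y ∈ sq.range, χ y = 1 := by
    rintro χ hχ _ ⟨z, rfl⟩
    rw [powMonoidHom_apply, map_pow, pow_two, ← MonoidHom.mul_apply, hχ, MonoidHom.one_apply]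
  have hval : ∀ χ : K →* ℂˣ, χ * χ = 1 → χ ≠ 1 → ∀ y, y ∉ sq.range → (χ y : ℂ) = -1 := by
    intro χ hχ hχ1 y hy
    have hsq : (χ y : ℂ) * χ y = 1 := by
      rw [← Units.val_mul, ← MonoidHom.mul_apply, hχ, MonoidHom.one_apply, Units.val_one]
    refine (mul_self_eq_one_iff.1 hsq).resolve_left fun e => hχ1 (MonoidHom.ext fun z => ?_)
    by_cases hz : z ∈ sq.range
    · exact hkill χ hχ z hz
    · have hzy : z * y ∈ sq.range := (Subgroup.mul_mem_iff_of_index_two hidx).2 ⟨fun h' => absurd h' hz,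
        fun h' => absurd h' hy⟩
      have h3 := hkill χ hχ _ hzy
      rw [map_mul, show χ y = 1 from Units.ext e, mul_one] at h3
      exact h3
  refine MonoidHom.ext fun y => ?_
  by_cases hy : y ∈ sq.range
  · rw [hkill φ hφ y hy, hkill ψ hψ y hy]
  · exact Units.ext ((hval φ hφ hφ1 y hy).trans (hval ψ hψ hψ1 y hy).symm)

open scoped Classical in
theorem exists_neg [IsMulCommutative K] (hk : 4 ≤ Nat.card K) :
    ∃ ψ : K →* ℂˣ, ψ * ψ ≠ 1 ∧ (ψ ⟨t, h.tK⟩ : ℂ) = -1 := by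
  by_contra hc
  push Not at hc
  have h2 := h.card_halves.2
  have hle : (Finset.univ.filter (fun φ : K →* ℂˣ => (φ ⟨t, h.tK⟩ : ℂ) = -1)).card ≤ 1 := by
    rw [Finset.card_le_one]
    intro a ha b hb
    have hne : ∀ χ ∈ Finset.univ.filter (fun φ : K →* ℂˣ => (φ ⟨t, h.tK⟩ : ℂ) = -1), χ ≠ 1 := by
      intro χ hχ e
      have := (Finset.mem_filter.1 hχ).2
      rw [e, MonoidHom.one_apply, Units.val_one] at this
      norm_num at this
    exact h.real_unique (by_contra fun e => hc a e (Finset.mem_filter.1 ha).2)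
      (by_contra fun e => hc b e (Finset.mem_filter.1 hb).2) (hne a ha) (hne b hb)
  omega

open scoped Classical in
theorem exists_pos [IsMulCommutative K] (hk : 6 ≤ Nat.card K) :
    ∃ φ : K →* ℂˣ, φ * φ ≠ 1 ∧ (φ ⟨t, h.tK⟩ : ℂ) = 1 := by
  by_contra hc
  push Not at hc
  have h2 := h.card_halves.1
  have hle : ((Finset.univ.filter (fun φ : K →* ℂˣ => (φ ⟨t, h.tK⟩ : ℂ) = 1)).erase 1).card ≤ 1 := by
    rw [Finset.card_le_one]
    intro a ha b hb
    obtain ⟨ha1, ha'⟩ := Finset.mem_erase.1 ha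
    obtain ⟨hb1, hb'⟩ := Finset.mem_erase.1 hb
    exact h.real_unique (by_contra fun e => hc a e (Finset.mem_filter.1 ha').2)
      (by_contra fun e => hc b e (Finset.mem_filter.1 hb').2) ha1 hb1
  rw [Finset.card_erase_of_mem (Finset.mem_filter.2 ⟨Finset.mem_univ _, by simp⟩)] at hle
  omega

/-- One constituent is common to all `expFun φ`. -/
theorem exists_center (hk : 4 ≤ Nat.card K) :
    ∃ (A : IrrCharacter G) (δ : ℤ) (d : ℕ), IsCenter K t A δ d ∧
      ∀ φ : K →* ℂˣ, φ * φ ≠ 1 → Good t φ A δ := by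
  classical
  haveI := h.isComm
  obtain ⟨ψ, hψ, hψt⟩ := h.exists_neg hk
  by_cases hk6 : 6 ≤ Nat.card K
  · obtain ⟨φ, hφ, hφt⟩ := h.exists_pos hk6
    obtain ⟨A, δ, d, hA, hAφ, hAψ⟩ := h.mixed hφ hψ hφt hψt
    refine ⟨A, δ, d, hA, fun χ hχ => ?_⟩
    have hsq : δ ^ 2 = 1 := by rcases hA.sgn with e | e <;> rw [e] <;> norm_num
    have hsame : ∀ B δ' d', IsCenter K t B δ' d' → ∀ θ : K →* ℂˣ, Good t θ A δ → Good t θ B δ' →
        B = A ∧ δ' = δ := by
      intro B δ' d' hB θ hθA hθB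
      have hsq' : δ' ^ 2 = 1 := by rcases hB.sgn with e | e <;> rw [e] <;> norm_num
      have h1 : B = A := hθA.2 B hB.ne (by
        rw [hθB.1]; rcases hB.sgn with e | e <;> rw [e] <;> norm_num) δ' hB.at_t hsq'
      subst h1
      exact ⟨rfl, by exact_mod_cast hB.at_t.symm.trans hA.at_t⟩
    rcases h.phi_t χ with e | e
    · obtain ⟨B, δ', d', hB, hBχ, hBψ⟩ := h.mixed hχ hψ e hψt
      obtain ⟨rfl, rfl⟩ := hsame B δ' d' hB ψ hAψ hBψ
      exact hBχ
    · obtain ⟨B, δ', d', hB, hBφ, hBχ⟩ := h.mixed hφ hχ hφt e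
      obtain ⟨rfl, rfl⟩ := hsame B δ' d' hB φ hAφ hBφ
      exact hBχ
  have hk4 : Nat.card K = 4 := by
    obtain ⟨m, hm⟩ := h.two_dvd_k
    omega
  obtain ⟨μ, ν, x, y, d, e, hμ, hν, hμν, hf, hd0, hd, hd', hx, hy, he, -, hxy, heq⟩ :=
    h.pair_of_nonreal hψ
  rw [hψt] at he
  obtain rfl : e = -1 := by exact_mod_cast he.symm
  letI := Fintype.ofFinite (IrrCharacter G)
  have hcol : 1 + x ^ 2 + y ^ 2 ≤ 8 := by
    have h0 := congrArg Complex.re (Char.sum_irr_mul_conj t t)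
    rw [if_pos (IsConj.refl t), h.card_H, hk4, Complex.re_sum, Complex.natCast_re] at h0
    have h3 : ∑ χ ∈ ({Block.oneChar G, μ, ν} : Finset (IrrCharacter G)),
        ((χ : G → ℂ) t * conj ((χ : G → ℂ) t)).re ≤ ((2 * 4 : ℕ) : ℝ) := by
      rw [← h0]
      refine Finset.sum_le_sum_of_subset_of_nonneg (Finset.subset_univ _) fun χ _ _ => ?_
      rw [Complex.mul_conj, Complex.ofReal_re]
      exact Complex.normSq_nonneg _
    rw [Finset.sum_insert (by simp [hμ.symm, hν.symm]), Finset.sum_insert (by simp [hμν]),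
      Finset.sum_singleton, hx, hy, show (Block.oneChar G : G → ℂ) t = 1 from rfl] at h3
    simp only [map_one, mul_one, Complex.one_re, map_intCast, ← Int.cast_mul,
      Complex.intCast_re] at h3
    have h4 : ((1 + x ^ 2 + y ^ 2 : ℤ) : ℝ) ≤ ((8 : ℤ) : ℝ) := by
      push_cast at h3 ⊢
      linarith
    exact_mod_cast h4
  have hy' : y = x - 3 := by omega
  subst hy'
  have hx12 : x = 1 ∨ x = 2 := by
    have h1 : x ≤ 2 := by nlinarith
    have h2 : 1 ≤ x := by nlinarith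
    omega
  obtain ⟨A, δ, m, hA, hAψ, -⟩ := h.center_of_pattern hμ hν hμν hf hd0 hd hd' hx hy heq
    (by rcases hx12 with rfl | rfl
        · exact Or.inl ⟨rfl, by norm_num⟩
        · exact Or.inr ⟨by norm_num, by norm_num⟩)
  refine ⟨A, δ, m, hA, fun χ hχ => ?_⟩
  obtain ⟨hp, hn⟩ := h.card_halves
  rw [hk4] at hp hn
  have hinv_t : ∀ θ : K →* ℂˣ, (θ⁻¹ ⟨t, h.tK⟩ : ℂ) = (θ ⟨t, h.tK⟩ : ℂ) := by
    intro θ
    rw [MonoidHom.inv_apply, ← map_inv]
    congr 2
    exact Subtype.ext (Invol.invol_inv h.ht)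
  have hninv : ∀ θ : K →* ℂˣ, θ * θ ≠ 1 → θ⁻¹ ≠ θ := by
    intro θ hθ e
    refine hθ (MonoidHom.ext fun z => ?_)
    have := DFunLike.congr_fun e z
    rw [MonoidHom.inv_apply] at this
    rw [MonoidHom.mul_apply, MonoidHom.one_apply]
    nth_rw 1 [← this]
    exact inv_mul_cancel _
  rcases h.phi_t χ with e | e
  · exfalso
    have h3 : ({1, χ, χ⁻¹} : Finset (K →* ℂˣ)).card ≤ 2 := by
      have := Finset.card_le_card (s := ({1, χ, χ⁻¹} : Finset (K →* ℂˣ)))
        (t := Finset.univ.filter (fun φ : K →* ℂˣ => (φ ⟨t, h.tK⟩ : ℂ) = 1)) (by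
        intro θ hθ
        simp only [Finset.mem_insert, Finset.mem_singleton] at hθ
        refine Finset.mem_filter.2 ⟨Finset.mem_univ _, ?_⟩
        rcases hθ with rfl | rfl | rfl
        · simp
        · exact e
        · rw [hinv_t]; exact e)
      omega
    have hχ1 : χ ≠ 1 := fun e0 => hχ (MonoidHom.ext fun z => by simp [e0])
    rw [Finset.card_eq_three.2 ⟨1, χ, χ⁻¹, hχ1.symm, fun e0 => hχ1 (MonoidHom.ext fun z => ?_),
      (hninv χ hχ).symm, rfl⟩] at h3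
    · omega
    · have := DFunLike.congr_fun e0 z
      rw [MonoidHom.one_apply, MonoidHom.inv_apply, one_eq_inv] at this
      rw [MonoidHom.one_apply]; exact this
  · have hset : ({ψ, ψ⁻¹} : Finset (K →* ℂˣ)) =
        Finset.univ.filter (fun φ : K →* ℂˣ => (φ ⟨t, h.tK⟩ : ℂ) = -1) := by
      refine Finset.eq_of_subset_of_card_le (fun θ hθ => ?_) ?_
      · simp only [Finset.mem_insert, Finset.mem_singleton] at hθ
        refine Finset.mem_filter.2 ⟨Finset.mem_univ _, ?_⟩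
        rcases hθ with rfl | rfl
        · exact hψt
        · rw [hinv_t]; exact hψt
      · rw [Finset.card_pair (hninv ψ hψ).symm]; omega
    have hm : χ ∈ ({ψ, ψ⁻¹} : Finset (K →* ℂˣ)) := hset ▸ Finset.mem_filter.2 ⟨Finset.mem_univ _, e⟩
    simp only [Finset.mem_insert, Finset.mem_singleton] at hm
    rcases hm with rfl | rfl
    · exact hAψ
    · exact h.good_inv hAψ

end Hyp
end CfsgLib.BSW
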