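import Mathlib
import Cfsg.Agent.Lib.Char.Galois
import Cfsg.Agent.Lib.Char.Linear
import Cfsg.Agent.Lib.Char.PowTwist

/-!
# Integer character values, characters of abelian groups
-/

set_option autoImplicit false
set_option linter.unusedSectionVars false

namespace CfsgLib.BSW

open scoped ComplexConjugate
open Cfsg

universe u

variable {G : Type u} [Group G] [Finite G]

/-- A value unchanged by all coprime powers is an integer. -/
theorem exists_int_value (χ : IrrCharacter G) {g : G}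
    (hg : ∀ m : ℕ, m.Coprime (Nat.card G) → (χ : G → ℂ) (g ^ m) = (χ : G → ℂ) g) :
    ∃ z : ℤ, (χ : G → ℂ) g = z := by
  refine Char.exists_int_of_fixed (Char.isCharacter_isIntegral (Char.isCharacter_irr χ) g) fun φ => ?_
  obtain ⟨m, hm, h⟩ := Char.exists_char_twist (G := G) φ
  rw [h _ (Char.isCharacter_irr χ) g _ rfl, hg m hm]

theorem sum_pow_prime {R : Type*} [CommRing R] {p : ℕ} (hp : p.Prime) {ι : Type*} (S : Finset ι)
    (a : ι → R) : ∃ r, (∑ i ∈ S, a i) ^ p = (∑ i ∈ S, a i ^ p) + p * r := by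
  classical
  induction S using Finset.induction_on with
  | empty => exact ⟨0, by simp [hp.ne_zero]⟩
  | insert b S hb ih =>
    obtain ⟨r, hr⟩ := ih
    obtain ⟨r', hr'⟩ := exists_add_pow_prime_eq hp (a b) (∑ i ∈ S, a i)
    refine ⟨r + a b * (∑ i ∈ S, a i) * r', ?_⟩
    rw [Finset.sum_insert hb, Finset.sum_insert hb, hr', hr]
    ring

/-- An integer valued character at `g` and at `g ^ p` agree modulo `p`. -/
theorem value_pow_prime (χ : IrrCharacter G) {p : ℕ} (hp : p.Prime) {g : G} {a b : ℤ}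
    (ha : (χ : G → ℂ) g = a) (hb : (χ : G → ℂ) (g ^ p) = b) : (p : ℤ) ∣ a - b := by
  obtain ⟨χ, n, ρ, hρ, rfl⟩ := χ
  obtain ⟨bs, μ, h1, -, h3⟩ := Char.exists_eigen_data ρ g
  let R := integralClosure ℤ ℂ
  let μR : Fin (Module.finrank ℂ (Fin n → ℂ)) → R := fun i =>
    ⟨μ i, Char.isIntegral_of_pow_eq_one (orderOf_pos g).ne' (h1 i)⟩
  obtain ⟨r, hr⟩ := sum_pow_prime hp Finset.univ μR
  have h4 := h3 1
  have h5 := h3 p
  simp only [pow_one] at h4
  change ρ.character g = _ at ha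
  change ρ.character (g ^ p) = _ at hb
  rw [ha] at h4
  rw [hb] at h5
  have hr' := congrArg (fun x : R => (x : ℂ)) hr
  simp only [Subalgebra.coe_pow, Subalgebra.coe_add, Subalgebra.coe_mul, AddSubmonoidClass.coe_finset_sum,
    SubringClass.coe_natCast, μR] at hr'
  rw [← h4, ← h5] at hr'
  have hp0 : (p : ℂ) ≠ 0 := by exact_mod_cast hp.ne_zero
  have hq : (r : ℂ) = algebraMap ℚ ℂ (((a : ℚ) ^ p - (b : ℚ)) / p) := by
    rw [eq_ratCast]
    push_cast
    field_simp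
    linear_combination -hr'
  have hint : IsIntegral ℤ (r : ℂ) := r.2
  rw [hq, isIntegral_algebraMap_iff (algebraMap ℚ ℂ).injective] at hint
  obtain ⟨z, hz⟩ := IsIntegrallyClosed.isIntegral_iff.1 hint
  have h6 : a ^ p - b = p * z := by
    have hz' : (z : ℚ) = ((a : ℚ) ^ p - (b : ℚ)) / p := by rw [← hz]; simp
    rw [eq_div_iff (by exact_mod_cast hp.ne_zero)] at hz'
    apply Int.cast_injective (α := ℚ)
    push_cast
    linarith
  haveI := Fact.mk hp
  rw [← ZMod.intCast_zmod_eq_zero_iff_dvd]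
  have h7 : ((a ^ p - b : ℤ) : ZMod p) = 0 := by
    rw [h6]; push_cast; rw [ZMod.natCast_self, zero_mul]
  push_cast at h7 ⊢
  rwa [ZMod.pow_card] at h7

section Abelian

variable {K : Type u} [CommGroup K] [Fintype K]

instance finite_dual : Finite (K →* ℂˣ) := Finite.of_equiv _ Char.linearCharEquiv.symm

noncomputable instance fintype_dual : Fintype (K →* ℂˣ) := Fintype.ofFinite _

theorem sum_lam {φ : K →* ℂˣ} (hφ : φ ≠ 1) : ∑ y : K, (φ y : ℂ) = 0 := by
  obtain ⟨y0, hy0⟩ : ∃ y0, φ y0 ≠ 1 := by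
    by_contra hc
    push Not at hc
    exact hφ (MonoidHom.ext hc)
  have h1 : (φ y0 : ℂ) * ∑ y : K, (φ y : ℂ) = ∑ y : K, (φ y : ℂ) := by
    rw [Finset.mul_sum]
    exact Fintype.sum_bijective _ (Group.mulLeft_bijective y0) _ _ fun y => by
      rw [map_mul, Units.val_mul]
  have h2 : ((φ y0 : ℂ) - 1) * ∑ y : K, (φ y : ℂ) = 0 := by rw [sub_mul, h1, one_mul, sub_self]
  exact (mul_eq_zero.1 h2).resolve_left fun e => hy0 (Units.ext (sub_eq_zero.1 e))

theorem card_dual : Nat.card (K →* ℂˣ) = Nat.card K :=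
  CommGroup.card_monoidHom_of_hasEnoughRootsOfUnity K ℂ

theorem sum_dual {y : K} (hy : y ≠ 1) : ∑ φ : K →* ℂˣ, (φ y : ℂ) = 0 := by
  obtain ⟨ψ, hψ⟩ := CommGroup.exists_apply_ne_one_of_hasEnoughRootsOfUnity K ℂ hy
  have h1 : (ψ y : ℂ) * ∑ φ : K →* ℂˣ, (φ y : ℂ) = ∑ φ : K →* ℂˣ, (φ y : ℂ) := by
    rw [Finset.mul_sum]
    exact Fintype.sum_bijective _ (Group.mulLeft_bijective ψ) _ _ fun φ => by
      rw [MonoidHom.mul_apply, Units.val_mul]
  have h2 : ((ψ y : ℂ) - 1) * ∑ φ : K →* ℂˣ, (φ y : ℂ) = 0 := by rw [sub_mul, h1, one_mul, sub_self]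
  exact (mul_eq_zero.1 h2).resolve_left fun e => hψ (Units.ext (sub_eq_zero.1 e))

theorem dual_conj (φ : K →* ℂˣ) (y : K) : conj (φ y : ℂ) = (φ y⁻¹ : ℂ) := by
  have h := Char.irr_inv (⟨fun g => (φ g : ℂ), Char.isIrrCharacter_lin φ⟩ : IrrCharacter K) y
  exact h.symm

/-- Fourier inversion. -/
theorem fourier (F : K → ℂ) (y0 : K) :
    ∑ φ : K →* ℂˣ, (∑ y : K, F y * (φ y : ℂ)) * (φ y0⁻¹ : ℂ) = (Nat.card K : ℂ) * F y0 := by
  classical
  simp only [Finset.sum_mul, mul_assoc, ← Units.val_mul, ← map_mul]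
  rw [Finset.sum_comm]
  simp only [← Finset.mul_sum]
  rw [Finset.sum_eq_single y0 (fun y _ hy => by
    rw [sum_dual (fun e => hy (mul_inv_eq_one.1 e)), mul_zero])
    (fun hh => absurd (Finset.mem_univ _) hh)]
  simp [← Nat.card_eq_fintype_card, card_dual, mul_comm]

end Abelian

end CfsgLib.BSW
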