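import Cfsg.Agent.Lib.BSW.Center

/-!
# The character data determining the group order
-/

set_option autoImplicit false
set_option linter.unusedSectionVars false

open Subgroup Cfsg
open scoped ComplexConjugate IsMulCommutative

namespace CfsgLib.BSW

universe u

variable {G : Type u} [Group G] [Fintype G] {t s : G} {K : Subgroup G}

/-- An integer valued irreducible character of degree `q = 2|K| + δ`, equal to `δ` on `K \ 1`. -/
structure Data (K : Subgroup G) (t : G) (A : IrrCharacter G) (a : G → ℤ) (δ : ℤ) (q r : ℕ) : Prop where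
  sgn : δ = 1 ∨ δ = -1
  hq : (q : ℤ) = 2 * (Nat.card K : ℤ) + δ
  hr : (r : ℤ) = (Nat.card K : ℤ) + δ
  ne : A ≠ Block.oneChar G
  val : ∀ y, (A : G → ℂ) y = a y
  one : a 1 = (q : ℤ)
  onK : ∀ y ∈ K, y ≠ 1 → a y = δ
  idx : (centralizer ({t} : Set G)).index = q * r

/-- An irreducible character equal to all its twists is integer valued. -/
theorem exists_int_values (A : IrrCharacter G)
    (hA : ∀ (m : ℕ) (hm : Nat.Coprime (Nat.card G) m),
      (⟨_, Char.isIrrCharacter_powMap hm A⟩ : IrrCharacter G) = A) :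
    ∃ a : G → ℤ, ∀ y, (A : G → ℂ) y = a y := by
  have : ∀ y, ∃ z : ℤ, (A : G → ℂ) y = z := fun y =>
    exists_int_value A fun m hm =>
      congrFun (congrArg Subtype.val (hA m hm.symm)) y
  choose a ha using this
  exact ⟨a, ha⟩

namespace Hyp

variable (h : Hyp t s K)

include h

theorem odd_of_coprime {m : ℕ} (hm : Nat.Coprime (Nat.card G) m) : Odd m := by
  rw [← Nat.not_even_iff_odd, even_iff_two_dvd]
  intro h2
  exact Nat.not_coprime_of_dvd_of_dvd (by norm_num) (h.ht ▸ orderOf_dvd_natCard t) h2 hm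

theorem pow_t {m : ℕ} (hm : Nat.Coprime (Nat.card G) m) : t ^ m = t := by
  obtain ⟨l, rfl⟩ := h.odd_of_coprime hm
  rw [pow_succ, pow_mul, pow_two, Invol.invol_mul_self h.ht, one_pow, one_mul]

theorem twist_center {A : IrrCharacter G} {δ : ℤ} {d : ℕ} (hA : IsCenter K t A δ d)
    (hgood : ∀ φ : K →* ℂˣ, φ * φ ≠ 1 → Good t φ A δ) {φ : K →* ℂˣ} (hφ : φ * φ ≠ 1)
    (m : ℕ) (hm : Nat.Coprime (Nat.card G) m) :
    (⟨_, Char.isIrrCharacter_powMap hm A⟩ : IrrCharacter G) = A := by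
  classical
  haveI := h.isComm
  set B : IrrCharacter G := ⟨_, Char.isIrrCharacter_powMap hm A⟩ with hB
  have hBv : ∀ g, (B : G → ℂ) g = (A : G → ℂ) (g ^ m) := fun g => rfl
  have hmK : Nat.Coprime (Nat.card K) m := Nat.Coprime.coprime_dvd_left (card_subgroup_dvd_card K) hm
  have hbij : Function.Bijective (fun y : K => y ^ m) := (powCoprime hmK).bijective
  let ψ : K →* ℂˣ := φ.comp (powMonoidHom m)
  have hψ : ψ * ψ ≠ 1 := fun e => hφ (MonoidHom.ext fun y => by
    obtain ⟨z, rfl⟩ := hbij.2 y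
    exact DFunLike.congr_fun e z)
  have hB1 : B ≠ Block.oneChar G := fun e => hA.ne (Subtype.ext (funext fun g => by
    obtain ⟨z, rfl⟩ := (powCoprime hm).bijective.2 g
    exact congrFun (congrArg Subtype.val e) z))
  have hcoef : coef ψ (B : G → ℂ) = coef φ A := by
    rw [coef, coef]
    congr 1
    refine Fintype.sum_bijective _ hbij _ _ fun y => ?_
    rw [hBv, Subgroup.coe_pow]
    rfl
  refine (hgood ψ hψ).2 B hB1 ?_ δ ?_ ?_
  · rw [hcoef, (hgood φ hφ).1]
    rcases hA.sgn with e | e <;> rw [e] <;> norm_num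
  · rw [hBv, h.pow_t hm, hA.at_t]
  · rcases hA.sgn with e | e <;> rw [e] <;> norm_num

open scoped Classical in
theorem sum_K_int (χ : IrrCharacter G) :
    ∃ m : ℕ, ∑ y : K, (χ : G → ℂ) y = (Nat.card K : ℂ) * m := by
  classical
  obtain ⟨m, hm⟩ := Char.classInner_isCharacter
    (Char.isCharacter_comp (Char.isCharacter_irr χ) K.subtype)
    (Char.isCharacter_of_isIrr (Char.isIrrCharacter_one (G := K)))
  refine ⟨m, ?_⟩
  rw [classInner] at hm
  simp only [map_one, mul_one, Subgroup.coe_subtype] at hm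
  rw [← hm, mul_inv_cancel_left₀ (by exact_mod_cast Nat.card_pos.ne')]

theorem center_onK {A : IrrCharacter G} {δ : ℤ} {d : ℕ} (hA : IsCenter K t A δ d)
    (hgood : ∀ φ : K →* ℂˣ, φ * φ ≠ 1 → Good t φ A δ) {y0 : K} (hy0 : y0 ≠ 1) :
    (A : G → ℂ) y0 = δ := by
  classical
  haveI := h.isComm
  have hk : (Nat.card K : ℂ) ≠ 0 := by exact_mod_cast Nat.card_pos.ne'
  have hsq : (δ : ℂ) * δ = 1 := by rcases hA.sgn with e | e <;> rw [e] <;> norm_num
  set F : K → ℂ := fun y => (δ : ℂ) * (A : G → ℂ) y - 1 with hF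
  set S1 : ℂ := ∑ y : K, F y with hS1
  have hS : ∀ φ : K →* ℂˣ, φ * φ ≠ 1 → ∑ y : K, F y * (φ y : ℂ) = S1 := by
    intro φ hφ
    have h1 := (hgood φ hφ).1
    rw [coef] at h1
    simp only [fun y : K => h.irr_real_K A y.2] at h1
    have hφ1 : φ ≠ 1 := fun e => hφ (MonoidHom.ext fun z => by simp [e])
    have h2 : ∑ y : K, (1 - (φ y : ℂ)) * F y = 0 := by
      simp only [hF, mul_sub, mul_one, Finset.sum_sub_distrib, mul_left_comm _ (δ : ℂ), ← Finset.mul_sum,
        sum_lam hφ1, Finset.sum_const, Finset.card_univ, nsmul_eq_mul, ← Nat.card_eq_fintype_card]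
      rw [inv_mul_eq_iff_eq_mul₀ hk] at h1
      rw [h1, mul_left_comm, hsq]
      ring
    simp only [sub_mul, one_mul, Finset.sum_sub_distrib] at h2
    rw [hS1]
    rw [sub_eq_zero] at h2
    rw [h2]
    exact Finset.sum_congr rfl fun y _ => mul_comm _ _
  set D := Finset.univ.filter (fun φ : K →* ℂˣ => φ * φ = 1 ∧ φ ≠ 1) with hD
  have hDle : D.card ≤ 1 := Finset.card_le_one.2 fun φ hφ ψ hψ =>
    h.real_unique (Finset.mem_filter.1 hφ).2.1 (Finset.mem_filter.1 hψ).2.1 (Finset.mem_filter.1 hφ).2.2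
      (Finset.mem_filter.1 hψ).2.2
  have hmain : ∀ y : K, y ≠ 1 →
      (Nat.card K : ℂ) * F y = ∑ φ ∈ D, (∑ z : K, F z * (φ z : ℂ) - S1) * (φ y⁻¹ : ℂ) := by
    intro y hy
    rw [← fourier F y, Finset.sum_subset (Finset.subset_univ D) fun φ _ hφ => ?_]
    · simp only [sub_mul, Finset.sum_sub_distrib, ← Finset.mul_sum,
        sum_dual (inv_ne_one.2 hy), mul_zero, sub_zero]
    · rcases eq_or_ne φ 1 with rfl | hφ1
      · simp [hS1]
      · have hφ2 : φ * φ ≠ 1 := fun e => hφ (Finset.mem_filter.2 ⟨Finset.mem_univ _, e, hφ1⟩)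
        rw [hS φ hφ2, sub_self, zero_mul]
  have hFt : F ⟨t, h.tK⟩ = 0 := by simp [hF, hA.at_t, hsq]
  have hzero : (Nat.card K : ℂ) * F y0 = 0 := by
    rw [hmain y0 hy0]
    rcases Nat.le_one_iff_eq_zero_or_eq_one.1 hDle with e | e
    · rw [Finset.card_eq_zero.1 e, Finset.sum_empty]
    · obtain ⟨φ, hφ⟩ := Finset.card_eq_one.1 e
      have h1 := hmain ⟨t, h.tK⟩ (fun e => h.t_ne_one (congrArg Subtype.val e))
      rw [hFt, mul_zero, hφ, Finset.sum_singleton] at h1
      rw [hφ, Finset.sum_singleton, (mul_eq_zero.1 h1.symm).resolve_right (Units.ne_zero _), zero_mul]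
  have h3 : F y0 = 0 := (mul_eq_zero.1 hzero).resolve_left hk
  calc (A : G → ℂ) y0 = (δ : ℂ) * ((δ : ℂ) * (A : G → ℂ) y0) := by rw [← mul_assoc, hsq, one_mul]
    _ = δ := by rw [sub_eq_zero.1 h3, mul_one]

/-- The order, for `|K| ≥ 4`. -/
theorem exists_data_large (hk : 4 ≤ Nat.card K) :
    ∃ (A : IrrCharacter G) (a : G → ℤ) (δ : ℤ) (q r : ℕ), Data K t A a δ q r := by
  classical
  obtain ⟨A, δ, d, hA, hgood⟩ := h.exists_center hk
  haveI := h.isComm
  obtain ⟨φ, hφ, -⟩ := h.exists_neg hk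
  obtain ⟨a, ha⟩ := exists_int_values A (h.twist_center hA hgood hφ)
  have ha1 : a 1 = (d : ℤ) := by
    have := (ha 1).symm.trans hA.deg
    exact_mod_cast this
  have honK : ∀ y ∈ K, y ≠ 1 → a y = δ := by
    intro y hy hy1
    have := (ha y).symm.trans (h.center_onK hA hgood (y0 := ⟨y, hy⟩) fun e => hy1 (congrArg Subtype.val e))
    exact_mod_cast this
  obtain ⟨m, hm⟩ := h.sum_K_int A
  rw [← Finset.add_sum_erase _ _ (Finset.mem_univ (1 : K)),
    Finset.sum_congr rfl (g := fun _ => (δ : ℂ)) (fun y hy => h.center_onK hA hgood (Finset.mem_erase.1 hy).1),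
    Finset.sum_const, Finset.card_erase_of_mem (Finset.mem_univ _), Finset.card_univ,
    ← Nat.card_eq_fintype_card, nsmul_eq_mul, show ((1 : K) : G) = 1 from rfl, hA.deg] at hm
  set k : ℕ := Nat.card K with hkdef
  set i : ℕ := (centralizer ({t} : Set G)).index with hi
  have hm' : (d : ℤ) + ((k : ℤ) - 1) * δ = k * m := by
    apply Int.cast_injective (α := ℂ)
    push_cast
    rw [Nat.cast_sub (by omega : 1 ≤ k)] at hm
    push_cast at hm
    exact hm
  obtain ⟨l, hl⟩ : ∃ l : ℤ, δ * d = 1 + k * l := by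
    refine ⟨δ * m - 1, ?_⟩
    have hsq : δ * δ = 1 := by rcases hA.sgn with e | e <;> rw [e] <;> norm_num
    linear_combination δ * hm' - ((k : ℤ) - 1) * hsq
  have horder : (Nat.card G : ℤ) * (δ * d - 1) ^ 2 = 4 * (k : ℤ) ^ 3 * ((δ * d) * (δ * d + 1)) := by
    apply Int.cast_injective (α := ℂ)
    push_cast
    exact hA.order
  have hk0 : (k : ℤ) ≠ 0 := by omega
  rw [h.card_G, ← hkdef, ← hi, hl] at horder
  push_cast at horder
  have heq : (i : ℤ) * l ^ 2 = 2 * (1 + k * l) * (2 + k * l) := by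
    refine mul_left_cancel₀ (mul_ne_zero two_ne_zero (pow_ne_zero 3 hk0)) ?_
    linear_combination horder
  obtain ⟨j, rfl⟩ : ∃ j, l = 2 * j := by
    rcases Int.even_or_odd' l with ⟨j, e | e⟩
    · exact ⟨j, e⟩
    · exfalso
      obtain ⟨i', hi'⟩ := h.odd_index
      rw [← hi] at hi'
      rw [hi', e] at heq
      push_cast at heq
      have h5 : (2 : ℤ) ∣ 1 := ⟨(1 + k * (2 * j + 1)) * (2 + k * (2 * j + 1))
        - (i' : ℤ) * (2 * j + 1) ^ 2 - (2 * j ^ 2 + 2 * j), by linear_combination heq⟩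
      norm_num at h5
  obtain ⟨k', hk'⟩ := h.two_dvd_k
  have heq' : (i : ℤ) * j ^ 2 = (1 + 2 * k * j) * (1 + k * j) := by
    have h4 : (4 : ℤ) ≠ 0 := by norm_num
    refine mul_left_cancel₀ h4 ?_
    linear_combination heq
  have hj : j = 1 ∨ j = -1 := Int.isUnit_iff.1 (IsUnit.of_mul_eq_one
    ((i : ℤ) * j - (3 * k + 2 * (k : ℤ) ^ 2 * j)) (by linear_combination heq'))
  have hd0 : (0 : ℤ) ≤ d := by positivity
  refine ⟨A, a, δ, d, ((k : ℤ) + δ).toNat, hA.sgn, ?_, ?_, hA.ne, ha, ha1, honK, ?_⟩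
  · rcases hA.sgn with e | e <;> rcases hj with e' | e' <;> rw [e, e'] at hl <;> rw [e] <;> omega
  · rcases hA.sgn with e | e <;> rw [e] <;> omega
  · have hq : (d : ℤ) = 2 * (k : ℤ) + δ ∧ δ = j := by
      rcases hA.sgn with e | e <;> rcases hj with e' | e' <;> rw [e, e'] at hl <;> rw [e, e'] <;>
        exact ⟨by omega, by omega⟩
    apply Int.ofNat.inj
    show (i : ℤ) = ((d * ((k : ℤ) + δ).toNat : ℕ) : ℤ)
    push_cast
    rw [Int.toNat_of_nonneg (by rcases hA.sgn with e | e <;> rw [e] <;> omega), hq.1, hq.2]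
    rcases hj with e | e <;> rw [e] at heq' ⊢ <;> linear_combination heq'

end Hyp
end CfsgLib.BSW
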