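import Cfsg.Agent.Lib.BSW.Cases
import Mathlib.GroupTheory.Transfer
import Mathlib.GroupTheory.SchurZassenhaus

/-!
# The Sylow subgroup of order `q` when `q ≡ 3 (mod 4)`
-/

set_option autoImplicit false
set_option linter.unusedSectionVars false

open Subgroup Cfsg
open scoped ComplexConjugate commutatorElement

namespace CfsgLib.BSW

universe u

variable {G : Type u} [Group G] [Fintype G] {t s : G} {K : Subgroup G}
  {A : IrrCharacter G} {a : G → ℤ} {δ : ℤ} {q r : ℕ}

/-- If the Sylow subgroups for all primes other than `p` are central in their normalizers, the `p`-elements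
lie in a normal `p`-subgroup containing all commutators. -/
theorem exists_normal_pSubgroup (M : Type u) [Group M] [Finite M] (p : ℕ) [hp : Fact p.Prime]
    (hc : ∀ l : ℕ, l.Prime → l ≠ p → ∀ L : Sylow l M,
      Subgroup.normalizer ((L : Subgroup M) : Set M) ≤ Subgroup.centralizer ((L : Subgroup M) : Set M)) :
    ∃ N : Subgroup M, N.Normal ∧ IsPGroup p N ∧ (∀ x : M, (∃ k : ℕ, orderOf x = p ^ k) → x ∈ N) ∧
      ∀ a b : M, a * b * a⁻¹ * b⁻¹ ∈ N := by
  classical
  have key : ∀ l : {l : ℕ // l ∈ (Nat.card M).primeFactors ∧ l ≠ p}, ∃ N : Subgroup M, N.Normal ∧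
      ¬ (l : ℕ) ∣ Nat.card N ∧ (∀ x : M, (∃ k : ℕ, orderOf x = p ^ k) → x ∈ N) ∧
      ∀ a b : M, a * b * a⁻¹ * b⁻¹ ∈ N := by
    rintro ⟨l, hl, hlp⟩
    have hl' := Nat.prime_of_mem_primeFactors hl
    haveI := Fact.mk hl'
    obtain ⟨L⟩ : Nonempty (Sylow l M) := inferInstance
    set f := MonoidHom.transferSylow L (hc l hl' hlp L) with hf
    refine ⟨f.ker, inferInstance, MonoidHom.not_dvd_card_ker_transferSylow L _, fun x hx => ?_,
      fun a b => ?_⟩
    · obtain ⟨k, hk⟩ := hx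
      obtain ⟨m, hm⟩ := IsPGroup.iff_orderOf.1 L.2 (f x)
      have h1 : orderOf (f x) ∣ p ^ k := hk ▸ orderOf_map_dvd f x
      have h2 : orderOf (f x) = 1 := by
        rcases Nat.eq_zero_or_pos m with e | e
        · rw [hm, e, pow_zero]
        · exfalso
          exact hlp ((Nat.prime_dvd_prime_iff_eq hl' hp.1).1
            (hl'.dvd_of_dvd_pow (((dvd_pow_self l (show m ≠ 0 by omega)).trans hm.symm.dvd).trans h1)))
      exact MonoidHom.mem_ker.2 (orderOf_eq_one_iff.1 h2)
    · rw [MonoidHom.mem_ker, map_mul, map_mul, map_mul, map_inv, map_inv]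
      have : f a * f b = f b * f a := by
        have hcm : ∀ u v : (L : Subgroup M), u * v = v * u := fun u v => Subtype.ext
          ((mem_centralizer_iff.1 (hc l hl' hlp L ((L : Subgroup M).le_normalizer u.2)) v v.2).symm)
        exact hcm _ _
      rw [this]; group
  choose N hN hNl hNp hNc using key
  refine ⟨⨅ l, N l, ⟨fun n hn g => ?_⟩, ?_, fun x hx => Subgroup.mem_iInf.2 fun l => hNp l x hx,
    fun a b => Subgroup.mem_iInf.2 fun l => hNc l a b⟩
  · exact Subgroup.mem_iInf.2 fun l => (hN l).conj_mem n (Subgroup.mem_iInf.1 hn l) g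
  · refine IsPGroup.of_card (n := (Nat.card ↥(⨅ l, N l)).primeFactorsList.length) ?_
    refine Nat.eq_prime_pow_of_unique_prime_dvd Nat.card_pos.ne' fun {l} hl hld => ?_
    by_contra hne
    have hlM : l ∈ (Nat.card M).primeFactors :=
      Nat.mem_primeFactors.2 ⟨hl, hld.trans (card_subgroup_dvd_card _), Nat.card_pos.ne'⟩
    exact hNl ⟨l, hlM, hne⟩ (hld.trans (card_dvd_of_le (iInf_le _ _)))

namespace Data

variable (h : Hyp t s K) (D : Data K t A a δ q r) (hδ : δ = -1)

include h D hδ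

theorem commutes_of_normalizes {l : ℕ} [hl : Fact l.Prime] (hl2 : l ≠ 2) (hlq : ¬ l ∣ q) {L : Subgroup G}
    (hL : IsPGroup l L) {n : G} (hn : n ∈ Subgroup.normalizer (L : Set G)) (hno : Odd (orderOf n)) :
    ∀ x ∈ L, n * x = x * n := by
  intro x hx
  rcases eq_or_ne x 1 with rfl | hx1
  · simp
  haveI : Nontrivial L := ⟨⟨⟨x, hx⟩, 1, fun e => hx1 (congrArg Subtype.val e)⟩⟩
  haveI := hL.center_nontrivial
  obtain ⟨m, hm⟩ := IsPGroup.iff_card.1 (hL.to_subgroup (Subgroup.center L))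
  have hm0 : m ≠ 0 := fun e' => absurd (Finite.one_lt_card (α := Subgroup.center L))
    (by rw [hm, e', pow_zero]; exact lt_irrefl 1)
  obtain ⟨⟨⟨z, hzL⟩, hzc⟩, hz⟩ := exists_prime_orderOf_dvd_card'
    (G := Subgroup.center L) l (hm ▸ dvd_pow_self l hm0)
  rw [← Subgroup.orderOf_coe, ← Subgroup.orderOf_coe] at hz
  have hz1 : z ≠ 1 := fun e => by simp only [e, orderOf_one] at hz; exact hl.1.ne_one hz.symm
  have hLC : L ≤ centralizer ({z} : Set G) := fun y hy => mem_centralizer_singleton_iff.2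
    (congrArg Subtype.val (Subgroup.mem_center_iff.1 hzc ⟨y, hy⟩))
  have hnz : n * z * n⁻¹ ∈ L := (Subgroup.mem_normalizer_iff.1 hn z).1 hzL
  have hLodd : ∀ y ∈ L, Odd (orderOf y) := by
    intro y hy
    obtain ⟨e, he⟩ := IsPGroup.iff_orderOf.1 hL ⟨y, hy⟩
    rw [← Subgroup.orderOf_coe] at he
    rw [show orderOf y = l ^ e from he]
    exact (hl.1.odd_of_ne_two hl2).pow
  by_cases hzK : IntoK K z
  · obtain ⟨g, hg⟩ := hzK
    have hmap : ∀ y ∈ L, g * y * g⁻¹ ∈ K := by
      intro y hy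
      refine h.mem_K_of_odd (h.cent_le hg (fun e => hz1 (conj_eq_one_iff.1 e))
        (mem_centralizer_conj.2 (hLC hy))) ?_
      rw [show g * y * g⁻¹ = MulAut.conj g y from rfl, MulEquiv.orderOf_eq]
      exact hLodd y hy
    have hnK : g * n * g⁻¹ ∈ K := by
      refine h.mem_K_of_odd (h.conj_mem_H hg (fun e => hz1 (conj_eq_one_iff.1 e)) ?_) ?_
      · rw [show g * n * g⁻¹ * (g * z * g⁻¹) * (g * n * g⁻¹)⁻¹ = g * (n * z * n⁻¹) * g⁻¹ by group]
        exact hmap _ hnz
      · rw [show g * n * g⁻¹ = MulAut.conj g n from rfl, MulEquiv.orderOf_eq]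
        exact hno
    have h1 := h.comm _ hnK _ (hmap x hx)
    exact mem_centralizer_singleton_iff.1 (mem_centralizer_conj.1 (mem_centralizer_singleton_iff.2 h1))
  · obtain ⟨-, hqr⟩ := not_intoK_prime h D hz hzK
    have hlr : l ∣ r := hqr.resolve_left hlq
    have haz : a z ≠ 0 := by
      rw [(prime_value h D hl.1 hz hzK).2 hlr, hδ]; norm_num
    obtain ⟨hcomm, hti, u, hu, hinv, hnorm⟩ := r_centralizer h D hδ hzK haz
    have hnn : n ∈ Subgroup.normalizer ((centralizer ({z} : Set G) : Subgroup G) : Set G) := by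
      rw [conj_centralizer_eq]
      exact hti _ (hLC hnz) (fun e => hz1 (conj_eq_one_iff.1 e))
    rcases hnorm n hnn with h1 | h1
    · exact hcomm n h1 x (hLC hx)
    · exfalso
      have h2 := hinv _ h1
      rw [← mul_assoc u u, Invol.invol_mul_self hu, one_mul, mul_inv_rev, Invol.invol_inv hu] at h2
      have h3 : n = n⁻¹ := mul_right_cancel h2
      have h4 : n * n = 1 := by
        nth_rw 1 [h3]
        exact inv_mul_cancel n
      rcases (Nat.dvd_prime Nat.prime_two).1 (orderOf_dvd_of_pow_eq_one (show n ^ 2 = 1 by rw [pow_two]; exact h4))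
        with h5 | h5
      · rw [orderOf_eq_one_iff] at h5
        subst h5
        rw [mul_one] at h1
        exact h.no_invol_centralizer hzK hu h1
      · rw [h5] at hno; exact absurd hno (by decide)

theorem sylow_data : ∃ p : ℕ, p.Prime ∧ (∃ f : ℕ, q = p ^ f) ∧ p ∣ q := by
  classical
  have hq := q_pos h D
  obtain ⟨p, hp, hpq⟩ := Nat.exists_prime_and_dvd (show q ≠ 1 by omega)
  refine ⟨p, hp, ⟨q.primeFactorsList.length, Nat.eq_prime_pow_of_unique_prime_dvd (by omega)
    fun {l} hl hlq => ?_⟩, hpq⟩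
  have hex : ∀ l : ℕ, l.Prime → l ∣ q → ∃ c : G, orderOf c = l ∧ ¬ IntoK K c ∧ a c = 0 := by
    intro l hl hlq
    haveI := Fact.mk hl
    obtain ⟨c, hc⟩ := exists_prime_orderOf_dvd_card' (G := G) l (by
      rw [card_G h D]; exact (hlq.trans (dvd_mul_right q r)).mul_left _)
    have hcZ : ¬ IntoK K c := by
      rintro ⟨g, hg⟩
      have h1 : orderOf (⟨g * c * g⁻¹, hg⟩ : K) = l := by
        rw [← Subgroup.orderOf_coe]
        show orderOf (MulAut.conj g c) = l
        rw [MulEquiv.orderOf_eq, hc]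
      exact (no_common h D hl).2.1 ⟨h1 ▸ _root_.orderOf_dvd_natCard _, hlq⟩
    exact ⟨c, hc, hcZ, (prime_value h D hl hc hcZ).1 hlq⟩
  obtain ⟨y, hyo, hyZ, hya⟩ := hex p hp hpq
  obtain ⟨c, hco, hcZ, hca⟩ := hex l hl hlq
  set Z0 := Finset.univ.filter (fun z : G => ¬ IntoK K z ∧ a z = 0) with hZ0
  have hyiZ : ¬ IntoK K y⁻¹ := fun e => hyZ (by
    obtain ⟨g, hg⟩ := e
    exact ⟨g, by simpa [mul_assoc] using inv_mem hg⟩)
  have hyia : a y⁻¹ = 0 := by
    rcases kind h D hyiZ with ⟨e, -⟩ | ⟨-, hd⟩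
    · exact e
    · exfalso
      have h1 : orderOf y ∣ r := by
        refine dvd_trans ?_ hd
        have := Subgroup.orderOf_dvd_natCard (centralizer ({y⁻¹} : Set G))
          (x := y) (mem_centralizer_singleton_iff.2 (by group))
        exact this
      rw [hyo] at h1
      exact (no_common h D hp).2.2.2 ⟨hpq, h1⟩
  have hdis : ¬ IsConj y y⁻¹ := by
    intro hc
    obtain ⟨g, hg⟩ := isConj_iff.1 hc
    have hgg : g * g ∈ centralizer ({y} : Set G) := by
      rw [mem_centralizer_singleton_iff]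
      have h2 : g * y⁻¹ * g⁻¹ = y := by rw [← conj_inv, hg, inv_inv]
      calc g * g * y = g * (g * y * g⁻¹) * g⁻¹ * (g * g) := by group
        _ = y * (g * g) := by rw [hg, h2]
    set e := g ^ q with he
    have hqo : Odd q := (odd_qr h D).1
    have heinv : e * y * e⁻¹ = y⁻¹ := by
      obtain ⟨m, hm⟩ := hqo
      have hc2 : (g * g) ^ m ∈ centralizer ({y} : Set G) := pow_mem hgg m
      rw [mem_centralizer_singleton_iff] at hc2
      rw [he, hm, pow_succ', pow_mul, pow_two]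
      calc g * (g * g) ^ m * y * (g * (g * g) ^ m)⁻¹
          = g * ((g * g) ^ m * y) * ((g * g) ^ m)⁻¹ * g⁻¹ := by group
        _ = g * y * g⁻¹ := by rw [hc2]; group
        _ = y⁻¹ := hg
    have he2 : e * e = 1 := by
      have h2 := pow_card_eq_one' (x := (⟨g * g, hgg⟩ : centralizer ({y} : Set G)))
      rw [card_zero h D hyZ hya] at h2
      have h3 : (g * g) ^ q = 1 := congrArg Subtype.val h2
      rw [he, ← pow_add, ← two_mul, pow_mul, pow_two, h3]
    have he1 : e ≠ 1 := by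
      intro e1
      rw [e1, one_mul, inv_one, mul_one] at heinv
      have : y * y = 1 := by nth_rw 1 [heinv]; exact inv_mul_cancel y
      have h2 : orderOf y ∣ 2 := orderOf_dvd_of_pow_eq_one (by rw [pow_two]; exact this)
      rw [hyo, Nat.prime_dvd_prime_iff_eq hp Nat.prime_two] at h2
      have := (odd_qr h D).1
      rw [h2] at hpq
      exact (Nat.not_even_iff_odd.2 this) (even_iff_two_dvd.2 hpq)
    exact no_real_zero h D hδ hyZ hya (Invol.invol_iff.2 ⟨he2, he1⟩) heinv
  have hclass : ∀ z, ¬ IntoK K z → a z = 0 →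
      (Finset.univ.filter (fun x => IsConj z x)).card = 2 * Nat.card K * r := by
    intro z hz ha
    have h1 := (centralizer ({z} : Set G)).card_mul_index
    rw [card_zero h D hz ha, card_G h D, ← Char.card_isConj, Nat.card_eq_fintype_card,
      Fintype.card_subtype] at h1
    apply Nat.eq_of_mul_eq_mul_left (show 0 < q by omega)
    linarith
  have hsub : Finset.univ.filter (fun x => IsConj y x) ∪ Finset.univ.filter (fun x => IsConj y⁻¹ x) = Z0 := by
    refine Finset.eq_of_subset_of_card_le (fun x hx => ?_) ?_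
    · simp only [Finset.mem_union, Finset.mem_filter, Finset.mem_univ, true_and] at hx
      rcases hx with hx | hx <;> obtain ⟨g, rfl⟩ := isConj_iff.1 hx <;>
        refine Finset.mem_filter.2 ⟨Finset.mem_univ _, ?_, ?_⟩
      · rw [intoK_conj]; exact hyZ
      · rw [a_conj h D]; exact hya
      · rw [intoK_conj]; exact hyiZ
      · rw [a_conj h D]; exact hyia
    · rw [Finset.card_union_of_disjoint, hclass y hyZ hya, hclass y⁻¹ hyiZ hyia]
      · have h1 := (card_zeros h D).1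
        rw [four_kr h D] at h1
        have h2 : Z0.card = 4 * Nat.card K * r := by exact_mod_cast h1
        rw [h2]
        linarith
      · rw [Finset.disjoint_filter]
        exact fun x _ h1 h2 => hdis (h1.trans h2.symm)
  have hcm : c ∈ Z0 := Finset.mem_filter.2 ⟨Finset.mem_univ _, hcZ, hca⟩
  rw [← hsub] at hcm
  simp only [Finset.mem_union, Finset.mem_filter, Finset.mem_univ, true_and] at hcm
  rcases hcm with hx | hx <;> obtain ⟨g, rfl⟩ := isConj_iff.1 hx
  · rw [← hco, show g * y * g⁻¹ = MulAut.conj g y from rfl, MulEquiv.orderOf_eq, hyo]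
  · rw [← hco, show g * y⁻¹ * g⁻¹ = MulAut.conj g y⁻¹ from rfl, MulEquiv.orderOf_eq, orderOf_inv, hyo]

theorem card_sylow {p f : ℕ} [hp : Fact p.Prime] (hq : q = p ^ f) (hpq : p ∣ q) (P : Sylow p G) :
    Nat.card (P : Subgroup G) = q := by
  have hpk : ¬ p ∣ 2 * Nat.card K * r := by
    intro hd
    rcases hp.1.dvd_mul.1 hd with h1 | h1
    · rcases hp.1.dvd_mul.1 h1 with h2 | h2
      · exact (no_common h D hp.1).2.1 ⟨h2.trans h.two_dvd_k, hpq⟩
      · exact (no_common h D hp.1).2.1 ⟨h2, hpq⟩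
    · exact (no_common h D hp.1).2.2.2 ⟨hpq, h1⟩
  rw [P.card_eq_multiplicity, card_G h D, show 2 * Nat.card K * (q * r) = q * (2 * Nat.card K * r) by ring,
    Nat.factorization_mul_apply_of_coprime]
  · rw [hq, hp.1.factorization_pow, Finsupp.single_eq_same,
      Nat.factorization_eq_zero_of_not_dvd hpk, add_zero]
  · rw [hq]
    exact Nat.Coprime.pow_left _ (hp.1.coprime_iff_not_dvd.2 hpk)

theorem sylow_element {p f : ℕ} [hp : Fact p.Prime] (hq : q = p ^ f) (hpq : p ∣ q) {P : Sylow p G} {x : G}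
    (hx : x ∈ (P : Subgroup G)) (hx1 : x ≠ 1) : ¬ IntoK K x ∧ a x = 0 := by
  have hord : orderOf x ∣ q := card_sylow h D hδ hq hpq P ▸ Subgroup.orderOf_dvd_natCard _ hx
  have hxZ : ¬ IntoK K x := by
    rintro ⟨g, hg⟩
    have h1 : orderOf x ∣ Nat.card K := by
      have := Subgroup.orderOf_dvd_natCard K hg
      rwa [show g * x * g⁻¹ = MulAut.conj g x from rfl, MulEquiv.orderOf_eq] at this
    exact hx1 (orderOf_eq_one_iff.1 (Nat.eq_one_of_dvd_coprimes (coprime_kqr h D).1 h1 hord))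
  refine ⟨hxZ, by_contra fun hne => hx1 (orderOf_eq_one_iff.1 ?_)⟩
  refine Nat.eq_one_of_dvd_coprimes (coprime_kqr h D).2.2 hord (dvd_trans ?_ (dvd_r h D hxZ hne))
  exact Subgroup.orderOf_dvd_natCard _ (mem_centralizer_singleton_iff.2 rfl)

theorem odd_normalizer {p f : ℕ} [hp : Fact p.Prime] (hq : q = p ^ f) (hpq : p ∣ q) {P : Sylow p G}
    {W : Subgroup G} (hW : W ≤ (P : Subgroup G)) (hW1 : W ≠ ⊥) {n : G}
    (hn : n ∈ Subgroup.normalizer (W : Set G)) : Odd (orderOf n) := by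
  rw [← Nat.not_even_iff_odd, even_iff_two_dvd]
  intro h2
  haveI : Fact (Nat.Prime 2) := ⟨Nat.prime_two⟩
  set u := n ^ (orderOf n / 2)
  have hu : orderOf u = 2 := orderOf_pow_orderOf_div (orderOf_pos n).ne' h2
  have hun : u ∈ Subgroup.normalizer (W : Set G) := pow_mem hn _
  let φ : W →* W :=
    { toFun := fun c => ⟨u * (c : G) * u⁻¹, (Subgroup.mem_normalizer_iff.1 hun c).1 c.2⟩
      map_one' := Subtype.ext (show u * (1 : G) * u⁻¹ = 1 by group)
      map_mul' := fun a b => Subtype.ext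
        (show u * ((a : G) * b) * u⁻¹ = u * a * u⁻¹ * (u * b * u⁻¹) by group) }
  have hfp : MonoidHom.FixedPointFree φ := by
    intro c hc
    have hc' : u * (c : G) * u⁻¹ = c := congrArg Subtype.val hc
    by_contra hc1
    exact h.no_invol_centralizer (sylow_element h D hδ hq hpq (hW c.2) (fun e => hc1 (Subtype.ext e))).1 hu
      (mem_centralizer_singleton_iff.2 (mul_inv_eq_iff_eq_mul.1 hc'))
  have hinv : Function.Involutive φ := fun c => Subtype.ext
    (show u * (u * (c : G) * u⁻¹) * u⁻¹ = c by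
      rw [show u * (u * (c : G) * u⁻¹) * u⁻¹ = (u * u) * c * (u * u)⁻¹ by group,
        Invol.invol_mul_self hu]; group)
  obtain ⟨⟨w, hw⟩, hw1⟩ := (Subgroup.ne_bot_iff_exists_ne_one).1 hW1
  obtain ⟨hwZ, hwa⟩ := sylow_element h D hδ hq hpq (hW hw) (fun e => hw1 (Subtype.ext e))
  exact no_real_zero h D hδ hwZ hwa hu
    (congrArg Subtype.val (congrFun (hfp.coe_eq_inv_of_involutive hinv) ⟨w, hw⟩))

theorem pGroup_normalizer {p f : ℕ} [hp : Fact p.Prime] (hq : q = p ^ f) (M : Subgroup G)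
    (hodd : ∀ n ∈ M, Odd (orderOf n)) :
    ∃ N : Subgroup M, N.Normal ∧ IsPGroup p N ∧ (∀ x : M, (∃ k : ℕ, orderOf x = p ^ k) → x ∈ N) ∧
      ∀ a b : M, a * b * a⁻¹ * b⁻¹ ∈ N := by
  refine exists_normal_pSubgroup M p fun l hl hlp L n hn => mem_centralizer_iff.2 fun x hx => ?_
  haveI := Fact.mk hl
  by_cases hx1 : x = 1
  · simp [hx1]
  have hl2 : l ≠ 2 := by
    rintro rfl
    obtain ⟨k, hk⟩ := IsPGroup.iff_orderOf.1 L.2 ⟨x, hx⟩
    rw [← Subgroup.orderOf_coe, ← Subgroup.orderOf_coe] at hk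
    have h1 : Odd (orderOf (x : G)) := hodd _ x.2
    rw [show orderOf (x : G) = 2 ^ k from hk, Nat.odd_pow_iff (by
      rintro rfl
      rw [pow_zero, orderOf_eq_one_iff] at hk
      exact hx1 (Subtype.ext hk))] at h1
    exact absurd h1 (by decide)
  have hlq : ¬ l ∣ q := fun e => hlp ((Nat.prime_dvd_prime_iff_eq hl hp.1).1 (hl.dvd_of_dvd_pow (hq ▸ e)))
  have hnL : (n : G) ∈ Subgroup.normalizer (((L : Subgroup M).map M.subtype : Subgroup G) : Set G) := by
    exact le_normalizer_map M.subtype ⟨n, hn, rfl⟩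
  exact (Subtype.ext (commutes_of_normalizes h D hδ hl2 hlq (L.2.map M.subtype) hnL (hodd _ n.2) _
    ⟨x, hx, rfl⟩)).symm

theorem sylow_ti {p f : ℕ} [hp : Fact p.Prime] (hq : q = p ^ f) (hpq : p ∣ q) (P R : Sylow p G)
    (hPR : P ≠ R) : (P : Subgroup G) ⊓ R = ⊥ := by
  classical
  haveI := Fintype.ofFinite (Sylow p G)
  by_contra hne
  obtain ⟨⟨P, R⟩, hmem, hmax⟩ := Finset.exists_max_image
    (Finset.univ.filter (fun x : Sylow p G × Sylow p G => x.1 ≠ x.2 ∧ (x.1 : Subgroup G) ⊓ x.2 ≠ ⊥))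
    (fun x => Nat.card ((x.1 : Subgroup G) ⊓ x.2 : Subgroup G))
    ⟨(P, R), Finset.mem_filter.2 ⟨Finset.mem_univ _, hPR, hne⟩⟩
  obtain ⟨-, hPR, hW1⟩ := Finset.mem_filter.1 hmem
  dsimp only at hPR hW1
  set W := (P : Subgroup G) ⊓ R with hW
  set M := Subgroup.normalizer (W : Set G)
  have hodd : ∀ n ∈ M, Odd (orderOf n) := fun n hn => odd_normalizer h D hδ hq hpq inf_le_left hW1 hn
  obtain ⟨N, -, hNp, hNmem, -⟩ := pGroup_normalizer h D hδ hq M hodd
  obtain ⟨Q, hQ⟩ := (hNp.map M.subtype).exists_le_sylow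
  have hle : ∀ S : Sylow p G, W ≤ (S : Subgroup G) → (S : Subgroup G) ⊓ M ≤ (Q : Subgroup G) := by
    intro S _ x hx
    obtain ⟨k, hk⟩ := IsPGroup.iff_orderOf.1 S.2 ⟨x, hx.1⟩
    rw [← Subgroup.orderOf_coe] at hk
    exact hQ ⟨⟨x, hx.2⟩, hNmem _ ⟨k, by rw [← Subgroup.orderOf_coe]; exact hk⟩, rfl⟩
  have hgrow : ∀ S : Sylow p G, W ≤ (S : Subgroup G) → W ≠ (S : Subgroup G) → S = Q := by
    intro S hWS hne'
    have hlt : W.subgroupOf (S : Subgroup G) < ⊤ := lt_top_iff_ne_top.2 fun e =>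
      hne' (le_antisymm hWS (subgroupOf_eq_top.1 e))
    haveI := S.2.isNilpotent
    obtain ⟨x, hxN, hxW⟩ :=
      SetLike.exists_of_lt (Group.normalizerCondition_of_isNilpotent (W.subgroupOf (S : Subgroup G)) hlt)
    by_contra hSQ
    have hxM : (x : G) ∈ M := by
      rw [Subgroup.mem_normalizer_iff] at hxN ⊢
      intro y
      constructor
      · intro hy; exact (hxN ⟨y, hWS hy⟩).1 hy
      · intro hy
        have hyS : y ∈ (S : Subgroup G) := by
          have := mul_mem (mul_mem (inv_mem x.2) (hWS hy)) x.2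
          rwa [show (x : G)⁻¹ * ((x : G) * y * (x : G)⁻¹) * x = y by group] at this
        exact (hxN ⟨y, hyS⟩).2 hy
    have hW' : W ≤ (S : Subgroup G) ⊓ Q := le_inf hWS fun y hy => hle S hWS ⟨hWS hy, le_normalizer hy⟩
    have hxSQ : (x : G) ∈ (S : Subgroup G) ⊓ Q := ⟨x.2, hle S hWS ⟨x.2, hxM⟩⟩
    have h1 : W < (S : Subgroup G) ⊓ Q :=
      lt_of_le_of_ne hW' fun e => hxW (by rw [mem_subgroupOf, e]; exact hxSQ)
    have h2 := hmax (S, Q) (Finset.mem_filter.2 ⟨Finset.mem_univ _, hSQ, fun e => hW1 (le_bot_iff.1 (e ▸ hW'))⟩)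
    exact absurd (eq_of_le_of_card_ge hW' h2) h1.ne
  have hcard : ∀ S T : Sylow p G, (S : Subgroup G) ≤ T → S = T := fun S T e =>
    Sylow.ext (eq_of_le_of_card_ge e (by rw [card_sylow h D hδ hq hpq S, card_sylow h D hδ hq hpq T]))
  have hP : P = Q := hgrow P inf_le_left fun e => hPR (hcard P R (e ▸ inf_le_right))
  have hR : R = Q := hgrow R inf_le_right fun e => hPR (hcard R P (e ▸ inf_le_left)).symm
  exact hPR (hP.trans hR.symm)

theorem sylow_centralizer {p f : ℕ} [hp : Fact p.Prime] (hq : q = p ^ f) (hpq : p ∣ q) (P : Sylow p G) {x : G}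
    (hx : x ∈ (P : Subgroup G)) (hx1 : x ≠ 1) :
    centralizer ({x} : Set G) = (P : Subgroup G) := by
  obtain ⟨hxZ, hxa⟩ := sylow_element h D hδ hq hpq hx hx1
  have hc : Nat.card (centralizer ({x} : Set G)) = q := card_zero h D hxZ hxa
  obtain ⟨R, hR⟩ := (IsPGroup.of_card (hc.trans hq) : IsPGroup p (centralizer ({x} : Set G))).exists_le_sylow
  have hRC : centralizer ({x} : Set G) = (R : Subgroup G) :=
    eq_of_le_of_card_ge hR (le_of_eq (by rw [hc, card_sylow h D hδ hq hpq R]))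
  by_cases e : P = R
  · rw [hRC, e]
  · exfalso
    have h1 : x ∈ (P : Subgroup G) ⊓ R := ⟨hx, hRC ▸ mem_centralizer_singleton_iff.2 rfl⟩
    rw [sylow_ti h D hδ hq hpq P R e, mem_bot] at h1
    exact hx1 h1

open scoped Classical in
theorem card_normalizer_sylow {p f : ℕ} [hp : Fact p.Prime] (hq : q = p ^ f) (hpq : p ∣ q) (P : Sylow p G) :
    Nat.card (Subgroup.normalizer ((P : Subgroup G) : Set G)) = q * r := by
  haveI := Fintype.ofFinite (Sylow p G)
  set Z0 := Finset.univ.filter (fun z : G => ¬ IntoK K z ∧ a z = 0) with hZ0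
  have hq3 := q_pos h D
  have hcount : Nat.card (Sylow p G) * (q - 1) = Z0.card := by
    have hY : ∀ S : Sylow p G, Nat.card {x : (S : Subgroup G) // x ≠ 1} = q - 1 := by
      intro S
      haveI := Fintype.ofFinite (S : Subgroup G)
      rw [Nat.card_eq_fintype_card, Fintype.card_subtype_compl, Fintype.card_subtype_eq,
        ← Nat.card_eq_fintype_card, card_sylow h D hδ hq hpq S]
    rw [← Fintype.card_coe, ← Nat.card_eq_fintype_card,
      ← Nat.card_congr (Equiv.ofBijective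
        (fun z : (S : Sylow p G) × {x : (S : Subgroup G) // x ≠ 1} => (⟨(z.2.1 : G), Finset.mem_filter.2
          ⟨Finset.mem_univ _, sylow_element h D hδ hq hpq z.2.1.2 fun e => z.2.2 (Subtype.ext e)⟩⟩ :
            {v // v ∈ Z0})) ⟨?_, ?_⟩), Nat.card_sigma]
    · simp only [hY, Finset.sum_const, Finset.card_univ, smul_eq_mul, Nat.card_eq_fintype_card]
    · rintro ⟨S, x⟩ ⟨T, y⟩ e
      have e' : (x.1 : G) = (y.1 : G) := congrArg (fun v : {v // v ∈ Z0} => (v : G)) e
      obtain rfl : S = T := by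
        by_contra hST
        have h1 : (x.1 : G) ∈ (S : Subgroup G) ⊓ T := ⟨x.1.2, e' ▸ y.1.2⟩
        rw [sylow_ti h D hδ hq hpq S T hST, mem_bot] at h1
        exact x.2 (Subtype.ext h1)
      exact Sigma.ext rfl (heq_of_eq (Subtype.ext (Subtype.ext e')))
    · rintro ⟨z, hz⟩
      obtain ⟨-, hzZ, hza⟩ := Finset.mem_filter.1 hz
      obtain ⟨S, hS⟩ := (IsPGroup.of_card ((card_zero h D hzZ hza).trans hq) :
        IsPGroup p (centralizer ({z} : Set G))).exists_le_sylow
      exact ⟨⟨S, ⟨⟨z, hS (mem_centralizer_singleton_iff.2 rfl)⟩,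
        fun e => hzZ (by rw [show z = 1 from congrArg Subtype.val e]; exact intoK_one)⟩⟩, rfl⟩
  have h2 : (Z0.card : ℤ) = (q : ℤ) * q - 1 := (card_zeros h D).1
  rw [← hcount] at h2
  push_cast [Nat.cast_sub (by omega : 1 ≤ q)] at h2
  have h3 : (Nat.card (Sylow p G) : ℤ) = (q : ℤ) + 1 :=
    mul_right_cancel₀ (show (q : ℤ) - 1 ≠ 0 by omega) (by linear_combination h2)
  have h4 := (Subgroup.normalizer ((P : Subgroup G) : Set G)).card_mul_index
  rw [show (Subgroup.normalizer ((P : Subgroup G) : Set G)).index = Nat.card (Sylow p G) from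
    P.card_eq_index_normalizer.symm, card_G h D] at h4
  have hq' := D.hq
  rw [hδ] at hq'
  have h5 : Nat.card (Sylow p G) = 2 * Nat.card K := by omega
  rw [h5] at h4
  have hk := k_two_le h D
  apply Nat.eq_of_mul_eq_mul_left (show 0 < 2 * Nat.card K by omega)
  linarith

theorem concl_minus : Concl G := by
  classical
  obtain ⟨p, hp', ⟨f, hq⟩, hpq⟩ := sylow_data h D hδ
  haveI := Fact.mk hp'
  obtain ⟨P⟩ : Nonempty (Sylow p G) := inferInstance
  set N := Subgroup.normalizer ((P : Subgroup G) : Set G) with hN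
  have hPc := card_sylow h D hδ hq hpq P
  have hNc := card_normalizer_sylow h D hδ hq hpq P
  have hq3 := q_pos h D
  have hrp := r_pos h D
  have hr' := D.hr
  have hq' := D.hq
  rw [hδ] at hr' hq'
  have hP1 : (P : Subgroup G) ≠ ⊥ := fun e => by
    rw [e, Subgroup.card_bot] at hPc
    omega
  have hPN : (P : Subgroup G) ≤ N := le_normalizer
  haveI hnorm : ((P : Subgroup G).subgroupOf N).Normal := normal_in_normalizer
  have hPsub : Nat.card ((P : Subgroup G).subgroupOf N) = q := by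
    rw [Nat.card_congr (subgroupOfEquivOfLe hPN).toEquiv, hPc]
  have hidx : ((P : Subgroup G).subgroupOf N).index = r := by
    have := ((P : Subgroup G).subgroupOf N).card_mul_index
    rw [hPsub, hNc] at this
    exact Nat.eq_of_mul_eq_mul_left (by omega) this
  obtain ⟨E₀, hE₀⟩ := Subgroup.exists_right_complement'_of_coprime (N := (P : Subgroup G).subgroupOf N)
    (by rw [hPsub, hidx]; exact (coprime_kqr h D).2.2)
  set E := E₀.map N.subtype with hE
  have hEc : Nat.card E = r := by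
    rw [hE, Subgroup.card_map_of_injective N.subtype_injective,
      ← (Subgroup.IsComplement'.symm hE₀).index_eq_card, hidx]
  have hEN : E ≤ N := by rw [hE]; exact map_subtype_le _
  have hEodd : ∀ n ∈ E, Odd (orderOf n) := fun n hn => odd_normalizer h D hδ hq hpq le_rfl hP1 (hEN hn)
  obtain ⟨N', -, hN'p, -, hN'c⟩ := pGroup_normalizer h D hδ hq E hEodd
  have hN'1 : N' = ⊥ := by
    rw [← Subgroup.card_eq_one]
    obtain ⟨j, hj⟩ := IsPGroup.iff_card.1 hN'p
    refine Nat.eq_one_of_dvd_coprimes (coprime_kqr h D).2.2 ?_ (hEc ▸ card_subgroup_dvd_card N')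
    rw [hj]
    rcases Nat.eq_zero_or_pos j with e | e
    · rw [e, pow_zero]; exact one_dvd _
    · have hpr : p ∣ r := hEc ▸ ((dvd_pow_self p (by omega)).trans (hj ▸ card_subgroup_dvd_card N'))
      exact ((no_common h D hp').2.2.2 ⟨hpq, hpr⟩).elim
  have hEcomm : IsMulCommutative E := ⟨⟨fun a b => by
    have h1 := hN'c a b
    rw [hN'1, mem_bot] at h1
    calc a * b = a * b * a⁻¹ * b⁻¹ * (b * a) := by group
      _ = b * a := by rw [h1, one_mul]⟩⟩
  have hdisj : (P : Subgroup G) ⊓ E = ⊥ := inf_eq_bot_of_coprime (by rw [hPc, hEc]; exact (coprime_kqr h D).2.2)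
  have hNeq : N = (P : Subgroup G) ⊔ E := by
    refine le_antisymm (fun n hn => ?_) (sup_le hPN hEN)
    obtain ⟨⟨x, y⟩, hxy⟩ := hE₀.2 (⟨n, hn⟩ : N)
    have h1 : (((x : N) : G)) * ((y : N) : G) = n := congrArg Subtype.val hxy
    rw [← h1]
    exact mul_mem (mem_sup_left x.2) (mem_sup_right ⟨(y : N), y.2, rfl⟩)
  refine ⟨P, E, ?_, fun x hx hx1 => sylow_centralizer h D hδ hq hpq P hx hx1, hEcomm, ?_, hdisj, ?_, ?_⟩
  · rw [hPc]; exact order_eq h D
  · rw [hEc, hPc]; omega
  · rw [← hN, hNeq]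
  intro X hX hX1
  obtain ⟨⟨e, heX⟩, he1⟩ := Subgroup.ne_bot_iff_exists_ne_one.1 hX1
  have he1' : e ≠ 1 := fun h0 => he1 (Subtype.ext h0)
  have key : ∀ e ∈ E, e ≠ 1 → ¬ IntoK K e ∧ a e ≠ 0 ∧ centralizer ({e} : Set G) = E := by
    intro e he he1
    have hord : orderOf e ∣ r := hEc ▸ Subgroup.orderOf_dvd_natCard _ he
    have heZ : ¬ IntoK K e := by
      rintro ⟨g, hg⟩
      have h1 : orderOf e ∣ Nat.card K := by
        have := Subgroup.orderOf_dvd_natCard K hg
        rwa [show g * e * g⁻¹ = MulAut.conj g e from rfl, MulEquiv.orderOf_eq] at this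
      exact he1 (orderOf_eq_one_iff.1 (Nat.eq_one_of_dvd_coprimes (coprime_kqr h D).2.1 h1 hord))
    have hea : a e ≠ 0 := fun h0 => he1 (orderOf_eq_one_iff.1 (Nat.eq_one_of_dvd_coprimes
      (coprime_kqr h D).2.2 ((Subgroup.orderOf_dvd_natCard _ (mem_centralizer_singleton_iff.2 rfl)).trans
        (dvd_q h D heZ h0)) hord))
    refine ⟨heZ, hea, (eq_of_le_of_card_ge (fun c hc => mem_centralizer_singleton_iff.2
      (congrArg Subtype.val (hEcomm.is_comm.comm (⟨c, hc⟩ : E) ⟨e, he⟩))) ?_).symm⟩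
    rw [(pairs_nonzero h D hδ heZ hea).2, hEc]
  obtain ⟨heZ, hea, heC⟩ := key e (hX heX) he1'
  obtain ⟨-, hti, u, hu, hinv, hnorm⟩ := r_centralizer h D hδ heZ hea
  rw [heC] at hti hinv hnorm
  have huE : u ∉ E := fun hc => h.no_invol_centralizer heZ hu (heC.symm ▸ hc)
  have hu_norm : ∀ Y : Subgroup G, Y ≤ E → u ∈ Subgroup.normalizer (Y : Set G) := by
    intro Y hY
    rw [Subgroup.mem_normalizer_iff]
    intro x
    constructor
    · intro hx; rw [hinv x (hY hx)]; exact inv_mem hx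
    · intro hx
      have h1 := hinv _ (hY hx)
      rw [show u * (u * x * u⁻¹) * u⁻¹ = (u * u) * x * (u * u)⁻¹ by group, Invol.invol_mul_self hu,
        one_mul, inv_one, mul_one] at h1
      rw [h1]; exact inv_mem hx
  have hE_norm : ∀ Y : Subgroup G, Y ≤ E → E ≤ Subgroup.normalizer (Y : Set G) := by
    intro Y hY c hc
    rw [Subgroup.mem_normalizer_iff]
    intro x
    constructor
    · intro hx
      rwa [show c * x = x * c from congrArg Subtype.val (hEcomm.is_comm.comm (⟨c, hc⟩ : E) ⟨x, hY hx⟩),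
        mul_inv_cancel_right]
    · intro hx
      have h1 : c⁻¹ * (c * x * c⁻¹) = c * x * c⁻¹ * c⁻¹ :=
        congrArg Subtype.val (hEcomm.is_comm.comm (⟨c⁻¹, inv_mem hc⟩ : E) ⟨_, hY hx⟩)
      rw [show c⁻¹ * (c * x * c⁻¹) = x * c⁻¹ by group] at h1
      rwa [← mul_right_cancel h1] at hx
  have hle : ∀ Y : Subgroup G, Y ≤ E → E ⊔ zpowers u ≤ Subgroup.normalizer (Y : Set G) := fun Y hY =>
    sup_le (hE_norm Y hY) (zpowers_le.2 (hu_norm Y hY))
  have hup : ∀ Y : Subgroup G, Y ≤ E → e ∈ Y → Subgroup.normalizer (Y : Set G) ≤ E ⊔ zpowers u := by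
    intro Y hY heY n hn
    have hne : n * e * n⁻¹ ∈ E := hY ((Subgroup.mem_normalizer_iff.1 hn e).1 heY)
    have hnn : n ∈ Subgroup.normalizer ((centralizer ({e} : Set G) : Subgroup G) : Set G) := by
      rw [conj_centralizer_eq, heC]
      exact (key _ hne fun h0 => he1' (conj_eq_one_iff.1 h0)).2.2
    rw [heC] at hnn
    rcases hnorm n hnn with h1 | h1
    · exact mem_sup_left h1
    · rw [show n = u * (u * n) by rw [← mul_assoc, Invol.invol_mul_self hu, one_mul]]
      exact mul_mem (mem_sup_right (mem_zpowers u)) (mem_sup_left h1)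
  have hNE : Subgroup.normalizer (E : Set G) = E ⊔ zpowers u :=
    le_antisymm (hup E le_rfl (hX heX)) (hle E le_rfl)
  exact ⟨(le_antisymm (hup X hX heX) (hle X hX)).trans hNE.symm, u, hu, huE, hinv, hNE⟩

end Data

/-- The theorem of Brauer, Suzuki and Wall. -/
theorem Hyp.concl (h : Hyp t s K) : Concl G := by
  obtain ⟨A, a, δ, q, r, D⟩ := h.exists_data
  rcases D.sgn with e | e
  · exact Data.concl_plus h D e
  · exact Data.concl_minus h D e

end CfsgLib.BSW
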