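import Cfsg.Agent.Lib.BSW.Setup
import Cfsg.Agent.Lib.BSW.CharTools
import Cfsg.Agent.Lib.Char.QuaternionExceptional
import Cfsg.Agent.Lib.Char.ClassMul
import Cfsg.Agent.Lib.Block.Blocks

/-!
# The exceptional pair of a nonreal character of `K`
-/

set_option autoImplicit false
set_option linter.unusedSectionVars false

open Subgroup Cfsg
open scoped ComplexConjugate IsMulCommutative

namespace CfsgLib.BSW

universe u

variable {G : Type u} [Group G] [Fintype G] {t s : G} {K : Subgroup G}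

/-- `(1 - φ)` induced to `G`. -/
noncomputable def expFun (φ : K →* ℂˣ) : G → ℂ := indFun K (fun y : K => 1 - (φ y : ℂ))

/-- The multiplicity of an irreducible character in `expFun φ`. -/
noncomputable def coef (φ : K →* ℂˣ) (χ : G → ℂ) : ℂ :=
  open Classical in (Nat.card K : ℂ)⁻¹ * ∑ y : K, (1 - (φ y : ℂ)) * conj (χ y)

theorem classInner_expFun (φ : K →* ℂˣ) {χ : G → ℂ} (hχ : IsClassFunction G χ) :
    classInner (expFun φ) χ = coef φ χ := by
  classical
  rw [expFun, Char.classInner_indFun K _ χ hχ]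
  rfl

theorem isGeneralized_expFun (φ : K →* ℂˣ) : IsGeneralizedCharacter G (expFun φ) :=
  Char.isGeneralizedCharacter_indFun K (Char.isGeneralizedCharacter_sub
    (Char.isGeneralizedCharacter_of_isCharacter (Char.isCharacter_of_isIrr Char.isIrrCharacter_one))
    (Char.isGeneralizedCharacter_of_isCharacter
      (Char.isCharacter_of_isIrr (Char.isIrrCharacter_lin φ))))

theorem expFun_one (φ : K →* ℂˣ) : expFun φ 1 = 0 := by
  rw [expFun, Char.indFun_one, map_one, Units.val_one, sub_self, mul_zero]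

namespace Hyp

variable (h : Hyp t s K)

include h

theorem isComm : IsMulCommutative K := ⟨⟨fun a b => Subtype.ext (h.comm a a.2 b b.2)⟩⟩

/-- The element `t` of `K`. -/
theorem phi_t (φ : K →* ℂˣ) : (φ ⟨t, h.tK⟩ : ℂ) = 1 ∨ (φ ⟨t, h.tK⟩ : ℂ) = -1 := by
  refine mul_self_eq_one_iff.1 ?_
  rw [← Units.val_mul, ← map_mul, show (⟨t, h.tK⟩ : K) * ⟨t, h.tK⟩ = 1 from
    Subtype.ext (Invol.invol_mul_self h.ht), map_one, Units.val_one]

theorem invol_val (χ : IrrCharacter G) : ∃ z : ℤ, (χ : G → ℂ) t = z := by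
  refine exists_int_value χ fun m hm => ?_
  obtain ⟨l, rfl⟩ : Odd m := by
    rw [← Nat.not_even_iff_odd, even_iff_two_dvd]
    intro h2
    exact Nat.not_coprime_of_dvd_of_dvd (by norm_num) h2 (h.ht ▸ orderOf_dvd_natCard t) hm
  rw [pow_succ, pow_mul, pow_two, Invol.invol_mul_self h.ht, one_pow, one_mul]

theorem irr_real_K (χ : IrrCharacter G) {y : G} (hy : y ∈ K) :
    conj ((χ : G → ℂ) y) = (χ : G → ℂ) y := by
  rw [← Char.irr_inv, ← h.inv y hy, Char.isClassFunction_irr χ]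

theorem expFun_K (φ : K →* ℂˣ) {y : K} (hy1 : y ≠ 1) :
    expFun φ (y : G) = 2 - (φ y : ℂ) - (φ y⁻¹ : ℂ) := by
  classical
  have hext : ∀ x : G, extendByZero K (fun z : K => 1 - (φ z : ℂ)) (x⁻¹ * y * x) =
      (if x ∈ K then 1 - (φ y : ℂ) else 0) + (if s * x ∈ K then 1 - (φ y⁻¹ : ℂ) else 0) := by
    intro x
    by_cases hx : x ∈ K
    · rw [if_pos hx, if_neg fun e => h.sK ((mul_mem_cancel_right hx).1 e), add_zero]
      have e : x⁻¹ * (y : G) * x = y := by
        rw [mul_assoc, h.comm _ y.2 _ hx, inv_mul_cancel_left]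
      rw [e, Char.extendByZero_mem K _ y.2]
    rw [if_neg hx, zero_add]
    by_cases hsx : s * x ∈ K
    · rw [if_pos hsx]
      have e : x⁻¹ * (y : G) * x = (y : G)⁻¹ := by
        have h1 := h.sK_inv hsx y.2
        rw [← mul_assoc s s, Invol.invol_mul_self h.hs, one_mul] at h1
        have h2 := Invol.invol_inv (h.smul_invol hsx)
        rw [← mul_assoc s s, Invol.invol_mul_self h.hs, one_mul] at h2
        rw [h2] at h1 ⊢
        exact h1
      rw [e, Char.extendByZero_mem K _ (inv_mem y.2)]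
      rfl
    · rw [if_neg hsx]
      refine Char.extendByZero_not_mem K _ fun hm => ?_
      have := h.conj_mem_H (g := x⁻¹) y.2 (fun e => hy1 (Subtype.ext e)) (by simpa using hm)
      rcases h.mem_cases (inv_mem_iff.1 this) with h3 | h3
      · exact hx h3
      · exact hsx h3
  rw [expFun, indFun, Finset.sum_congr rfl fun x _ => hext x, Finset.sum_add_distrib,
    ← Finset.sum_filter, ← Finset.sum_filter, Finset.sum_const, Finset.sum_const, nsmul_eq_mul,
    nsmul_eq_mul, ← Fintype.card_subtype, ← Fintype.card_subtype, ← Nat.card_eq_fintype_card,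
    ← Nat.card_eq_fintype_card,
    Nat.card_congr ((Equiv.mulLeft s).subtypeEquiv fun x => Iff.rfl : {x : G // s * x ∈ K} ≃ K)]
  show (Nat.card K : ℂ)⁻¹ * _ = _
  have hk : (Nat.card K : ℂ) ≠ 0 := by exact_mod_cast Nat.card_pos.ne'
  field_simp
  ring

theorem expFun_t (φ : K →* ℂˣ) : expFun φ t = 2 - 2 * (φ ⟨t, h.tK⟩ : ℂ) := by
  rw [h.expFun_K φ (y := ⟨t, h.tK⟩) (fun e => h.t_ne_one (congrArg Subtype.val e)),
    show (⟨t, h.tK⟩ : K)⁻¹ = ⟨t, h.tK⟩ from Subtype.ext (Invol.invol_inv h.ht)]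
  ring

theorem inner_expFun (φ ψ : K →* ℂˣ) (hφ : φ ≠ 1) (hψ : ψ ≠ 1) :
    classInner (expFun φ) (expFun ψ) =
      open Classical in 2 + (if φ = ψ then 1 else 0) + (if φ * ψ = 1 then 1 else 0) := by
  classical
  haveI := h.isComm
  rw [classInner_expFun φ (χ := expFun ψ) (Char.isClassFunction_indFun K _), coef]
  have hterm : ∀ y : K, (1 - (φ y : ℂ)) * conj (expFun ψ (y : G)) =
      2 - (ψ y⁻¹ : ℂ) - (ψ y : ℂ) - 2 * (φ y : ℂ) + ((φ * ψ⁻¹) y : ℂ) + ((φ * ψ) y : ℂ) := by
    intro y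
    have e : ((ψ⁻¹ : K →* ℂˣ) y : ℂ) = (ψ y⁻¹ : ℂ) := by rw [MonoidHom.inv_apply, map_inv]
    rw [MonoidHom.mul_apply, MonoidHom.mul_apply, Units.val_mul, Units.val_mul, e]
    by_cases hy : y = 1
    · subst hy
      rw [show ((1 : K) : G) = 1 from rfl, expFun_one, map_zero, inv_one, map_one, map_one,
        Units.val_one]
      ring
    rw [h.expFun_K ψ hy, map_sub, map_sub, dual_conj, dual_conj, inv_inv, Complex.conj_ofNat]
    ring
  have hS : ∀ χ : K →* ℂˣ, ∑ y : K, (χ y : ℂ) = if χ = 1 then (Nat.card K : ℂ) else 0 := by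
    intro χ
    split_ifs with hχ
    · subst hχ; simp
    · exact sum_lam hχ
  have hinv : ∑ y : K, (ψ y⁻¹ : ℂ) = 0 := by
    rw [← sum_lam hψ]
    exact Fintype.sum_bijective _ (inv_involutive (G := K)).bijective _ _ fun y => rfl
  rw [Finset.sum_congr rfl fun y _ => hterm y]
  simp only [Finset.sum_add_distrib, Finset.sum_sub_distrib, ← Finset.mul_sum, hS, hinv,
    Finset.sum_const, Finset.card_univ, nsmul_eq_mul, ← Nat.card_eq_fintype_card, if_neg hφ, if_neg hψ,
    show (φ * ψ⁻¹ = 1) = (φ = ψ) from propext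
      ⟨fun e => MonoidHom.ext fun y => mul_inv_eq_one.1 (DFunLike.congr_fun e y),
        fun e => MonoidHom.ext fun y => mul_inv_eq_one.2 (DFunLike.congr_fun e y)⟩]
  have hk : (Nat.card K : ℂ) ≠ 0 := by exact_mod_cast Nat.card_pos.ne'
  split_ifs <;> field_simp <;> ring

theorem coef_one {φ : K →* ℂˣ} (hφ : φ ≠ 1) : coef φ (fun _ : G => (1 : ℂ)) = 1 := by
  classical
  haveI := h.isComm
  rw [coef, map_one]
  simp only [mul_one, Finset.sum_sub_distrib, sum_lam hφ, Finset.sum_const, Finset.card_univ,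
    nsmul_eq_mul, ← Nat.card_eq_fintype_card, sub_zero]
  exact inv_mul_cancel₀ (by exact_mod_cast Nat.card_pos.ne')

/-- The involution pair count, read off `expFun φ`. -/
theorem pair_formula [Fintype (IrrCharacter G)] {φ : K →* ℂˣ} (hφ : φ ≠ 1) :
    (∑ χ : IrrCharacter G, coef φ χ * ((χ : G → ℂ) t * (χ : G → ℂ) t / (χ : G → ℂ) 1)) *
      (Nat.card G : ℂ) = 4 * (Nat.card K : ℂ) ^ 3 := by
  classical
  haveI := h.isComm
  set W : G → ℂ := fun z => (Char.classConst t t z : ℂ) with hW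
  have hWcf : IsClassFunction G W := fun z g => by simp only [hW, Char.classConst_conj]
  have hpairs : ∀ z : G, Char.classConst t t z = pairs z := fun z =>
    Nat.card_congr (Equiv.subtypeEquivRight fun p =>
      ⟨fun hp => ⟨?_, ?_, hp.2.2⟩, fun hp => ⟨h.one_class _ _ h.ht hp.1,
        h.one_class _ _ h.ht hp.2.1, hp.2.2⟩⟩)
  rotate_left
  · obtain ⟨g, hg⟩ := isConj_iff.1 hp.1; rw [← hg]; exact Invol.invol_conj h.ht g
  · obtain ⟨g, hg⟩ := isConj_iff.1 hp.2.1; rw [← hg]; exact Invol.invol_conj h.ht g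
  set c : ℕ := (centralizer ({t} : Set G)).index with hc
  have hlhs : classInner (expFun φ) W = (Nat.card K : ℂ) := by
    rw [classInner_expFun φ hWcf, coef]
    have e : ∀ y : K, (1 - (φ y : ℂ)) * conj (W y) = (1 - (φ y : ℂ)) * (Nat.card K : ℂ) := by
      intro y
      by_cases hy : y = 1
      · subst hy; rw [map_one, Units.val_one, sub_self, zero_mul, zero_mul]
      · rw [hW]
        simp only [hpairs, h.pairs_K y.2 (fun e => hy (Subtype.ext e)), Complex.conj_natCast]
    rw [Finset.sum_congr rfl fun y _ => e y, ← Finset.sum_mul]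
    simp only [Finset.sum_sub_distrib, sum_lam hφ, Finset.sum_const, Finset.card_univ,
      nsmul_eq_mul, ← Nat.card_eq_fintype_card, sub_zero, mul_one]
    field_simp
  set w : IrrCharacter G → ℂ := fun χ =>
    (c : ℂ) * c / Nat.card G * ((χ : G → ℂ) t * (χ : G → ℂ) t / (χ : G → ℂ) 1) with hw
  have hWexp : W = fun z => ∑ χ : IrrCharacter G, w χ * conj ((χ : G → ℂ) z) := by
    funext z
    show (Char.classConst t t z : ℂ) = _
    rw [Char.classConst_formula, finsum_eq_sum_of_fintype, Finset.mul_sum]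
    refine Finset.sum_congr rfl fun χ _ => ?_
    simp only [hw, Char.card_isConj]
    ring
  have hrhs : classInner (expFun φ) W = ∑ χ : IrrCharacter G, w χ * coef φ χ := by
    have hr : ∀ z, conj (W z) = W z := fun z => Complex.conj_natCast _
    simp only [classInner, hr]
    rw [hWexp]
    simp only [Finset.mul_sum]
    rw [Finset.sum_comm]
    refine Finset.sum_congr rfl fun χ _ => ?_
    rw [← classInner_expFun φ (Char.isClassFunction_irr χ), classInner]
    simp only [Finset.mul_sum]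
    exact Finset.sum_congr rfl fun z _ => by ring
  rw [hrhs] at hlhs
  have hg : (Nat.card G : ℂ) = 2 * (Nat.card K : ℂ) * (c : ℂ) := by exact_mod_cast h.card_G
  have hsum : (c : ℂ) * c / Nat.card G *
      ∑ χ : IrrCharacter G, coef φ χ * ((χ : G → ℂ) t * (χ : G → ℂ) t / (χ : G → ℂ) 1) =
        (Nat.card K : ℂ) := by
    rw [Finset.mul_sum]
    refine Eq.trans (Finset.sum_congr rfl fun χ _ => ?_) hlhs
    simp only [hw]; ring
  have hc0 : (c : ℂ) ≠ 0 := by exact_mod_cast index_ne_zero_of_finite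
  have hk : (Nat.card K : ℂ) ≠ 0 := by exact_mod_cast Nat.card_pos.ne'
  rw [hg] at hsum ⊢
  generalize (∑ χ : IrrCharacter G,
    coef φ χ * ((χ : G → ℂ) t * (χ : G → ℂ) t / (χ : G → ℂ) 1)) = S at hsum ⊢
  field_simp at hsum
  have h3 : (c : ℂ) * S = 2 * (Nat.card K : ℂ) ^ 2 := by linear_combination hsum
  linear_combination (2 * (Nat.card K : ℂ)) * h3

/-- The two nontrivial constituents. -/
theorem pair_of_nonreal {φ : K →* ℂˣ} (hφ : φ * φ ≠ 1) :
    ∃ μ ν : IrrCharacter G, ∃ x y : ℤ, ∃ d : ℕ, ∃ e : ℤ, μ ≠ Block.oneChar G ∧ ν ≠ Block.oneChar G ∧ μ ≠ ν ∧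
      expFun φ = (Block.oneChar G : G → ℂ) + (μ : G → ℂ) - (ν : G → ℂ) ∧
      0 < d ∧ (μ : G → ℂ) 1 = d ∧ (ν : G → ℂ) 1 = (d : ℂ) + 1 ∧
      (μ : G → ℂ) t = x ∧ (ν : G → ℂ) t = y ∧
      (φ ⟨t, h.tK⟩ : ℂ) = e ∧ (e = 1 ∨ e = -1) ∧ x - y = 1 - 2 * e ∧
      (Nat.card G : ℂ) * (1 + (x : ℂ) ^ 2 / d - (y : ℂ) ^ 2 / (d + 1)) = 4 * (Nat.card K : ℂ) ^ 3 := by
  classical
  haveI := h.isComm
  have hφ1 : φ ≠ 1 := fun e => hφ (MonoidHom.ext fun y => by simp [e])
  letI := Fintype.ofFinite (IrrCharacter G)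
  obtain ⟨μ, ν, hμ, hν, hf, hdeg⟩ := Char.exists_pair_of_norm_three (isGeneralized_expFun φ)
    (by rw [h.inner_expFun φ φ hφ1 hφ1, if_pos rfl, if_neg hφ]; norm_num)
    (by rw [classInner_expFun φ (fun _ _ => rfl), h.coef_one hφ1]) (expFun_one φ)
  have hμ1 : μ ≠ Block.oneChar G := fun e => hμ (congrArg Subtype.val e)
  have hν1 : ν ≠ Block.oneChar G := fun e => hν (congrArg Subtype.val e)
  obtain ⟨d, hd0, hd⟩ := Char.isIrrCharacter_degree μ.2
  have hd' : (ν : G → ℂ) 1 = (d : ℂ) + 1 := by rw [hdeg, hd]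
  have hμν : μ ≠ ν := fun e => by rw [e, hd'] at hd; simp at hd
  obtain ⟨x, hx⟩ := h.invol_val μ
  obtain ⟨y, hy⟩ := h.invol_val ν
  obtain ⟨e, he, he'⟩ : ∃ e : ℤ, (φ ⟨t, h.tK⟩ : ℂ) = e ∧ (e = 1 ∨ e = -1) := by
    rcases h.phi_t φ with e | e
    · exact ⟨1, by rw [e, Int.cast_one], Or.inl rfl⟩
    · exact ⟨-1, by rw [e, Int.cast_neg, Int.cast_one], Or.inr rfl⟩
  refine ⟨μ, ν, x, y, d, e, hμ1, hν1, hμν, hf, hd0, hd, hd', hx, hy, he, he', ?_, ?_⟩
  · have h1 := h.expFun_t φ
    rw [congrFun hf t, Pi.sub_apply, Pi.add_apply, hx, hy, he] at h1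
    apply Int.cast_injective (α := ℂ)
    push_cast
    linear_combination h1
  · have h2 := h.pair_formula hφ1
    have hcoef : ∀ χ : IrrCharacter G, coef φ χ = (if χ = Block.oneChar G then 1 else 0) +
        (if χ = μ then 1 else 0) - (if χ = ν then 1 else 0) := by
      intro χ
      rw [← classInner_expFun φ (Char.isClassFunction_irr χ), hf]
      show classInner ((Block.oneChar G : G → ℂ) + (μ : G → ℂ) - (ν : G → ℂ)) _ = _
      rw [Char.classInner_sub_left, Char.classInner_add_left, Char.classInner_irr,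
        Char.classInner_irr, Char.classInner_irr]
      simp only [eq_comm]
    simp only [hcoef, sub_mul, add_mul, Finset.sum_sub_distrib, Finset.sum_add_distrib, ite_mul,
      one_mul, zero_mul, Finset.sum_ite_eq', Finset.mem_univ, if_true, hx, hy, hd, hd'] at h2
    rw [← h2]
    simp only [show ∀ z : G, (Block.oneChar G : G → ℂ) z = 1 from fun _ => rfl]
    ring

theorem coef_of_pair {φ : K →* ℂˣ} {μ ν : IrrCharacter G}
    (hf : expFun φ = (Block.oneChar G : G → ℂ) + (μ : G → ℂ) - (ν : G → ℂ)) (χ : IrrCharacter G)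
    (hχ : χ ≠ Block.oneChar G) :
    coef φ χ = open Classical in (if χ = μ then 1 else 0) - (if χ = ν then 1 else 0) := by
  classical
  rw [← classInner_expFun φ (Char.isClassFunction_irr χ), hf, Char.classInner_sub_left,
    Char.classInner_add_left, Char.classInner_irr, Char.classInner_irr, Char.classInner_irr,
    if_neg (Ne.symm hχ), zero_add]
  simp only [eq_comm]

end Hyp
end CfsgLib.BSW
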