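import Cfsg.Agent.Lib.BSW.Types
import Cfsg.Agent.Lib.Invol.TI
import Mathlib.GroupTheory.FixedPointFree

/-!
# Strongly real elements in no conjugate of `K`
-/

set_option autoImplicit false
set_option linter.unusedSectionVars false

open Subgroup Cfsg
open scoped ComplexConjugate

namespace CfsgLib.BSW

universe u

variable {G : Type u} [Group G] [Fintype G] {t s : G} {K : Subgroup G}
  {A : IrrCharacter G} {a : G → ℤ} {δ : ℤ} {q r : ℕ}

theorem pairs_pos_iff (y : G) : pairs y ≠ 0 ↔
    ∃ u v : G, orderOf u = 2 ∧ orderOf v = 2 ∧ u * v = y := by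
  rw [pairs, Nat.card_ne_zero]
  exact ⟨fun ⟨⟨⟨⟨u, v⟩, hu⟩⟩, _⟩ => ⟨u, v, hu⟩,
    fun ⟨u, v, hu⟩ => ⟨⟨⟨(u, v), hu⟩⟩, inferInstance⟩⟩

theorem conj_centralizer_eq {g y : G} : g ∈ Subgroup.normalizer ((centralizer ({y} : Set G) : Subgroup G) : Set G) ↔
    centralizer ({g * y * g⁻¹} : Set G) = centralizer ({y} : Set G) := by
  have key : ∀ x, g * x * g⁻¹ ∈ centralizer ({g * y * g⁻¹} : Set G) ↔ x ∈ centralizer ({y} : Set G) := by
    intro x
    simp only [mem_centralizer_singleton_iff]
    rw [show g * x * g⁻¹ * (g * y * g⁻¹) = g * (x * y) * g⁻¹ by group,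
      show g * y * g⁻¹ * (g * x * g⁻¹) = g * (y * x) * g⁻¹ by group, mul_left_inj, mul_right_inj]
  rw [Subgroup.mem_normalizer_iff]
  constructor
  · intro hn
    ext z
    rw [show z = g * (g⁻¹ * z * g) * g⁻¹ by group, key]
    exact (hn _).trans Iff.rfl
  · intro e x
    rw [← e, key, e]

namespace Hyp

variable (h : Hyp t s K)

include h

theorem no_invol_centralizer {y u : G} (hy : ¬ IntoK K y) (hu : orderOf u = 2) :
    u ∉ centralizer ({y} : Set G) := fun hc =>
  h.outside_centralizer hy hc (Invol.invol_ne_one hu) (h.intoK_invol hu)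

/-- An involution normalizing the centralizer of an outside element inverts it. -/
theorem inverts_centralizer {y u : G} (hy : ¬ IntoK K y) (hu : orderOf u = 2)
    (hn : u ∈ Subgroup.normalizer ((centralizer ({y} : Set G) : Subgroup G) : Set G)) :
    ∀ c ∈ centralizer ({y} : Set G), u * c * u⁻¹ = c⁻¹ := by
  classical
  have hmem : ∀ c : centralizer ({y} : Set G), u * (c : G) * u⁻¹ ∈ centralizer ({y} : Set G) :=
    fun c => (Subgroup.mem_normalizer_iff.1 hn c).1 c.2
  let φ : centralizer ({y} : Set G) →* centralizer ({y} : Set G) :=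
    { toFun := fun c => ⟨u * (c : G) * u⁻¹, hmem c⟩
      map_one' := Subtype.ext (show u * (1 : G) * u⁻¹ = 1 by group)
      map_mul' := fun a b => Subtype.ext
        (show u * ((a : G) * b) * u⁻¹ = u * a * u⁻¹ * (u * b * u⁻¹) by group) }
  have hfp : MonoidHom.FixedPointFree φ := by
    intro c hc
    have hc' : u * (c : G) * u⁻¹ = c := congrArg Subtype.val hc
    by_contra hc1
    have hc0 : (c : G) ≠ 1 := fun e => hc1 (Subtype.ext e)
    refine h.no_invol_centralizer (h.outside_centralizer hy c.2 hc0) hu ?_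
    exact mem_centralizer_singleton_iff.2 (mul_inv_eq_iff_eq_mul.1 hc')
  have hinv : Function.Involutive φ := fun c => Subtype.ext
    (show u * (u * (c : G) * u⁻¹) * u⁻¹ = c by
      rw [show u * (u * (c : G) * u⁻¹) * u⁻¹ = (u * u) * c * (u * u)⁻¹ by group,
        Invol.invol_mul_self hu]; group)
  intro c hc
  exact congrArg Subtype.val (congrFun (hfp.coe_eq_inv_of_involutive hinv) ⟨c, hc⟩)

theorem normalizes_of_inverts {y u : G} (hu : orderOf u = 2) (hinv : u * y * u⁻¹ = y⁻¹) :
    u ∈ Subgroup.normalizer ((centralizer ({y} : Set G) : Subgroup G) : Set G) := by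
  rw [conj_centralizer_eq, hinv]
  ext z
  simp only [mem_centralizer_singleton_iff]
  exact Commute.inv_right_iff (a := z) (b := y)

theorem comm_centralizer {y u : G} (hy : ¬ IntoK K y) (hu : orderOf u = 2)
    (hinv : u * y * u⁻¹ = y⁻¹) {a b : G} (ha : a ∈ centralizer ({y} : Set G))
    (hb : b ∈ centralizer ({y} : Set G)) : a * b = b * a := by
  have H := h.inverts_centralizer hy hu (h.normalizes_of_inverts hu hinv)
  have h1 : u * (a * b) * u⁻¹ = (a * b)⁻¹ := H _ (mul_mem ha hb)
  rw [show u * (a * b) * u⁻¹ = (u * a * u⁻¹) * (u * b * u⁻¹) by group, H a ha, H b hb,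
    ← mul_inv_rev, inv_inj] at h1
  exact h1.symm

theorem ti_centralizer {y u : G} (hy : ¬ IntoK K y) (hu : orderOf u = 2) (hinv : u * y * u⁻¹ = y⁻¹) {n : ℕ}
    (hcy : Nat.card (centralizer ({y} : Set G)) = n)
    (hall : ∀ z ∈ centralizer ({y} : Set G), z ≠ 1 → Nat.card (centralizer ({z} : Set G)) ≤ n)
    {z : G} (hz : z ∈ centralizer ({y} : Set G)) (hz1 : z ≠ 1) :
    centralizer ({z} : Set G) = centralizer ({y} : Set G) :=
  (eq_of_le_of_card_ge (fun c hc => mem_centralizer_singleton_iff.2 (h.comm_centralizer hy hu hinv hc hz))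
    (hcy.symm ▸ hall z hz hz1)).symm

/-- The normalizer of an inverted centralizer, modulo the centralizer, fixes the involution. -/
theorem norm_decomp {y u : G} (hy : ¬ IntoK K y) (hu : orderOf u = 2) (hinv : u * y * u⁻¹ = y⁻¹)
    {n : G} (hn : n ∈ Subgroup.normalizer ((centralizer ({y} : Set G) : Subgroup G) : Set G)) :
    ∃ z ∈ centralizer ({y} : Set G), z * n * u = u * (z * n) := by
  set X := centralizer ({y} : Set G) with hX
  have H := h.inverts_centralizer hy hu (h.normalizes_of_inverts hu hinv)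
  have hu' : orderOf (n * u * n⁻¹) = 2 := Invol.invol_conj hu n
  have hn' : n * u * n⁻¹ ∈ Subgroup.normalizer (X : Set G) :=
    mul_mem (mul_mem hn (h.normalizes_of_inverts hu hinv)) (inv_mem hn)
  have H' := h.inverts_centralizer hy hu' hn'
  have hx : u * (n * u * n⁻¹) ∈ X := by
    rw [hX, mem_centralizer_singleton_iff]
    have hyX : y ∈ X := mem_centralizer_singleton_iff.2 rfl
    have e1 : u * y⁻¹ * u⁻¹ = y := by
      have := H _ (inv_mem hyX); rwa [inv_inv] at this
    have e2 := H' y hyX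
    calc u * (n * u * n⁻¹) * y
        = u * ((n * u * n⁻¹) * y * (n * u * n⁻¹)⁻¹) * u⁻¹ * (u * (n * u * n⁻¹)) := by group
      _ = y * (u * (n * u * n⁻¹)) := by rw [e2, e1]
  have hodd : Odd (orderOf (u * (n * u * n⁻¹))) := by
    rw [← Nat.not_even_iff_odd, even_iff_two_dvd]
    intro h2
    haveI : Fact (Nat.Prime 2) := ⟨Nat.prime_two⟩
    have hp := pow_mem hx (orderOf (u * (n * u * n⁻¹)) / 2)
    exact h.no_invol_centralizer hy (orderOf_pow_orderOf_div (orderOf_pos _).ne' h2) hp
  obtain ⟨m, hm⟩ := hodd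
  set x := u * (n * u * n⁻¹) with hxdef
  have hz : (x ^ (m + 1)) * (x ^ (m + 1)) = x := by
    rw [← pow_add, show m + 1 + (m + 1) = orderOf x + 1 by omega, pow_succ, pow_orderOf_eq_one, one_mul]
  refine ⟨x ^ (m + 1), pow_mem hx _, ?_⟩
  set z := x ^ (m + 1)
  have hzi : u * z * u⁻¹ = z⁻¹ := H z (pow_mem hx _)
  have hnu : n * u = u * x * n := by
    rw [hxdef, ← mul_assoc u u, Invol.invol_mul_self hu, one_mul, inv_mul_cancel_right]
  calc z * n * u = z * (n * u) := mul_assoc _ _ _
    _ = z * (u * (z * z) * n) := by rw [hnu, hz]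
    _ = (z * (u * z * u⁻¹)) * (u * z * n) := by group
    _ = u * (z * n) := by rw [hzi, mul_inv_cancel, one_mul, mul_assoc]

/-- For the involution `t` this fixed part lies in `K`. -/
theorem norm_fixed {y : G} (hy : ¬ IntoK K y) (hinv : t * y * t⁻¹ = y⁻¹) {w : G}
    (hw : w ∈ Subgroup.normalizer ((centralizer ({y} : Set G) : Subgroup G) : Set G))
    (hwt : w ∈ centralizer ({t} : Set G)) : w ∈ K := by
  rcases h.mem_cases hwt with h1 | h1
  · exact h1
  · exfalso
    have hwi : orderOf w = 2 := by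
      have := h.smul_invol h1
      rwa [← mul_assoc, Invol.invol_mul_self h.hs, one_mul] at this
    have hyX : y ∈ centralizer ({y} : Set G) := mem_centralizer_singleton_iff.2 rfl
    have e1 := h.inverts_centralizer hy hwi hw y hyX
    have hc : t * w ∈ centralizer ({y} : Set G) := by
      rw [mem_centralizer_singleton_iff]
      have e2 : t * y⁻¹ * t⁻¹ = y := by
        rw [← conj_inv, hinv, inv_inv]
      calc t * w * y = t * (w * y * w⁻¹) * t⁻¹ * (t * w) := by group
        _ = y * (t * w) := by rw [e1, e2]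
    have hne : t * w ≠ 1 := fun e => by
      have hwt' : w = t := by
        rw [eq_inv_of_mul_eq_one_right e, Invol.invol_inv h.ht]
      subst hwt'
      exact h.sK ((mul_mem_cancel_right h.tK).1 h1)
    refine h.no_invol_centralizer hy (u := t * w) ?_ hc
    rw [Invol.invol_iff]
    refine ⟨?_, hne⟩
    have hcm := mem_centralizer_singleton_iff.1 hwt
    rw [show t * w * (t * w) = t * (w * t) * w by group, hcm,
      show t * (t * w) * w = (t * t) * (w * w) by group, Invol.invol_mul_self h.ht,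
      Invol.invol_mul_self hwi, one_mul]

theorem card_normalizer {y : G} (hy : ¬ IntoK K y) (hinv : t * y * t⁻¹ = y⁻¹) :
    Nat.card (Subgroup.normalizer ((centralizer ({y} : Set G) : Subgroup G) : Set G)) =
      Nat.card (centralizer ({y} : Set G)) *
        Nat.card (Subgroup.normalizer ((centralizer ({y} : Set G) : Subgroup G) : Set G) ⊓ K : Subgroup G) := by
  set X := centralizer ({y} : Set G) with hX
  set N := Subgroup.normalizer (X : Set G) with hN
  rw [← Nat.card_prod]
  refine (Nat.card_congr (Equiv.ofBijective (fun p : X × (N ⊓ K : Subgroup G) =>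
    (⟨(p.1 : G) * p.2, mul_mem (le_normalizer p.1.2) p.2.2.1⟩ : N)) ⟨fun p p' e => ?_, fun n => ?_⟩)).symm
  · have e' : (p.1 : G) * p.2 = p'.1 * p'.2 := congrArg Subtype.val e
    have e2 : (p'.1 : G)⁻¹ * p.1 = p'.2 * (p.2 : G)⁻¹ := by
      rw [eq_mul_inv_iff_mul_eq, mul_assoc, e', inv_mul_cancel_left]
    have h1 : (p'.1 : G)⁻¹ * p.1 = 1 := by
      by_contra hne
      refine h.outside_centralizer hy (mul_mem (inv_mem p'.1.2) p.1.2) hne ?_
      exact ⟨1, by rw [one_mul, inv_one, mul_one, e2]; exact mul_mem p'.2.2.2 (inv_mem p.2.2.2)⟩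
    refine Prod.ext (Subtype.ext (inv_mul_eq_one.1 h1).symm) (Subtype.ext ?_)
    rw [h1] at e2
    exact (mul_inv_eq_one.1 e2.symm).symm
  · obtain ⟨z, hz, hzc⟩ := h.norm_decomp hy h.ht hinv n.2
    have hzN : z * (n : G) ∈ N := mul_mem (le_normalizer hz) n.2
    have hzK : z * (n : G) ∈ K := h.norm_fixed hy hinv hzN (mem_centralizer_singleton_iff.2 hzc)
    exact ⟨(⟨z⁻¹, inv_mem hz⟩, ⟨z * n, hzN, hzK⟩),
      Subtype.ext (show z⁻¹ * (z * (n : G)) = n by rw [inv_mul_cancel_left])⟩

/-- The fixed part acts semiregularly. -/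
theorem dvd_card_sub_one {y : G} (hy : ¬ IntoK K y) :
    Nat.card (Subgroup.normalizer ((centralizer ({y} : Set G) : Subgroup G) : Set G) ⊓ K : Subgroup G) ∣
      Nat.card (centralizer ({y} : Set G)) - 1 := by
  classical
  set X := centralizer ({y} : Set G) with hX
  set D := Subgroup.normalizer (X : Set G) ⊓ K with hD
  let Y := {x : X // x ≠ 1}
  letI : MulAction D Y :=
    { smul := fun d x => ⟨⟨(d : G) * x.1 * (d : G)⁻¹, (Subgroup.mem_normalizer_iff.1 d.2.1 _).1 x.1.2⟩,
        fun e => x.2 (Subtype.ext (conj_eq_one_iff.1 (congrArg Subtype.val e)))⟩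
      one_smul := fun x => Subtype.ext (Subtype.ext (show (1 : G) * x.1 * (1 : G)⁻¹ = x.1 by group))
      mul_smul := fun a b x => Subtype.ext (Subtype.ext (show (a : G) * b * x.1 * ((a : G) * b)⁻¹ =
        (a : G) * ((b : G) * x.1 * (b : G)⁻¹) * (a : G)⁻¹ by group)) }
  have hfree : ∀ x : Y, MulAction.stabilizer D x = ⊥ := by
    intro x
    rw [eq_bot_iff]
    intro d hd
    rw [mem_bot]
    by_contra hd1
    have hd' : (d : G) * x.1 * (d : G)⁻¹ = x.1 :=
      congrArg (fun w : Y => ((w.1 : X) : G)) (MulAction.mem_stabilizer_iff.1 hd)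
    have hx0 : (x.1 : G) ≠ 1 := fun e => x.2 (Subtype.ext e)
    exact h.outside_centralizer (h.outside_centralizer hy x.1.2 hx0) (c := (d : G))
      (mem_centralizer_singleton_iff.2 (mul_inv_eq_iff_eq_mul.1 hd'))
      (fun e => hd1 (Subtype.ext e)) ⟨1, by simpa using d.2.2⟩
  have h1 := Nat.card_congr (MulAction.selfEquivOrbitsQuotientProd hfree)
  rw [Nat.card_prod] at h1
  have h2 : Nat.card Y = Nat.card X - 1 := by
    haveI := Fintype.ofFinite X
    rw [Nat.card_eq_fintype_card, Fintype.card_subtype_compl, Fintype.card_subtype_eq,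
      ← Nat.card_eq_fintype_card]
  exact h2 ▸ ⟨_, h1.trans (mul_comm _ _)⟩

open scoped Classical in
/-- The conjugates of a trivial intersection centralizer give many outside elements. -/
theorem count_conjugates (P : G → Prop) (hP : ∀ g z, P z → P (g * z * g⁻¹)) {y : G}
    (hti : ∀ z ∈ centralizer ({y} : Set G), z ≠ 1 →
      centralizer ({z} : Set G) = centralizer ({y} : Set G))
    (hyP : ∀ z ∈ centralizer ({y} : Set G), z ≠ 1 → P z) :
    (Subgroup.normalizer ((centralizer ({y} : Set G) : Subgroup G) : Set G)).index *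
        (Nat.card (centralizer ({y} : Set G)) - 1) ≤ (Finset.univ.filter P).card := by
  set X := centralizer ({y} : Set G) with hX
  set N := Subgroup.normalizer (X : Set G) with hN
  have h2 : Nat.card {x : X // x ≠ 1} = Nat.card X - 1 := by
    haveI := Fintype.ofFinite X
    rw [Nat.card_eq_fintype_card, Fintype.card_subtype_compl, Fintype.card_subtype_eq,
      ← Nat.card_eq_fintype_card]
  rw [← h2, Subgroup.index_eq_card, ← Nat.card_prod, ← Fintype.card_coe, ← Nat.card_eq_fintype_card]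
  refine Nat.card_le_card_of_injective
    (fun p : (G ⧸ N) × {x : X // x ≠ 1} => (⟨p.1.out * (p.2.1 : G) * p.1.out⁻¹, Finset.mem_filter.2
      ⟨Finset.mem_univ _, hP _ _ (hyP _ p.2.1.2 fun e => p.2.2 (Subtype.ext e))⟩⟩ :
        {v // v ∈ Finset.univ.filter P})) ?_
  rintro ⟨c, x⟩ ⟨c', x'⟩ e
  have e' : c.out * (x.1 : G) * c.out⁻¹ = c'.out * (x'.1 : G) * c'.out⁻¹ := congrArg Subtype.val e
  have hg : c'.out⁻¹ * c.out ∈ N := by
    have hx0 : (x.1 : G) ≠ 1 := fun e0 => x.2 (Subtype.ext e0)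
    have hx0' : (x'.1 : G) ≠ 1 := fun e0 => x'.2 (Subtype.ext e0)
    have hcx := hti _ x.1.2 hx0
    have h3 : c'.out⁻¹ * c.out ∈
        Subgroup.normalizer ((centralizer ({(x.1 : G)} : Set G) : Subgroup G) : Set G) := by
      rw [conj_centralizer_eq, show c'.out⁻¹ * c.out * x.1 * (c'.out⁻¹ * c.out)⁻¹ =
        c'.out⁻¹ * (c.out * x.1 * c.out⁻¹) * c'.out by group, e',
        show c'.out⁻¹ * (c'.out * x'.1 * c'.out⁻¹) * c'.out = (x'.1 : G) by group,
        hti _ x'.1.2 hx0', hcx]
    rwa [hcx] at h3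
  have hc : c' = c := by
    rw [← QuotientGroup.out_eq' c', ← QuotientGroup.out_eq' c]
    exact QuotientGroup.eq.2 hg
  subst hc
  exact Prod.ext rfl (Subtype.ext (Subtype.ext (mul_left_cancel (mul_right_cancel e'))))

theorem pairs_le_centralizer (y : G) : pairs y ≤ Nat.card (centralizer ({y} : Set G)) :=
  Invol.card_pairs_le y

theorem conj_to_t {u : G} (hu : orderOf u = 2) : ∃ g : G, g * u * g⁻¹ = t :=
  isConj_iff.1 (h.one_class u t hu h.ht)

end Hyp
end CfsgLib.BSW
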