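import Mathlib
import Cfsg.Agent.Lib.Invol.Basic
import Cfsg.Agent.Lib.Invol.Counting
import Cfsg.Agent.Lib.Char.Orthogonality

/-!
# Generalized dihedral centralizers of involutions: counting
-/

set_option autoImplicit false
set_option linter.unusedSectionVars false

open Subgroup
open scoped Finset

namespace CfsgLib.BSW

variable {G : Type*} [Group G]

/-- `C(t) = K⟨s⟩` is generalized dihedral, `K` is trivial intersection, all involutions are conjugate. -/
structure Hyp (t s : G) (K : Subgroup G) : Prop where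
  ht : orderOf t = 2
  comm : ∀ x ∈ K, ∀ y ∈ K, x * y = y * x
  le : K ≤ centralizer ({t} : Set G)
  tK : t ∈ K
  hs : orderOf s = 2
  sH : s ∈ centralizer ({t} : Set G)
  sK : s ∉ K
  gen : K ⊔ zpowers s = centralizer ({t} : Set G)
  cent : K ⊓ centralizer ({s} : Set G) = zpowers t
  inv : ∀ x ∈ K, s * x * s⁻¹ = x⁻¹
  ti : ∀ g : G, g ∉ centralizer ({t} : Set G) → K ⊓ K.map (MulAut.conj g).toMonoidHom = ⊥
  one_class : ∀ x y : G, orderOf x = 2 → orderOf y = 2 → IsConj x y

/-- Conjugate into `K`. -/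
def IntoK (K : Subgroup G) (y : G) : Prop := ∃ g : G, g * y * g⁻¹ ∈ K

/-- The ordered pairs of involutions with product `y`. -/
noncomputable def pairs (y : G) : ℕ :=
  Nat.card {p : G × G // orderOf p.1 = 2 ∧ orderOf p.2 = 2 ∧ p.1 * p.2 = y}

theorem intoK_conj {K : Subgroup G} {y : G} (h : G) : IntoK K (h * y * h⁻¹) ↔ IntoK K y := by
  constructor
  · rintro ⟨g, hg⟩; exact ⟨g * h, by rwa [show g * h * y * (g * h)⁻¹ = g * (h * y * h⁻¹) * g⁻¹ by group]⟩
  · rintro ⟨g, hg⟩
    exact ⟨g * h⁻¹, by rwa [show g * h⁻¹ * (h * y * h⁻¹) * (g * h⁻¹)⁻¹ = g * y * g⁻¹ by group]⟩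

theorem intoK_one {K : Subgroup G} : IntoK K (1 : G) := ⟨1, by simp [one_mem]⟩

namespace Hyp

variable {t s : G} {K : Subgroup G} (h : Hyp t s K)

include h

theorem invK {x : G} (hx : x ∈ K) : s * x = x⁻¹ * s := mul_inv_eq_iff_eq_mul.1 (h.inv x hx)

theorem mem_cases {a : G} (ha : a ∈ centralizer ({t} : Set G)) : a ∈ K ∨ s * a ∈ K := by
  have hss := Invol.invol_mul_self h.hs
  let S : Subgroup G :=
    { carrier := {a | a ∈ K ∨ s * a ∈ K}
      one_mem' := Or.inl (one_mem K)
      mul_mem' := by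
        rintro a b (ha | ha) (hb | hb)
        · exact Or.inl (mul_mem ha hb)
        · refine Or.inr ?_
          rw [← mul_assoc, h.invK ha, mul_assoc]
          exact mul_mem (inv_mem ha) hb
        · exact Or.inr (by rw [← mul_assoc]; exact mul_mem ha hb)
        · refine Or.inl ?_
          have h1 : a * b = (s * a)⁻¹ * (s * b) := by
            have h2 := h.inv _ ha
            rw [← h2, ← mul_assoc s s, hss, one_mul, mul_assoc, inv_mul_cancel_left]
          rw [h1]
          exact mul_mem (inv_mem ha) hb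
      inv_mem' := by
        rintro a (ha | ha)
        · exact Or.inl (inv_mem ha)
        · refine Or.inr ?_
          have h2 := h.inv _ ha
          rw [← mul_assoc s s, hss, one_mul, mul_inv_rev] at h2
          have h3 : a = a⁻¹ := by
            have := mul_right_cancel h2
            exact this
          rwa [← h3] }
  have hle : K ⊔ zpowers s ≤ S := sup_le (fun x hx => Or.inl hx)
    (zpowers_le.2 (show s ∈ K ∨ s * s ∈ K from Or.inr (by rw [hss]; exact one_mem K)))
  exact hle (h.gen.symm ▸ ha)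

theorem t_ne_one : t ≠ 1 := Invol.invol_ne_one h.ht

theorem t_comm_s : s * t = t * s := mem_centralizer_singleton_iff.1 h.sH

theorem smul_invol {x : G} (hx : x ∈ K) : orderOf (s * x) = 2 := by
  rw [Invol.invol_iff]
  refine ⟨?_, fun e => h.sK ?_⟩
  · rw [h.invK hx, mul_assoc (x⁻¹) s, ← h.invK hx, ← mul_assoc s s, Invol.invol_mul_self h.hs,
      one_mul, inv_mul_cancel]
  · rw [eq_inv_of_mul_eq_one_left e]; exact inv_mem hx

theorem sK_inv {x y : G} (hx : x ∈ K) (hy : y ∈ K) : s * x * y * (s * x)⁻¹ = y⁻¹ := by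
  rw [show s * x * y * (s * x)⁻¹ = s * (x * y * x⁻¹) * s⁻¹ by group, h.comm x hx y hy,
    mul_inv_cancel_right, h.inv y hy]

theorem invol_K {y : G} (hy : y ∈ K) (hy2 : y * y = 1) : y = 1 ∨ y = t := by
  have hc : y ∈ K ⊓ centralizer ({s} : Set G) := mem_inf.2 ⟨hy, mem_centralizer_singleton_iff.2 (by
    rw [h.invK hy, inv_eq_of_mul_eq_one_left hy2])⟩
  rw [h.cent] at hc
  obtain ⟨n, rfl⟩ := mem_zpowers_iff.1 hc
  have ht2 : t ^ (2 : ℤ) = 1 := by rw [zpow_two, Invol.invol_mul_self h.ht]
  rcases Int.even_or_odd' n with ⟨l, rfl | rfl⟩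
  · exact Or.inl (by rw [zpow_mul, ht2, one_zpow])
  · exact Or.inr (by rw [zpow_add, zpow_mul, ht2, one_zpow, one_mul, zpow_one])

theorem conj_mem_H {g y : G} (hy : y ∈ K) (hy1 : y ≠ 1) (hg : g * y * g⁻¹ ∈ K) :
    g ∈ centralizer ({t} : Set G) := by
  by_contra hc
  have hm : g * y * g⁻¹ ∈ K ⊓ K.map (MulAut.conj g).toMonoidHom :=
    mem_inf.2 ⟨hg, y, hy, rfl⟩
  rw [h.ti g hc, mem_bot, conj_eq_one_iff] at hm
  exact hy1 hm

theorem cent_le {y : G} (hy : y ∈ K) (hy1 : y ≠ 1) :
    centralizer ({y} : Set G) ≤ centralizer ({t} : Set G) := fun g hg =>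
  h.conj_mem_H hy hy1 (by
    rw [mem_centralizer_singleton_iff.1 hg, mul_inv_cancel_right]; exact hy)

theorem mem_K_of_odd {y : G} (hy : y ∈ centralizer ({t} : Set G)) (hodd : Odd (orderOf y)) :
    y ∈ K := by
  rcases h.mem_cases hy with h1 | h1
  · exact h1
  · have h2 := h.smul_invol h1
    rw [← mul_assoc, Invol.invol_mul_self h.hs, one_mul] at h2
    rw [h2] at hodd
    exact absurd hodd (by decide)

theorem intoK_invol {u : G} (hu : orderOf u = 2) : IntoK K u := by
  obtain ⟨g, hg⟩ := isConj_iff.1 (h.one_class u t hu h.ht)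
  exact ⟨g, hg ▸ h.tK⟩

theorem invol_H {u : G} (hu : orderOf u = 2) (hH : u ∈ centralizer ({t} : Set G)) :
    u = t ∨ s * u ∈ K := by
  rcases h.mem_cases hH with h1 | h1
  · exact Or.inl ((h.invol_K h1 (Invol.invol_mul_self hu)).resolve_left (Invol.invol_ne_one hu))
  · exact Or.inr h1

section

variable [Finite G]

theorem two_dvd_k : 2 ∣ Nat.card K := by
  have := orderOf_dvd_natCard (⟨t, h.tK⟩ : K)
  rwa [Subgroup.orderOf_mk, h.ht] at this

theorem card_H : Nat.card (centralizer ({t} : Set G)) = 2 * Nat.card K := by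
  have hi : (K.subgroupOf (centralizer ({t} : Set G))).index = 2 := by
    rw [Subgroup.index_eq_two_iff]
    refine ⟨⟨s, h.sH⟩, fun b => ?_⟩
    simp only [mem_subgroupOf, Subgroup.coe_mul]
    rcases h.mem_cases b.2 with hb | hb
    · refine Or.inr ⟨hb, fun hc => h.sK ?_⟩
      rwa [mul_mem_cancel_left hb] at hc
    · refine Or.inl ⟨?_, fun hc => h.sK ?_⟩
      · have h1 := mul_mem hb (inv_mem hb)
        have : (b : G) * s = (s * b)⁻¹ := by
          have h2 := h.inv _ hb
          rw [← mul_assoc s s, Invol.invol_mul_self h.hs, one_mul, Invol.invol_inv h.hs] at h2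
          exact h2
        rw [this]; exact inv_mem hb
      · rwa [mul_mem_cancel_right hc] at hb
  rw [← (K.subgroupOf (centralizer ({t} : Set G))).card_mul_index, hi,
    Nat.card_congr (subgroupOfEquivOfLe h.le).toEquiv, mul_comm]

theorem card_G : Nat.card G = 2 * Nat.card K * (centralizer ({t} : Set G)).index := by
  rw [← h.card_H, Subgroup.card_mul_index]

theorem card_invol : Nat.card {u : G // orderOf u = 2} = (centralizer ({t} : Set G)).index := by
  rw [← Char.card_isConj t]
  refine Nat.card_congr (Equiv.subtypeEquivRight fun u => ⟨fun hu => h.one_class t u h.ht hu, ?_⟩)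
  intro hu
  obtain ⟨g, rfl⟩ := isConj_iff.1 hu
  exact Invol.invol_conj h.ht g

theorem odd_index : Odd (centralizer ({t} : Set G)).index := by
  haveI : Fact (Nat.Prime 2) := ⟨Nat.prime_two⟩
  rw [← Nat.not_even_iff_odd, even_iff_two_dvd]
  intro h2
  obtain ⟨S⟩ : Nonempty (Sylow 2 G) := inferInstance
  have hG2 : 2 ∣ Nat.card G := h2.trans (index_dvd_card _)
  have hS : (S : Subgroup G) ≠ ⊥ := S.ne_bot_of_dvd_card hG2
  haveI : Nontrivial (S : Subgroup G) := (Subgroup.nontrivial_iff_ne_bot _).2 hS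
  haveI := S.2.center_nontrivial
  obtain ⟨m, hm⟩ := IsPGroup.iff_card.1 (S.2.to_subgroup (Subgroup.center (S : Subgroup G)))
  have hm0 : m ≠ 0 := fun e' => absurd (Finite.one_lt_card (α := Subgroup.center (S : Subgroup G)))
    (by rw [hm, e', pow_zero]; exact lt_irrefl 1)
  obtain ⟨z, hz⟩ := exists_prime_orderOf_dvd_card'
    (G := Subgroup.center (S : Subgroup G)) 2 (hm ▸ dvd_pow_self 2 hm0)
  rw [← Subgroup.orderOf_coe, ← Subgroup.orderOf_coe] at hz
  have hle : (S : Subgroup G) ≤ centralizer ({((z : (S : Subgroup G)) : G)} : Set G) := fun a ha =>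
    mem_centralizer_singleton_iff.2 (congrArg Subtype.val (Subgroup.mem_center_iff.1 z.2 ⟨a, ha⟩))
  obtain ⟨g, hg⟩ := isConj_iff.1 (h.one_class _ t hz h.ht)
  refine S.not_dvd_index ?_
  have h3 : (centralizer ({((z : (S : Subgroup G)) : G)} : Set G)).index =
      (centralizer ({t} : Set G)).index := by
    rw [← Char.card_isConj, ← Char.card_isConj]
    exact Nat.card_congr (Equiv.subtypeEquivRight fun u =>
      ⟨fun e => (isConj_iff.2 ⟨g, hg⟩).symm.trans e, fun e => (isConj_iff.2 ⟨g, hg⟩).trans e⟩)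
  exact dvd_trans (h3 ▸ h2) (index_dvd_of_le hle)

/-- The inverting involutions of a nontrivial element of `K` are the `s x`. -/
theorem pairs_K {y : G} (hy : y ∈ K) (hy1 : y ≠ 1) : pairs y = Nat.card K := by
  refine (Nat.card_congr (Equiv.ofBijective (fun x : K => (⟨(s * x, s * (x * y)),
    h.smul_invol x.2, h.smul_invol (mul_mem x.2 hy), ?_⟩ :
      {p : G × G // orderOf p.1 = 2 ∧ orderOf p.2 = 2 ∧ p.1 * p.2 = y})) ⟨fun a b e => ?_, ?_⟩)).symm
  · show s * x * (s * (x * y)) = y
    rw [← mul_assoc (s : G) (x : G) y, ← mul_assoc (s * (x : G)),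
      Invol.invol_mul_self (h.smul_invol x.2), one_mul]
  · exact Subtype.ext (mul_left_cancel (congrArg (fun p => p.1.1) e))
  rintro ⟨⟨u, v⟩, hu, hv, huv⟩
  dsimp only at hu hv huv
  have hinv : u * y * u⁻¹ = y⁻¹ := huv ▸ Invol.invol_conj_mul hu hv
  have huH : u ∈ centralizer ({t} : Set G) := h.conj_mem_H hy hy1 (by rw [hinv]; exact inv_mem hy)
  have hus : s * u ∈ K := by
    refine (h.invol_H hu huH).resolve_left fun e => hy1 ?_
    subst e
    have hvK : v ∈ K := by
      have := mul_mem h.tK hy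
      rwa [← huv, ← mul_assoc, Invol.invol_mul_self hu, one_mul] at this
    rw [← huv, (h.invol_K hvK (Invol.invol_mul_self hv)).resolve_left (Invol.invol_ne_one hv),
      Invol.invol_mul_self hu]
  refine ⟨⟨s * u, hus⟩, Subtype.ext (Prod.ext ?_ ?_)⟩
  · show s * (s * u) = u
    rw [← mul_assoc, Invol.invol_mul_self h.hs, one_mul]
  · show s * (s * u * y) = v
    rw [← huv, ← mul_assoc, ← mul_assoc, ← mul_assoc, Invol.invol_mul_self h.hs, one_mul,
      Invol.invol_mul_self hu, one_mul]

theorem pairs_conj (g y : G) : pairs (g * y * g⁻¹) = pairs y := by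
  refine (Nat.card_congr ((Equiv.prodCongr (MulAut.conj g).toEquiv (MulAut.conj g).toEquiv).subtypeEquiv
    fun p => ?_)).symm
  simp only [Equiv.prodCongr_apply, Prod.map, MulEquiv.coe_toEquiv, MulEquiv.toEquiv_eq_coe,
    EquivLike.coe_coe, MulEquiv.orderOf_eq]
  refine and_congr_right fun _ => and_congr_right fun _ => ?_
  rw [← map_mul]
  exact ⟨fun e => by rw [e]; rfl, fun e => (MulAut.conj g).injective e⟩

open scoped Classical in
/-- The sum of a class function, split along the conjugates of `K`. -/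
theorem sum_split [Fintype G] {M : Type*} [AddCommMonoid M] (F : G → M)
    (hF : ∀ g y : G, F (g * y * g⁻¹) = F y) :
    ∑ y, F y = F 1 + (centralizer ({t} : Set G)).index •
        ∑ x ∈ (Finset.univ : Finset K).erase 1, F x
      + ∑ y ∈ Finset.univ.filter (fun y => ¬ IntoK K y), F y := by
  haveI := Fintype.ofFinite (G ⧸ centralizer ({t} : Set G))
  rw [← Finset.sum_filter_add_sum_filter_not Finset.univ (fun y => IntoK K y) F,
    ← Finset.add_sum_erase _ F (Finset.mem_filter.2 ⟨Finset.mem_univ 1, intoK_one⟩)]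
  congr 2
  rw [Subgroup.index_eq_card, Nat.card_eq_fintype_card, ← Finset.card_univ, ← Finset.sum_const,
    ← Finset.sum_product']
  refine (Finset.sum_bij
    (fun (p : (G ⧸ centralizer ({t} : Set G)) × K) _ => p.1.out * (p.2 : G) * p.1.out⁻¹) ?_ ?_ ?_
    fun p _ => (hF _ _).symm).symm
  · intro p hp
    simp only [Finset.mem_product, Finset.mem_erase, Finset.mem_univ, true_and, and_true] at hp
    simp only [Finset.mem_erase, ne_eq, conj_eq_one_iff, Finset.mem_filter, Finset.mem_univ, true_and]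
    exact ⟨fun e => hp (Subtype.ext e), p.1.out⁻¹, by simp [mul_assoc]⟩
  · rintro ⟨c, x⟩ hx ⟨c', x'⟩ _ e
    simp only [Finset.mem_product, Finset.mem_erase, Finset.mem_univ, true_and, and_true] at hx e
    have hH : c'.out⁻¹ * c.out ∈ centralizer ({t} : Set G) :=
      h.conj_mem_H x.2 (fun e' => hx (Subtype.ext e')) (by
        rw [show c'.out⁻¹ * c.out * x * (c'.out⁻¹ * c.out)⁻¹ = c'.out⁻¹ * (c.out * x * c.out⁻¹) * c'.out
          by group, e]
        simp [mul_assoc])
    have hc : c' = c := by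
      rw [← QuotientGroup.out_eq' c', ← QuotientGroup.out_eq' c]
      exact QuotientGroup.eq.2 hH
    subst hc
    exact Prod.ext rfl (Subtype.ext (mul_left_cancel (mul_right_cancel e)))
  · intro y hy
    simp only [Finset.mem_erase, Finset.mem_filter, Finset.mem_univ, true_and] at hy
    obtain ⟨hy1, g, hg⟩ := hy
    obtain ⟨⟨a, ha⟩, hac⟩ := QuotientGroup.mk_out_eq_mul (centralizer ({t} : Set G)) g⁻¹
    have hx : a⁻¹ * (g * y * g⁻¹) * a ∈ K := by
      rcases h.mem_cases ha with h1 | h1
      · exact mul_mem (mul_mem (inv_mem h1) hg) h1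
      · rw [show a⁻¹ * (g * y * g⁻¹) * a = (s * a)⁻¹ * (s * (g * y * g⁻¹) * s⁻¹) * (s * a) by group,
          h.inv _ hg]
        exact mul_mem (mul_mem (inv_mem h1) (inv_mem hg)) h1
    refine ⟨(QuotientGroup.mk g⁻¹, ⟨_, hx⟩), ?_, ?_⟩
    · simp only [Finset.mem_product, Finset.mem_erase, Finset.mem_univ, true_and, and_true]
      intro e
      apply hy1
      have := congrArg Subtype.val e
      simp only [Subgroup.coe_one] at this
      rw [show a⁻¹ * (g * y * g⁻¹) * a = (a⁻¹ * g) * y * (a⁻¹ * g)⁻¹ by group,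
        conj_eq_one_iff] at this
      exact this
    · show (QuotientGroup.mk g⁻¹ : G ⧸ _).out * _ * _⁻¹ = y
      rw [hac]
      group

open scoped Classical in
/-- The count of all ordered pairs of involutions. -/
theorem pairs_total [Fintype G] :
    (centralizer ({t} : Set G)).index * (centralizer ({t} : Set G)).index =
      (centralizer ({t} : Set G)).index +
        (centralizer ({t} : Set G)).index * ((Nat.card K - 1) * Nat.card K) +
        ∑ y ∈ Finset.univ.filter (fun y => ¬ IntoK K y), pairs y := by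
  have h1 : ∑ y : G, pairs y =
      (centralizer ({t} : Set G)).index * (centralizer ({t} : Set G)).index := by
    rw [← h.card_invol, ← Nat.card_prod]
    simp only [pairs]
    rw [← Nat.card_sigma]
    exact Nat.card_congr
      { toFun := fun q => (⟨q.2.1.1, q.2.2.1⟩, ⟨q.2.1.2, q.2.2.2.1⟩)
        invFun := fun q => ⟨q.1.1 * q.2.1, (q.1.1, q.2.1), q.1.2, q.2.2, rfl⟩
        left_inv := fun ⟨y, ⟨⟨u, v⟩, hu, hv, huv⟩⟩ => by subst huv; rfl
        right_inv := fun q => rfl }
  have hone : pairs (1 : G) = (centralizer ({t} : Set G)).index := by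
    rw [← h.card_invol]
    refine (Nat.card_congr
      { toFun := fun u => ⟨(u.1, u.1), u.2, u.2, Invol.invol_mul_self u.2⟩
        invFun := fun p => ⟨p.1.1, p.2.1⟩
        left_inv := fun u => rfl
        right_inv := fun ⟨⟨u, v⟩, hu, hv, huv⟩ => Subtype.ext (Prod.ext rfl
          ((inv_eq_of_mul_eq_one_right huv).symm.trans (Invol.invol_inv hu)).symm) }).symm
  rw [h.sum_split pairs h.pairs_conj, hone, Finset.sum_congr rfl
    (fun x hx => h.pairs_K x.2 fun e => (Finset.mem_erase.1 hx).1 (Subtype.ext e)),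
    Finset.sum_const, Finset.card_erase_of_mem (Finset.mem_univ _), Finset.card_univ,
    ← Nat.card_eq_fintype_card, smul_eq_mul, smul_eq_mul] at h1
  exact h1.symm

open scoped Classical in
/-- The elements in no conjugate of `K`. -/
theorem card_outside [Fintype G] :
    (Finset.univ.filter (fun y : G => ¬ IntoK K y)).card + 1 +
      (centralizer ({t} : Set G)).index * (Nat.card K - 1) = Nat.card G := by
  have h1 := h.sum_split (fun _ : G => 1) (fun _ _ => rfl)
  simp only [Finset.sum_const, smul_eq_mul, mul_one, Finset.card_erase_of_mem (Finset.mem_univ _),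
    Finset.card_univ, ← Nat.card_eq_fintype_card] at h1
  omega

/-- No nontrivial element centralizing an element outside the conjugates of `K` is conjugate into `K`. -/
theorem outside_centralizer {y c : G} (hy : ¬ IntoK K y) (hc : c ∈ centralizer ({y} : Set G))
    (hc1 : c ≠ 1) : ¬ IntoK K c := by
  rintro ⟨g, hg⟩
  refine hy ((intoK_conj g).1 ?_)
  have h1 : g * y * g⁻¹ ∈ centralizer ({t} : Set G) := by
    refine h.cent_le hg (fun e => hc1 (conj_eq_one_iff.1 e)) (mem_centralizer_singleton_iff.2 ?_)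
    have := mem_centralizer_singleton_iff.1 hc
    calc g * y * g⁻¹ * (g * c * g⁻¹) = g * (y * c) * g⁻¹ := by group
      _ = g * (c * y) * g⁻¹ := by rw [this]
      _ = g * c * g⁻¹ * (g * y * g⁻¹) := by group
  rcases h.mem_cases h1 with h2 | h2
  · exact ⟨1, by simpa using h2⟩
  · refine h.intoK_invol ?_
    have h3 := h.smul_invol h2
    rwa [← mul_assoc, Invol.invol_mul_self h.hs, one_mul] at h3

/-- Elements of prime order dividing `|K|` are conjugate into `K`, if `|K|` is prime to the index of `C(t)`. -/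
theorem intoK_of_prime (hcop : (Nat.card K).Coprime (centralizer ({t} : Set G)).index) {p : ℕ}
    [hp : Fact p.Prime] (hpk : p ∣ Nat.card K) {c : G} (hc : orderOf c = p) : IntoK K c := by
  rcases eq_or_ne p 2 with rfl | hp2
  · exact h.intoK_invol hc
  obtain ⟨R⟩ : Nonempty (Sylow p (centralizer ({t} : Set G))) := inferInstance
  have hR : IsPGroup p ((R : Subgroup (centralizer ({t} : Set G))).map
      (centralizer ({t} : Set G)).subtype) := R.2.map _
  obtain ⟨P, hP⟩ : ∃ P : Sylow p G, (P : Subgroup G) =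
      (R : Subgroup (centralizer ({t} : Set G))).map (centralizer ({t} : Set G)).subtype := by
    refine ⟨hR.toSylow ?_, IsPGroup.toSylow_coe _ _⟩
    rw [Subgroup.index_map, Subgroup.ker_subtype, sup_bot_eq, Subgroup.range_subtype]
    intro hd
    rcases hp.1.dvd_mul.1 hd with h1 | h1
    · exact R.not_dvd_index h1
    · exact Nat.not_coprime_of_dvd_of_dvd hp.1.one_lt hpk h1 hcop
  have hz : IsPGroup p (zpowers c) := IsPGroup.of_card (n := 1) (by rw [Nat.card_zpowers, hc, pow_one])
  obtain ⟨Q, hQ⟩ := hz.exists_le_sylow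
  obtain ⟨g, hg⟩ := MulAction.exists_smul_eq G Q P
  refine ⟨g, h.mem_K_of_odd ?_ ?_⟩
  · have : g * c * g⁻¹ ∈ (P : Subgroup G) := by
      rw [← hg, Sylow.coe_subgroup_smul, mem_pointwise_smul_iff_inv_smul_mem]
      simpa [MulAut.smul_def, mul_assoc] using hQ (mem_zpowers c)
    rw [hP] at this
    obtain ⟨x, _, hx⟩ := this
    exact hx ▸ x.2
  · rw [show g * c * g⁻¹ = MulAut.conj g c from rfl, MulEquiv.orderOf_eq, hc]
    exact hp.1.odd_of_ne_two hp2

end

end Hyp
end CfsgLib.BSW
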