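import Cfsg.Agent.Lib.BSW.Data

/-!
# The case `|K| = 2`
-/

set_option autoImplicit false
set_option linter.unusedSectionVars false

open Subgroup Cfsg
open scoped ComplexConjugate IsMulCommutative

namespace CfsgLib.BSW

universe u

variable {G : Type u} [Group G] [Fintype G] {t s : G} {K : Subgroup G}

theorem arith_two_pos {X Y Z i : ℤ} (hX : 1 ≤ X) (hY : 1 ≤ Y) (hsum : X + Y + Z = -1) (hi : 3 ≤ i)
    (hi' : i % 4 = 3) (hi3 : 3 ∣ i) (heq : i * (X * Y * Z + X * Y + X * Z + Y * Z) = 8 * (X * Y * Z)) :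
    i = 3 ∧ X = 1 ∧ Y = 1 ∧ Z = -3 := by
  obtain rfl : Z = -1 - X - Y := by linarith
  have h1 : i * ((X + Y) * (X * Y + X + Y + 1)) = 8 * (X * Y * (X + Y + 1)) := by linear_combination -heq
  have h2 : X * Y * (X + Y + 1) < (X + Y) * (X * Y + X + Y + 1) := by nlinarith
  have h3 : i < 8 := by
    by_contra hc
    push Not at hc
    have h4 : 0 < X * Y * (X + Y + 1) := by positivity
    nlinarith [mul_le_mul_of_nonneg_right hc (le_of_lt (h4.trans h2))]
  obtain rfl : i = 3 := by omega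
  have h5 : X + Y ≤ 2 := by nlinarith [mul_nonneg (sub_nonneg.2 hX) (sub_nonneg.2 hY)]
  exact ⟨rfl, by omega, by omega, by omega⟩

theorem arith_two_neg {X Y Z i : ℤ} (hY : Y ≤ -3) (hZ : Z ≤ -3) (hsum : X + Y + Z = -1) (hi : 3 ≤ i)
    (hi' : i % 4 = 3) (hi3 : 3 ∣ i)
    (heq : i * (X * Y * Z + X * Y + X * Z + Y * Z) = 8 * (X * Y * Z)) :
    i = 15 ∧ X = 5 ∧ Y = -3 ∧ Z = -3 := by
  obtain rfl : X = -1 - Y - Z := by linarith
  obtain ⟨a, rfl⟩ : ∃ a, Y = -a := ⟨-Y, by ring⟩
  obtain ⟨b, rfl⟩ : ∃ b, Z = -b := ⟨-Z, by ring⟩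
  have ha : 3 ≤ a := by linarith
  have hb : 3 ≤ b := by linarith
  have h1 : i * ((a + b) * (a * b - a - b + 1)) = 8 * (a * b * (a + b - 1)) := by linear_combination heq
  have h2 : 4 * (a * b) ≤ 9 * (a * b - a - b + 1) := by nlinarith
  have hab : 0 < a * b := by positivity
  have h3 : i < 18 := by
    by_contra hc
    push Not at hc
    have h4 : 0 ≤ (a + b) * (a * b - a - b + 1) :=
      mul_nonneg (by linarith) (by nlinarith)
    nlinarith [mul_le_mul_of_nonneg_right hc h4, mul_le_mul_of_nonneg_left h2 (by linarith : (0 : ℤ) ≤ a + b)]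
  have hi15 : i = 3 ∨ i = 15 := by omega
  rcases hi15 with rfl | rfl
  · exfalso; nlinarith
  · have h5 : a + b ≤ 6 := by nlinarith [mul_nonneg (sub_nonneg.2 ha) (sub_nonneg.2 hb)]
    exact ⟨rfl, by omega, by omega, by omega⟩

theorem arith_three {X Y Z i : ℤ} (hX : X % 4 = 1) (hY : Y % 4 = 1) (hZ : Z % 4 = 1)
    (hsum : X + Y + Z = -1) (hi : 3 ≤ i) (hi' : i % 4 = 3) (hi3 : 3 ∣ i)
    (heq : i * (X * Y * Z + X * Y + X * Z + Y * Z) = 8 * (X * Y * Z)) :
    (i = 3 ∧ ((X = -3 ∧ Y = 1 ∧ Z = 1) ∨ (X = 1 ∧ Y = -3 ∧ Z = 1) ∨ (X = 1 ∧ Y = 1 ∧ Z = -3))) ∨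
    (i = 15 ∧ ((X = 5 ∧ Y = -3 ∧ Z = -3) ∨ (X = -3 ∧ Y = 5 ∧ Z = -3) ∨ (X = -3 ∧ Y = -3 ∧ Z = 5))) := by
  have dX : 1 ≤ X ∨ X ≤ -3 := by omega
  have dY : 1 ≤ Y ∨ Y ≤ -3 := by omega
  have dZ : 1 ≤ Z ∨ Z ≤ -3 := by omega
  rcases dX with hx | hx <;> rcases dY with hy | hy <;> rcases dZ with hz | hz
  · omega
  · have := arith_two_pos hx hy hsum hi hi' hi3 heq; omega
  · have := arith_two_pos (Z := Y) hx hz (by linarith) hi hi' hi3 (by linear_combination heq); omega
  · have := arith_two_neg hy hz hsum hi hi' hi3 heq; omega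
  · have := arith_two_pos (Z := X) hy hz (by linarith) hi hi' hi3 (by linear_combination heq); omega
  · have := arith_two_neg (X := Y) hx hz (by linarith) hi hi' hi3 (by linear_combination heq); omega
  · have := arith_two_neg (X := Z) hx hy (by linarith) hi hi' hi3 (by linear_combination heq); omega
  · omega

namespace Hyp

variable (h : Hyp t s K)

include h

theorem K_two (hk : Nat.card K = 2) {y : G} (hy : y ∈ K) : y = 1 ∨ y = t := by
  refine h.invol_K hy ?_
  have h1 : (⟨y, hy⟩ : K) ^ Nat.card K = 1 := pow_card_eq_one'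
  rw [hk, pow_two] at h1
  exact congrArg Subtype.val h1

theorem mem_H_four (hk : Nat.card K = 2) {u : G} (hu : u ∈ centralizer ({t} : Set G)) :
    u = 1 ∨ u = t ∨ u = s ∨ u = s * t := by
  rcases h.mem_cases hu with h1 | h1
  · rcases h.K_two hk h1 with e | e <;> simp [e]
  · have hsu : u = s * (s * u) := by rw [← mul_assoc, Invol.invol_mul_self h.hs, one_mul]
    rcases h.K_two hk h1 with e | e
    · rw [e, mul_one] at hsu; simp [hsu]
    · rw [e] at hsu; simp [hsu]

theorem invol_H_iff (hk : Nat.card K = 2) {u : G} :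
    (orderOf u = 2 ∧ u ∈ centralizer ({t} : Set G)) ↔ (u = t ∨ u = s ∨ u = s * t) := by
  constructor
  · rintro ⟨hu, hH⟩
    exact (h.mem_H_four hk hH).resolve_left (Invol.invol_ne_one hu)
  · rintro (rfl | rfl | rfl)
    · exact ⟨h.ht, h.le h.tK⟩
    · exact ⟨h.hs, h.sH⟩
    · exact ⟨h.smul_invol h.tK, mul_mem h.sH (h.le h.tK)⟩

theorem comm_H (hk : Nat.card K = 2) {a b : G} (ha : a ∈ centralizer ({t} : Set G))
    (hb : b ∈ centralizer ({t} : Set G)) : a * b = b * a := by
  have hinv : ∀ u ∈ centralizer ({t} : Set G), u⁻¹ = u := by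
    intro u hu
    rcases h.mem_H_four hk hu with rfl | e
    · exact inv_one
    · exact Invol.invol_inv ((h.invol_H_iff hk).2 e).1
  calc a * b = (a * b)⁻¹ := (hinv _ (mul_mem ha hb)).symm
    _ = b * a := by rw [mul_inv_rev, hinv a ha, hinv b hb]

theorem cent_invol_H (hk : Nat.card K = 2) {u : G} (hu : orderOf u = 2)
    (hH : u ∈ centralizer ({t} : Set G)) :
    centralizer ({u} : Set G) = centralizer ({t} : Set G) := by
  refine (eq_of_le_of_card_ge (fun a ha => mem_centralizer_singleton_iff.2 (h.comm_H hk ha hH)) ?_).symm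
  have e : (centralizer ({u} : Set G)).index = (centralizer ({t} : Set G)).index := by
    rw [← Char.card_isConj, ← Char.card_isConj]
    have hut := h.one_class u t hu h.ht
    exact Nat.card_congr (Equiv.subtypeEquivRight fun x => ⟨fun e => hut.symm.trans e, fun e => hut.trans e⟩)
  have h1 := (centralizer ({u} : Set G)).card_mul_index
  rw [← (centralizer ({t} : Set G)).card_mul_index, e] at h1
  exact le_of_eq (Nat.eq_of_mul_eq_mul_right (Nat.pos_of_ne_zero index_ne_zero_of_finite) h1)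

theorem s_ne (hk : Nat.card K = 2) : t ≠ s ∧ t ≠ s * t ∧ s ≠ s * t := by
  refine ⟨fun e => h.sK (e ▸ h.tK), fun e => ?_, fun e => ?_⟩
  · exact Invol.invol_ne_one h.hs (mul_right_cancel (e.symm.trans (one_mul t).symm))
  · exact h.t_ne_one (mul_left_cancel ((mul_one s).trans e)).symm

open scoped Classical in
theorem index_mod_four (hk : Nat.card K = 2) : (centralizer ({t} : Set G)).index % 4 = 3 := by
  let H := centralizer ({t} : Set G)
  let X := {u : G // orderOf u = 2 ∧ u ∉ H}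
  have hin : Nat.card {u : G // orderOf u = 2 ∧ u ∈ H} = 3 := by
    rw [Nat.card_congr (Equiv.subtypeEquivRight (q := fun u => u ∈ ({t, s, s * t} : Finset G))
      fun u => (h.invol_H_iff hk).trans (by simp)), Nat.card_eq_fintype_card, Fintype.card_coe]
    obtain ⟨h1, h2, h3⟩ := h.s_ne hk
    exact Finset.card_eq_three.2 ⟨_, _, _, h1, h2, h3, rfl⟩
  letI : MulAction H X :=
    { smul := fun a u => ⟨(a : G) * u.1 * (a : G)⁻¹, Invol.invol_conj u.2.1 _, fun hc => u.2.2 (by
        have := mul_mem (mul_mem (inv_mem a.2) hc) a.2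
        rwa [show (a : G)⁻¹ * ((a : G) * u.1 * (a : G)⁻¹) * a = u.1 by group] at this)⟩
      one_smul := fun u => Subtype.ext (show (1 : G) * u.1 * (1 : G)⁻¹ = u.1 by group)
      mul_smul := fun a b u => Subtype.ext (show (a : G) * b * u.1 * ((a : G) * b)⁻¹ =
        (a : G) * ((b : G) * u.1 * (b : G)⁻¹) * (a : G)⁻¹ by group) }
  have hfree : ∀ u : X, MulAction.stabilizer H u = ⊥ := by
    intro u
    rw [eq_bot_iff]
    intro a ha
    rw [mem_bot]
    by_contra ha1
    have ha' : (a : G) * u.1 * (a : G)⁻¹ = u.1 := congrArg Subtype.val (MulAction.mem_stabilizer_iff.1 ha)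
    have hainv : orderOf (a : G) = 2 :=
      ((h.invol_H_iff hk).2 ((h.mem_H_four hk a.2).resolve_left fun e => ha1 (Subtype.ext e))).1
    refine u.2.2 ?_
    show u.1 ∈ centralizer ({t} : Set G)
    rw [← h.cent_invol_H hk hainv a.2]
    exact mem_centralizer_singleton_iff.2 (mul_inv_eq_iff_eq_mul.1 ha').symm
  have h4 : 4 ∣ Nat.card X := by
    have := Nat.card_congr (MulAction.selfEquivOrbitsQuotientProd hfree)
    rw [Nat.card_prod, h.card_H, hk] at this
    exact ⟨_, this.trans (mul_comm _ _)⟩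
  have hsplit : (centralizer ({t} : Set G)).index = 3 + Nat.card X := by
    rw [← h.card_invol, ← hin, Nat.card_eq_fintype_card, Nat.card_eq_fintype_card, Nat.card_eq_fintype_card,
      Fintype.card_subtype, Fintype.card_subtype, Fintype.card_subtype,
      ← Finset.filter_filter, ← Finset.filter_filter, Finset.card_filter_add_card_filter_not]
  obtain ⟨m, hm⟩ := h4
  omega

theorem three_dvd_index (hk : Nat.card K = 2) : 3 ∣ (centralizer ({t} : Set G)).index := by
  classical
  let N := normalizer ((centralizer ({t} : Set G) : Subgroup G) : Set G)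
  have htN : t ∈ N := le_normalizer (h.le h.tK)
  have key : ∀ u, (u = t ∨ u = s ∨ u = s * t) → ∃ n ∈ N, n * t * n⁻¹ = u := by
    intro u hu
    obtain ⟨hu2, huH⟩ := (h.invol_H_iff hk).2 hu
    obtain ⟨g, hg⟩ := isConj_iff.1 (h.one_class t u h.ht hu2)
    refine ⟨g, Subgroup.mem_normalizer_iff.2 fun x => ?_, hg⟩
    conv_rhs => rw [← h.cent_invol_H hk hu2 huH, mem_centralizer_singleton_iff, ← hg]
    rw [mem_centralizer_singleton_iff]
    constructor
    · intro e
      calc g * x * g⁻¹ * (g * t * g⁻¹) = g * (x * t) * g⁻¹ := by group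
        _ = g * (t * x) * g⁻¹ := by rw [e]
        _ = g * t * g⁻¹ * (g * x * g⁻¹) := by group
    · intro e
      calc x * t = g⁻¹ * (g * x * g⁻¹ * (g * t * g⁻¹)) * g := by group
        _ = g⁻¹ * (g * t * g⁻¹ * (g * x * g⁻¹)) * g := by rw [e]
        _ = t * x := by group
  have h3 : Nat.card {y : N // IsConj (⟨t, htN⟩ : N) y} = 3 := by
    obtain ⟨h1, h2, h3⟩ := h.s_ne hk
    rw [← show ({t, s, s * t} : Finset G).card = 3 from Finset.card_eq_three.2 ⟨_, _, _, h1, h2, h3, rfl⟩,
      ← Fintype.card_coe, ← Nat.card_eq_fintype_card]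
    refine Nat.card_congr (Equiv.ofBijective (fun y => ⟨((y.1 : N) : G), ?_⟩) ⟨fun a b e => ?_, fun u => ?_⟩)
    · obtain ⟨n, hn⟩ := isConj_iff.1 y.2
      have hn' : (n : G) * t * (n : G)⁻¹ = ((y.1 : N) : G) := congrArg Subtype.val hn
      simp only [Finset.mem_insert, Finset.mem_singleton]
      refine (h.invol_H_iff hk).1 ⟨hn' ▸ Invol.invol_conj h.ht _, hn' ▸ ?_⟩
      exact (Subgroup.mem_normalizer_iff.1 n.2 t).1 (h.le h.tK)
    · exact Subtype.ext (Subtype.ext (congrArg (fun w : {x // x ∈ ({t, s, s * t} : Finset G)} => (w : G)) e))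
    · obtain ⟨u, hu⟩ := u
      simp only [Finset.mem_insert, Finset.mem_singleton] at hu
      obtain ⟨n, hn, hnu⟩ := key u hu
      exact ⟨⟨⟨u, hnu ▸ mul_mem (mul_mem hn htN) (inv_mem hn)⟩,
        isConj_iff.2 ⟨⟨n, hn⟩, Subtype.ext hnu⟩⟩, rfl⟩
  rw [Char.card_isConj] at h3
  have hd : 3 ∣ Nat.card N := h3 ▸ index_dvd_card _
  have hG : 3 ∣ 4 * (centralizer ({t} : Set G)).index := by
    have := hd.trans (card_subgroup_dvd_card N)
    rwa [h.card_G, hk] at this
  omega

theorem exists_data_two (hk : Nat.card K = 2) :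
    ∃ (A : IrrCharacter G) (a : G → ℤ) (δ : ℤ) (q r : ℕ), Data K t A a δ q r := by
  classical
  haveI := h.isComm
  letI := Fintype.ofFinite (IrrCharacter G)
  obtain ⟨φ, hφt⟩ : ∃ φ : K →* ℂˣ, (φ ⟨t, h.tK⟩ : ℂ) = -1 := by
    have h2 := h.card_halves.2
    rw [hk] at h2
    obtain ⟨φ, hφ⟩ := Finset.card_pos.1 (by omega :
      0 < (Finset.univ.filter (fun φ : K →* ℂˣ => (φ ⟨t, h.tK⟩ : ℂ) = -1)).card)
    exact ⟨φ, (Finset.mem_filter.1 hφ).2⟩
  have hφ1 : φ ≠ 1 := fun e => by rw [e, MonoidHom.one_apply, Units.val_one] at hφt; norm_num at hφt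
  choose z hz using fun χ : IrrCharacter G => h.invol_val χ
  have huniv : (Finset.univ : Finset K) = {1, ⟨t, h.tK⟩} := by
    ext y
    simp only [Finset.mem_univ, Finset.mem_insert, Finset.mem_singleton, true_iff]
    exact (h.K_two hk y.2).imp (fun e => Subtype.ext e) fun e => Subtype.ext e
  have hne : (1 : K) ≠ ⟨t, h.tK⟩ := fun e => h.t_ne_one (congrArg Subtype.val e).symm
  have hcoef : ∀ χ : IrrCharacter G, coef φ (χ : G → ℂ) = z χ := by
    intro χ
    rw [coef, huniv, Finset.sum_pair hne, map_one, Units.val_one, hφt, hz, map_intCast, hk]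
    push_cast
    ring
  choose d hd0 hd using fun χ : IrrCharacter G => Char.isIrrCharacter_degree χ.2
  have hz1 : z (Block.oneChar G) = 1 := by
    have := (hz (Block.oneChar G)).symm.trans (show (Block.oneChar G : G → ℂ) t = 1 from rfl)
    exact_mod_cast this
  have hd1 : d (Block.oneChar G) = 1 := by
    have := (hd (Block.oneChar G)).symm.trans (show (Block.oneChar G : G → ℂ) 1 = 1 from rfl)
    exact_mod_cast this
  -- the column of `t`
  have hcol : ∑ χ : IrrCharacter G, z χ ^ 2 = 4 := by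
    have h0 := Char.sum_irr_mul_conj t t
    rw [if_pos (IsConj.refl t), h.card_H, hk] at h0
    simp only [hz, map_intCast] at h0
    apply Int.cast_injective (α := ℂ)
    push_cast
    push_cast at h0
    simp only [pow_two]
    rw [h0]
  set S := (Finset.univ.erase (Block.oneChar G)).filter (fun χ => z χ ≠ 0) with hSdef
  have hrest : ∑ χ ∈ Finset.univ.erase (Block.oneChar G), z χ ^ 2 = 3 := by
    rw [← Finset.add_sum_erase _ _ (Finset.mem_univ (Block.oneChar G)), hz1] at hcol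
    linarith
  have hunit : ∀ χ ∈ S, z χ = 1 ∨ z χ = -1 := by
    intro χ hχ
    obtain ⟨hχ1, hχ0⟩ := Finset.mem_filter.1 hχ
    have h3 := Finset.single_le_sum (f := fun χ => z χ ^ 2) (fun _ _ => sq_nonneg _) hχ1
    rw [hrest] at h3
    have h4 : z χ ^ 2 ≤ 3 := h3
    have h5 : z χ ≤ 1 := by nlinarith
    have h6 : -1 ≤ z χ := by nlinarith
    omega
  have hS3 : S.card = 3 := by
    have : ∑ χ ∈ Finset.univ.erase (Block.oneChar G), z χ ^ 2 = ∑ χ ∈ S, (1 : ℤ) := by
      rw [hSdef, ← Finset.sum_filter_ne_zero]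
      refine Finset.sum_congr (Finset.filter_congr fun χ _ => by simp) fun χ hχ => ?_
      rcases hunit χ hχ with e | e <;> rw [e] <;> norm_num
    rw [hrest, Finset.sum_const, nsmul_eq_mul, mul_one] at this
    exact_mod_cast this.symm
  obtain ⟨A, B, C, hAB, hAC, hBC, hS⟩ := Finset.card_eq_three.1 hS3
  have hzero : ∀ χ, χ ≠ Block.oneChar G → χ ∉ S → z χ = 0 := by
    intro χ h1 h2
    by_contra h3
    exact h2 (Finset.mem_filter.2 ⟨Finset.mem_erase.2 ⟨h1, Finset.mem_univ _⟩, h3⟩)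
  have hexpand : ∀ (F : IrrCharacter G → ℂ), (∀ χ, z χ = 0 → F χ = 0) →
      ∑ χ, F χ = F (Block.oneChar G) + (F A + (F B + F C)) := by
    intro F hF
    rw [← Finset.add_sum_erase _ _ (Finset.mem_univ (Block.oneChar G))]
    congr 1
    rw [← Finset.sum_subset (Finset.filter_subset _ _ : S ⊆ _) fun χ hχ hχS =>
      hF χ (hzero χ (Finset.mem_erase.1 hχ).1 hχS), ← hSdef, hS,
      Finset.sum_insert (by simp [hAB, hAC]), Finset.sum_pair hBC]
  let X : IrrCharacter G → ℤ := fun χ => z χ * d χ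
  have hmod : ∀ χ ∈ S, X χ % 4 = 1 := by
    intro χ hχ
    obtain ⟨m, hm⟩ := Char.classInner_isCharacter
      (Char.isCharacter_comp (Char.isCharacter_irr χ) (centralizer ({t} : Set G)).subtype)
      (Char.isCharacter_of_isIrr (Char.isIrrCharacter_one (G := centralizer ({t} : Set G))))
    rw [classInner, h.card_H, hk] at hm
    simp only [map_one, mul_one, Subgroup.coe_subtype] at hm
    have hval : ∀ u : centralizer ({t} : Set G), u ≠ 1 → (χ : G → ℂ) u = z χ := by
      intro u hu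
      have hu2 := (h.invol_H_iff hk).2 ((h.mem_H_four hk u.2).resolve_left fun e => hu (Subtype.ext e))
      obtain ⟨g, hg⟩ := isConj_iff.1 (h.one_class t u h.ht hu2.1)
      rw [← hg, Char.isClassFunction_irr χ, hz]
    rw [← Finset.add_sum_erase _ _ (Finset.mem_univ (1 : centralizer ({t} : Set G))),
      Finset.sum_congr rfl (g := fun _ => (z χ : ℂ)) (fun u hu => hval u (Finset.mem_erase.1 hu).1),
      Finset.sum_const, Finset.card_erase_of_mem (Finset.mem_univ _), Finset.card_univ,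
      ← Nat.card_eq_fintype_card, h.card_H, hk, show ((1 : centralizer ({t} : Set G)) : G) = 1 from rfl,
      hd, nsmul_eq_mul] at hm
    norm_num at hm
    have hm' : (d χ : ℤ) + 3 * z χ = 4 * m := by
      apply Int.cast_injective (α := ℂ)
      push_cast
      linear_combination 4 * hm
    rcases hunit χ hχ with e | e <;> simp only [X, e] <;> rw [e] at hm' <;> omega
  have hsum : X A + X B + X C = -1 := by
    have h0 := Char.sum_irr_mul_conj 1 t
    rw [if_neg (fun e => h.t_ne_one (isConj_one_right.1 e))] at h0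
    simp only [hd, hz, map_intCast] at h0
    rw [hexpand (fun χ => (d χ : ℂ) * (z χ : ℂ)) (fun χ e => by simp [e]), hd1, hz1] at h0
    apply Int.cast_injective (α := ℂ)
    simp only [X]
    push_cast at h0 ⊢
    linear_combination h0
  have hform := h.pair_formula hφ1
  simp only [hcoef, hz, hd] at hform
  rw [hexpand (fun χ => (z χ : ℂ) * ((z χ : ℂ) * (z χ : ℂ) / (d χ : ℂ))) (fun χ e => by simp [e]), hd1,
    hz1, hk] at hform
  have hterm : ∀ χ ∈ S, (z χ : ℂ) * ((z χ : ℂ) * (z χ : ℂ) / (d χ : ℂ)) = 1 / (X χ : ℂ) := by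
    intro χ hχ
    have hd0' : (d χ : ℂ) ≠ 0 := by exact_mod_cast (hd0 χ).ne'
    rcases hunit χ hχ with e | e <;> simp only [X, e] <;> push_cast <;> field_simp
  have hA : A ∈ S := by simp [hS]
  have hB : B ∈ S := by simp [hS]
  have hC : C ∈ S := by simp [hS]
  rw [hterm A hA, hterm B hB, hterm C hC, h.card_G, hk] at hform
  have hXne : ∀ χ ∈ S, (X χ : ℂ) ≠ 0 := by
    intro χ hχ
    have := hmod χ hχ
    rw [Int.cast_ne_zero]
    omega
  set i : ℕ := (centralizer ({t} : Set G)).index with hi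
  have hArith : (i : ℤ) * (X A * X B * X C + X A * X B + X A * X C + X B * X C) =
      8 * (X A * X B * X C) := by
    apply Int.cast_injective (α := ℂ)
    push_cast at hform ⊢
    have e1 := hXne A hA
    have e2 := hXne B hB
    have e3 := hXne C hC
    field_simp at hform
    linear_combination hform
  have hi4 := h.index_mod_four hk
  have hi3 := h.three_dvd_index hk
  rw [← hi] at hi4 hi3
  have hres := arith_three (hmod A hA) (hmod B hB) (hmod C hC) hsum (i := (i : ℤ)) (by omega) (by omega)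
    (by exact_mod_cast hi3) hArith
  -- the distinguished constituent
  obtain ⟨E, δ, q, hES, hXE, huniq, hδ, hq, hidx⟩ : ∃ E : IrrCharacter G, ∃ δ : ℤ, ∃ q : ℕ, E ∈ S ∧
      X E = δ * q ∧ (∀ χ ∈ S, X χ = δ * q → χ = E) ∧ (δ = 1 ∨ δ = -1) ∧ (q : ℤ) = 4 + δ ∧
      (i : ℤ) = q * (2 + δ) := by
    have hmem : ∀ χ ∈ S, χ = A ∨ χ = B ∨ χ = C := fun χ hχ => by simpa [hS] using hχ
    rcases hres with ⟨hi', hXs⟩ | ⟨hi', hXs⟩
    · rcases hXs with ⟨e1, e2, e3⟩ | ⟨e1, e2, e3⟩ | ⟨e1, e2, e3⟩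
      · refine ⟨A, -1, 3, hA, by rw [e1]; rfl, fun χ hχ e => ?_, Or.inr rfl, rfl, by rw [hi']; rfl⟩
        rcases hmem χ hχ with rfl | rfl | rfl <;> first | rfl | (exfalso; omega)
      · refine ⟨B, -1, 3, hB, by rw [e2]; rfl, fun χ hχ e => ?_, Or.inr rfl, rfl, by rw [hi']; rfl⟩
        rcases hmem χ hχ with rfl | rfl | rfl <;> first | rfl | (exfalso; omega)
      · refine ⟨C, -1, 3, hC, by rw [e3]; rfl, fun χ hχ e => ?_, Or.inr rfl, rfl, by rw [hi']; rfl⟩
        rcases hmem χ hχ with rfl | rfl | rfl <;> first | rfl | (exfalso; omega)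
    · rcases hXs with ⟨e1, e2, e3⟩ | ⟨e1, e2, e3⟩ | ⟨e1, e2, e3⟩
      · refine ⟨A, 1, 5, hA, by rw [e1]; rfl, fun χ hχ e => ?_, Or.inl rfl, rfl, by rw [hi']; rfl⟩
        rcases hmem χ hχ with rfl | rfl | rfl <;> first | rfl | (exfalso; omega)
      · refine ⟨B, 1, 5, hB, by rw [e2]; rfl, fun χ hχ e => ?_, Or.inl rfl, rfl, by rw [hi']; rfl⟩
        rcases hmem χ hχ with rfl | rfl | rfl <;> first | rfl | (exfalso; omega)
      · refine ⟨C, 1, 5, hC, by rw [e3]; rfl, fun χ hχ e => ?_, Or.inl rfl, rfl, by rw [hi']; rfl⟩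
        rcases hmem χ hχ with rfl | rfl | rfl <;> first | rfl | (exfalso; omega)
  have hqpos : (0 : ℤ) < q := by omega
  have hzE : z E = δ ∧ d E = q := by
    have : (0 : ℤ) < d E := by exact_mod_cast hd0 E
    simp only [X] at hXE
    rcases hunit E hES with e | e <;> rcases hδ with e' | e' <;> rw [e, e'] at hXE <;> rw [e, e'] <;>
      exact ⟨by omega, by omega⟩
  have htwist : ∀ (m : ℕ) (hm : Nat.Coprime (Nat.card G) m),
      (⟨_, Char.isIrrCharacter_powMap hm E⟩ : IrrCharacter G) = E := by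
    intro m hm
    set E' : IrrCharacter G := ⟨_, Char.isIrrCharacter_powMap hm E⟩ with hE'
    have hzE' : z E' = z E := by
      have h1 : (E' : G → ℂ) t = (E : G → ℂ) t := by
        show (E : G → ℂ) (t ^ m) = _
        rw [h.pow_t hm]
      rw [hz, hz] at h1
      exact_mod_cast h1
    have hdE' : d E' = d E := by
      have h1 : (E' : G → ℂ) 1 = (E : G → ℂ) 1 := by
        show (E : G → ℂ) (1 ^ m) = _
        rw [one_pow]
      rw [hd, hd] at h1
      exact_mod_cast h1
    refine huniq E' (Finset.mem_filter.2 ⟨Finset.mem_erase.2 ⟨fun e => ?_, Finset.mem_univ _⟩, ?_⟩) ?_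
    · rw [e, hd1] at hdE'
      omega
    · rw [hzE']
      exact (Finset.mem_filter.1 hES).2
    · rw [← hXE]; simp only [X]; rw [hzE', hdE']
  obtain ⟨a, ha⟩ := exists_int_values E htwist
  refine ⟨E, a, δ, q, (2 + δ).toNat, hδ, by rw [hk]; push_cast; linarith, ?_, ?_, ha, ?_, ?_, ?_⟩
  · rw [Int.toNat_of_nonneg (by omega), hk]; rfl
  · exact (Finset.mem_erase.1 (Finset.mem_filter.1 hES).1).1
  · have := (ha 1).symm.trans (hd E)
    rw [hzE.2] at this
    exact_mod_cast this
  · intro y hy hy1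
    rw [(h.K_two hk hy).resolve_left hy1]
    have := (ha t).symm.trans (hz E)
    rw [hzE.1] at this
    exact_mod_cast this
  · apply Int.ofNat.inj
    show (i : ℤ) = ((q * (2 + δ).toNat : ℕ) : ℤ)
    push_cast
    rw [Int.toNat_of_nonneg (by omega), hidx]

/-- The order and the distinguished character. -/
theorem exists_data :
    ∃ (A : IrrCharacter G) (a : G → ℤ) (δ : ℤ) (q r : ℕ), Data K t A a δ q r := by
  by_cases hk : 4 ≤ Nat.card K
  · exact h.exists_data_large hk
  · refine h.exists_data_two ?_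
    obtain ⟨m, hm⟩ := h.two_dvd_k
    have : 0 < Nat.card K := Nat.card_pos
    omega

end Hyp
end CfsgLib.BSW
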