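import Cfsg.Agent.Lib.BSW.Small

/-!
# The three kinds of nontrivial elements
-/

set_option autoImplicit false
set_option linter.unusedSectionVars false

open Subgroup Cfsg
open scoped ComplexConjugate

namespace CfsgLib.BSW

universe u

variable {G : Type u} [Group G] [Fintype G] {t s : G} {K : Subgroup G}
  {A : IrrCharacter G} {a : G → ℤ} {δ : ℤ} {q r : ℕ}

namespace Data

variable (h : Hyp t s K) (D : Data K t A a δ q r)

include h D

theorem k_two_le : 2 ≤ Nat.card K := by
  obtain ⟨m, hm⟩ := h.two_dvd_k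
  have : 0 < Nat.card K := Nat.card_pos
  omega

theorem q_eq : (q : ℤ) = 2 * r - δ := by rw [D.hq, D.hr]; ring

theorem q_pos : 3 ≤ q := by
  have := D.hq; have := D.sgn; have := k_two_le h D
  omega

theorem r_pos : 1 ≤ r := by
  have := D.hr; have := D.sgn; have := k_two_le h D
  omega

theorem card_G : Nat.card G = 2 * Nat.card K * (q * r) := by rw [h.card_G, D.idx]

theorem sq_delta : δ * δ = 1 := by rcases D.sgn with e | e <;> rw [e] <;> norm_num

theorem odd_qr : Odd q ∧ Odd r := by
  have := h.odd_index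
  rw [D.idx, Nat.odd_mul] at this
  exact this

theorem no_common {p : ℕ} (hp : p.Prime) :
    ¬ ((p : ℤ) ∣ δ) ∧ ¬ (p ∣ Nat.card K ∧ p ∣ q) ∧ ¬ (p ∣ Nat.card K ∧ p ∣ r) ∧ ¬ (p ∣ q ∧ p ∣ r) := by
  have hδ : ¬ (p : ℤ) ∣ δ := fun hd => hp.ne_one (by
    have h2 := hd.mul_right δ
    rw [sq_delta h D] at h2
    exact Nat.dvd_one.1 (by exact_mod_cast h2))
  refine ⟨hδ, fun ⟨a, b⟩ => hδ ?_, fun ⟨a, b⟩ => hδ ?_, fun ⟨a, b⟩ => hδ ?_⟩
  · rw [show δ = (q : ℤ) - 2 * (Nat.card K : ℤ) by rw [D.hq]; ring]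
    exact dvd_sub (by exact_mod_cast b) ((Int.natCast_dvd_natCast.2 a).mul_left 2)
  · rw [show δ = (r : ℤ) - (Nat.card K : ℤ) by rw [D.hr]; ring]
    exact dvd_sub (by exact_mod_cast b) (Int.natCast_dvd_natCast.2 a)
  · rw [show δ = 2 * (r : ℤ) - (q : ℤ) by rw [q_eq h D]; ring]
    exact dvd_sub ((Int.natCast_dvd_natCast.2 b).mul_left 2) (by exact_mod_cast a)

theorem coprime_kqr : (Nat.card K).Coprime q ∧ (Nat.card K).Coprime r ∧ q.Coprime r := by
  refine ⟨Nat.coprime_of_dvd fun p hp a b => (no_common h D hp).2.1 ⟨a, b⟩,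
    Nat.coprime_of_dvd fun p hp a b => (no_common h D hp).2.2.1 ⟨a, b⟩,
    Nat.coprime_of_dvd fun p hp a b => (no_common h D hp).2.2.2 ⟨a, b⟩⟩

theorem coprime_idx : (Nat.card K).Coprime (centralizer ({t} : Set G)).index := by
  rw [D.idx]; exact Nat.Coprime.mul_right (coprime_kqr h D).1 (coprime_kqr h D).2.1

theorem a_conj (g y : G) : a (g * y * g⁻¹) = a y := by
  have := Char.isClassFunction_irr A y g
  rw [D.val, D.val] at this
  exact_mod_cast this

theorem sum_a : ∑ y : G, a y = 0 := by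
  classical
  have h0 := Char.classInner_irr_ne D.ne
  rw [classInner] at h0
  simp only [show ∀ z : G, (Block.oneChar G : G → ℂ) z = 1 from fun _ => rfl, map_one, mul_one,
    mul_eq_zero, inv_eq_zero, Nat.cast_eq_zero, Nat.card_pos.ne', false_or, D.val] at h0
  exact_mod_cast h0

theorem sum_a_sq : ∑ y : G, a y * a y = (Nat.card G : ℤ) := by
  classical
  have h0 := Char.classInner_irr_self A
  rw [classInner, inv_mul_eq_iff_eq_mul₀ (by exact_mod_cast Nat.card_pos.ne'), mul_one] at h0
  simp only [D.val, map_intCast] at h0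
  exact_mod_cast h0

open scoped Classical in
theorem sum_a_outside :
    ∑ y ∈ Finset.univ.filter (fun y : G => ¬ IntoK K y), a y =
      -(q : ℤ) - (q * r : ℕ) * ((Nat.card K : ℤ) - 1) * δ := by
  have h1 := h.sum_split a (a_conj h D)
  rw [sum_a h D, D.one, Finset.sum_congr rfl (g := fun _ : K => δ)
    (fun x hx => D.onK x x.2 fun e => (Finset.mem_erase.1 hx).1 (Subtype.ext e)),
    Finset.sum_const, Finset.card_erase_of_mem (Finset.mem_univ _), Finset.card_univ,
    ← Nat.card_eq_fintype_card, D.idx, smul_smul, nsmul_eq_mul, Nat.cast_mul,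
    Nat.cast_sub (Nat.card_pos (α := K))] at h1
  push_cast at h1 ⊢
  linarith

open scoped Classical in
theorem card_outside_int :
    ((Finset.univ.filter (fun y : G => ¬ IntoK K y)).card : ℤ) =
      (q : ℤ) * r * ((Nat.card K : ℤ) + 1) - 1 := by
  have h1 := congrArg (fun n : ℕ => (n : ℤ)) h.card_outside
  rw [D.idx, card_G h D] at h1
  push_cast [Nat.cast_sub (Nat.card_pos (α := K))] at h1
  linarith

theorem values {y : G} (hy : ¬ IntoK K y) : a y = 0 ∨ a y = -δ := by
  classical
  set Z := Finset.univ.filter (fun y : G => ¬ IntoK K y) with hZ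
  have hnn : ∀ z ∈ Z, 0 ≤ a z * (a z + δ) := by
    intro z _
    rcases D.sgn with e | e <;> rw [e]
    · rcases le_or_gt 0 (a z) with h0 | h0
      · exact mul_nonneg h0 (by linarith)
      · exact mul_nonneg_of_nonpos_of_nonpos h0.le (by omega)
    · rcases le_or_gt (a z) 0 with h0 | h0
      · exact mul_nonneg_of_nonpos_of_nonpos h0 (by linarith)
      · exact mul_nonneg h0.le (by omega)
  have hzero : ∑ z ∈ Z, a z * (a z + δ) = 0 := by
    have h1 := h.sum_split (fun z => a z * (a z + δ)) (fun g z => by simp only [a_conj h D])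
    have h2 : ∑ z : G, a z * (a z + δ) = (Nat.card G : ℤ) := by
      simp only [mul_add, Finset.sum_add_distrib, ← Finset.sum_mul, sum_a h D, sum_a_sq h D, zero_mul,
        add_zero]
    rw [h2, D.one, Finset.sum_congr rfl (g := fun _ : K => δ * (δ + δ))
      (fun x hx => by rw [D.onK x x.2 fun e => (Finset.mem_erase.1 hx).1 (Subtype.ext e)]),
      Finset.sum_const, Finset.card_erase_of_mem (Finset.mem_univ _), Finset.card_univ,
      ← Nat.card_eq_fintype_card, D.idx, smul_smul, nsmul_eq_mul, Nat.cast_mul,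
      Nat.cast_sub (Nat.card_pos (α := K)), card_G h D, ← hZ] at h1
    push_cast at h1
    linear_combination -h1 - (q : ℤ) * q_eq h D
      - 2 * (q : ℤ) * r * ((Nat.card K : ℤ) - 1) * sq_delta h D
  have h3 := (Finset.sum_eq_zero_iff_of_nonneg hnn).1 hzero y
    (Finset.mem_filter.2 ⟨Finset.mem_univ _, hy⟩)
  rcases mul_eq_zero.1 h3 with e | e
  · exact Or.inl e
  · exact Or.inr (by linarith)

open scoped Classical in
theorem card_zeros :
    ((Finset.univ.filter (fun y : G => ¬ IntoK K y ∧ a y = 0)).card : ℤ) = (q : ℤ) * q - 1 ∧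
    ((Finset.univ.filter (fun y : G => ¬ IntoK K y ∧ a y ≠ 0)).card : ℤ) =
      (q : ℤ) * (δ + r * ((Nat.card K : ℤ) - 1)) := by
  have hN : ((Finset.univ.filter (fun y : G => ¬ IntoK K y ∧ a y ≠ 0)).card : ℤ) =
      (q : ℤ) * (δ + r * ((Nat.card K : ℤ) - 1)) := by
    have h1 := sum_a_outside h D
    rw [← Finset.sum_filter_ne_zero, Finset.filter_filter, Finset.sum_congr rfl (g := fun _ => -δ)
      (fun z hz => (values h D (Finset.mem_filter.1 hz).2.1).resolve_left (Finset.mem_filter.1 hz).2.2),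
      Finset.sum_const, nsmul_eq_mul] at h1
    push_cast at h1
    linear_combination (-δ) * h1
      + ((q : ℤ) * r * ((Nat.card K : ℤ) - 1) -
        ((Finset.univ.filter (fun y : G => ¬ IntoK K y ∧ a y ≠ 0)).card : ℤ)) * sq_delta h D
  refine ⟨?_, hN⟩
  have h2 := Finset.card_filter_add_card_filter_not
    (s := Finset.univ.filter (fun y : G => ¬ IntoK K y)) (fun y => a y = 0)
  rw [Finset.filter_filter, Finset.filter_filter] at h2
  have h3 := congrArg (fun n : ℕ => (n : ℤ)) h2
  have h4 := card_outside_int h D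
  push_cast at h3
  linear_combination h3 + h4 - hN - (q : ℤ) * q_eq h D

theorem not_intoK_prime {p : ℕ} [Fact p.Prime] {c : G} (hc : orderOf c = p) (hy : ¬ IntoK K c) :
    ¬ p ∣ Nat.card K ∧ (p ∣ q ∨ p ∣ r) := by
  have hk : ¬ p ∣ Nat.card K := fun hd => hy (h.intoK_of_prime (coprime_idx h D) hd hc)
  refine ⟨hk, ?_⟩
  have h1 := hc ▸ orderOf_dvd_natCard c
  rw [card_G h D] at h1
  rcases (Fact.out : p.Prime).dvd_mul.1 h1 with h2 | h2
  · rcases (Fact.out : p.Prime).dvd_mul.1 h2 with h3 | h3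
    · exact absurd (h3.trans h.two_dvd_k) hk
    · exact absurd h3 hk
  · exact (Fact.out : p.Prime).dvd_mul.1 h2

theorem value_congr (y : G) (p : ℕ) (hp : p.Prime) : (p : ℤ) ∣ a y - a (y ^ p) :=
  value_pow_prime A hp (D.val y) (D.val _)

theorem eq_zero_iff_dvd {y : G} (hy : ¬ IntoK K y) {p : ℕ} (hp : p.Prime) :
    ((p : ℤ) ∣ a y ↔ a y = 0) ∧ ((p : ℤ) ∣ a y + δ ↔ a y = -δ) := by
  have hδ := (no_common h D hp).1
  rcases values h D hy with e | e <;> rw [e]
  · refine ⟨by simp, ⟨fun hd => absurd (by simpa using hd) hδ, fun e' => ?_⟩⟩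
    rw [e', neg_add_cancel]; exact dvd_zero _
  · refine ⟨⟨fun hd => absurd (dvd_neg.1 hd) hδ, fun e' => by rw [e']; exact dvd_zero _⟩, by simp⟩

theorem prime_value {p : ℕ} (hp : p.Prime) {c : G} (hc : orderOf c = p) (hy : ¬ IntoK K c) :
    (p ∣ q → a c = 0) ∧ (p ∣ r → a c = -δ) := by
  have h1 := value_congr h D c p hp
  rw [← hc, pow_orderOf_eq_one, D.one, hc] at h1
  constructor
  · intro hq
    refine (eq_zero_iff_dvd h D hy hp).1.1 ?_
    have := dvd_add h1 (Int.natCast_dvd_natCast.2 hq)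
    rwa [sub_add_cancel] at this
  · intro hr
    refine (eq_zero_iff_dvd h D hy hp).2.1 ?_
    have h2 := dvd_add h1 ((Int.natCast_dvd_natCast.2 hr).mul_left 2)
    rw [q_eq h D] at h2
    rwa [show a c - (2 * (r : ℤ) - δ) + 2 * (r : ℤ) = a c + δ by ring] at h2

theorem no_mix {b d : G} (hbd : Commute b d) {p l : ℕ} (hp : p.Prime) (hl : l.Prime) (hb : orderOf b = p)
    (hd : orderOf d = l) (hpq : p ∣ q) (hlr : l ∣ r) (hbZ : ¬ IntoK K b) (hdZ : ¬ IntoK K d) : False := by
  have hpl : p ≠ l := fun e => (no_common h D hp).2.2.2 ⟨hpq, e ▸ hlr⟩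
  have hcop : p.Coprime l := (Nat.coprime_primes hp hl).2 hpl
  have hz1 : b * d ≠ 1 := fun e => hpl (by rw [← hb, ← hd, eq_inv_of_mul_eq_one_left e, orderOf_inv])
  have hzZ : ¬ IntoK K (b * d) := by
    intro hz
    refine h.outside_centralizer hbZ (c := b * d) (mem_centralizer_singleton_iff.2 ?_) hz1 hz
    exact ((Commute.refl b).mul_left hbd.symm).eq
  have hdp : orderOf (d ^ p) = l := by
    rw [(show (orderOf d).Coprime p from hd ▸ hcop.symm).orderOf_pow, hd]
  have hbl : orderOf (b ^ l) = p := by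
    rw [(show (orderOf b).Coprime l from hb ▸ hcop).orderOf_pow, hb]
  have hdp' : ¬ IntoK K (d ^ p) := fun hz => h.outside_centralizer hdZ (c := d ^ p)
    (mem_centralizer_singleton_iff.2 (Commute.pow_self d p).eq)
    (fun e => by rw [e, orderOf_one] at hdp; exact hl.ne_one hdp.symm) hz
  have hbl' : ¬ IntoK K (b ^ l) := fun hz => h.outside_centralizer hbZ (c := b ^ l)
    (mem_centralizer_singleton_iff.2 (Commute.pow_self b l).eq)
    (fun e => by rw [e, orderOf_one] at hbl; exact hp.ne_one hbl.symm) hz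
  have e1 : (b * d) ^ p = d ^ p := by
    rw [hbd.mul_pow, show b ^ p = 1 by rw [← hb, pow_orderOf_eq_one], one_mul]
  have e2 : (b * d) ^ l = b ^ l := by
    rw [hbd.mul_pow, show d ^ l = 1 by rw [← hd, pow_orderOf_eq_one], mul_one]
  have h1 := value_congr h D (b * d) p hp
  rw [e1, (prime_value h D hl hdp hdp').2 hlr, sub_neg_eq_add] at h1
  have h2 := value_congr h D (b * d) l hl
  rw [e2, (prime_value h D hp hbl hbl').1 hpq, sub_zero] at h2
  have h3 := (eq_zero_iff_dvd h D hzZ hp).2.1 h1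
  have h4 := (eq_zero_iff_dvd h D hzZ hl).1.1 h2
  rw [h4] at h3
  rcases D.sgn with e | e <;> omega

/-- Elements in no conjugate of `K`: the centralizer order divides `q` or `r`, as told by the character. -/
theorem kind {y : G} (hy : ¬ IntoK K y) :
    (a y = 0 ∧ Nat.card (centralizer ({y} : Set G)) ∣ q) ∨
      (a y = -δ ∧ Nat.card (centralizer ({y} : Set G)) ∣ r) := by
  induction hn : orderOf y using Nat.strong_induction_on generalizing y with
  | _ n ih =>
    have hy1 : y ≠ 1 := fun e => hy (e ▸ intoK_one)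
    obtain ⟨p, hp, hpy⟩ := Nat.exists_prime_and_dvd (fun e => hy1 (orderOf_eq_one_iff.1 e))
    haveI := Fact.mk hp
    set b := y ^ (orderOf y / p) with hb_def
    have hb : orderOf b = p := orderOf_pow_orderOf_div (orderOf_pos y).ne' hpy
    have hbC : b ∈ centralizer ({y} : Set G) :=
      mem_centralizer_singleton_iff.2 (Commute.pow_self y _).eq
    have hbZ : ¬ IntoK K b := h.outside_centralizer hy hbC (fun e => by
      rw [e, orderOf_one] at hb; exact hp.ne_one hb.symm)
    obtain ⟨-, hpqr⟩ := not_intoK_prime h D hb hbZ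
    have hdvd : Nat.card (centralizer ({y} : Set G)) ∣ 2 * Nat.card K * (q * r) :=
      card_G h D ▸ card_subgroup_dvd_card _
    have hprime : ∀ l : ℕ, l.Prime → l ∣ Nat.card (centralizer ({y} : Set G)) →
        ¬ l ∣ 2 * Nat.card K ∧ (p ∣ q → ¬ l ∣ r) ∧ (p ∣ r → ¬ l ∣ q) := by
      intro l hl hld
      haveI := Fact.mk hl
      obtain ⟨d, hd⟩ := exists_prime_orderOf_dvd_card' (G := centralizer ({y} : Set G)) l hld
      rw [← Subgroup.orderOf_coe] at hd
      have hd1 : (d : G) ≠ 1 := fun e => by rw [e, orderOf_one] at hd; exact hl.ne_one hd.symm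
      have hdZ := h.outside_centralizer hy d.2 hd1
      have hbd : Commute b (d : G) := by
        have : Commute y (d : G) := (mem_centralizer_singleton_iff.1 d.2).symm
        exact this.pow_left _
      obtain ⟨hlk, -⟩ := not_intoK_prime h D hd hdZ
      refine ⟨fun h2 => ?_, fun hpq hlr => no_mix h D hbd hp hl hb hd hpq hlr hbZ hdZ,
        fun hpr hlq => no_mix h D hbd.symm hl hp hd hb hlq hpr hdZ hbZ⟩
      rcases hl.dvd_mul.1 h2 with h3 | h3
      · exact hlk (h3.trans h.two_dvd_k)
      · exact hlk h3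
    have hcopK : (Nat.card (centralizer ({y} : Set G))).Coprime (2 * Nat.card K) :=
      Nat.coprime_of_dvd fun l hl a b => (hprime l hl a).1 b
    have hqr := hcopK.dvd_of_dvd_mul_left hdvd
    have hsub : y ^ p ≠ 1 → ¬ IntoK K (y ^ p) ∧ centralizer ({y} : Set G) ≤ centralizer ({y ^ p} : Set G) := by
      intro h1
      refine ⟨h.outside_centralizer hy (mem_centralizer_singleton_iff.2 (Commute.pow_self y p).eq) h1,
        fun z hz => mem_centralizer_singleton_iff.2 ?_⟩
      exact (Commute.pow_right (show Commute z y from mem_centralizer_singleton_iff.1 hz) p).eq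
    have hlt : y ^ p ≠ 1 → orderOf (y ^ p) < n := by
      intro h1
      rw [← hn, orderOf_pow_of_dvd hp.ne_zero hpy]
      exact Nat.div_lt_self (orderOf_pos y) hp.one_lt
    have hyC : 1 < Nat.card (centralizer ({y} : Set G)) := by
      have : Nontrivial (centralizer ({y} : Set G)) :=
        ⟨⟨⟨y, mem_centralizer_singleton_iff.2 rfl⟩, 1, fun e => hy1 (congrArg Subtype.val e)⟩⟩
      exact Finite.one_lt_card
    have hexcl : Nat.card (centralizer ({y} : Set G)) ∣ q → Nat.card (centralizer ({y} : Set G)) ∣ r → False := by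
      intro a b
      have := Nat.eq_one_of_dvd_coprimes (coprime_kqr h D).2.2 a b
      omega
    rcases hpqr with hpq | hpr
    · have hq' : Nat.card (centralizer ({y} : Set G)) ∣ q :=
        (Nat.coprime_of_dvd fun l hl a b => (hprime l hl a).2.1 hpq b : Nat.Coprime _ r).dvd_of_dvd_mul_right hqr
      refine Or.inl ⟨?_, hq'⟩
      by_cases h1 : y ^ p = 1
      · exact (prime_value h D hp (orderOf_eq_prime h1 hy1) hy).1 hpq
      · obtain ⟨hyp, hle⟩ := hsub h1
        have h2 : a (y ^ p) = 0 := by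
          rcases ih _ (hlt h1) hyp rfl with ⟨e, -⟩ | ⟨-, hr'⟩
          · exact e
          · exact (hexcl hq' ((card_dvd_of_le hle).trans hr')).elim
        have h3 := value_congr h D y p hp
        rw [h2, sub_zero] at h3
        exact (eq_zero_iff_dvd h D hy hp).1.1 h3
    · have hr' : Nat.card (centralizer ({y} : Set G)) ∣ r :=
        (Nat.coprime_of_dvd fun l hl a b => (hprime l hl a).2.2 hpr b : Nat.Coprime _ q).dvd_of_dvd_mul_left hqr
      refine Or.inr ⟨?_, hr'⟩
      by_cases h1 : y ^ p = 1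
      · exact (prime_value h D hp (orderOf_eq_prime h1 hy1) hy).2 hpr
      · obtain ⟨hyp, hle⟩ := hsub h1
        have h2 : a (y ^ p) = -δ := by
          rcases ih _ (hlt h1) hyp rfl with ⟨-, hq'⟩ | ⟨e, -⟩
          · exact (hexcl ((card_dvd_of_le hle).trans hq') hr').elim
          · exact e
        have h3 := value_congr h D y p hp
        rw [h2, sub_neg_eq_add] at h3
        exact (eq_zero_iff_dvd h D hy hp).2.1 h3

theorem dvd_q {y : G} (hy : ¬ IntoK K y) (ha : a y = 0) : Nat.card (centralizer ({y} : Set G)) ∣ q := by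
  rcases kind h D hy with ⟨-, e⟩ | ⟨e, -⟩
  · exact e
  · rw [ha] at e; rcases D.sgn with e' | e' <;> omega

theorem dvd_r {y : G} (hy : ¬ IntoK K y) (ha : a y ≠ 0) : Nat.card (centralizer ({y} : Set G)) ∣ r :=
  ((kind h D hy).resolve_left fun e => ha e.1).2

theorem four_kr : (q : ℤ) * q - 1 = 4 * (Nat.card K : ℤ) * r := by
  rw [D.hq, D.hr]
  linear_combination sq_delta h D

theorem class_le {y : G} (hy : ¬ IntoK K y) :
    (centralizer ({y} : Set G)).index ≤
      open Classical in (Finset.univ.filter (fun z : G => ¬ IntoK K z ∧ a z = a y)).card := by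
  classical
  rw [← Char.card_isConj, ← Fintype.card_coe, ← Nat.card_eq_fintype_card]
  refine Nat.card_le_card_of_injective (fun z => ⟨z.1, ?_⟩) fun z w e => Subtype.ext (congrArg (fun v : {v // v ∈ (Finset.univ.filter (fun z : G => ¬ IntoK K z ∧ a z = a y))} => (v : G)) e)
  obtain ⟨g, hg⟩ := isConj_iff.1 z.2
  refine Finset.mem_filter.2 ⟨Finset.mem_univ _, ?_, ?_⟩
  · rw [← hg, intoK_conj]; exact hy
  · rw [← hg, a_conj h D]

/-- An element where the character vanishes has centralizer of order `q`. -/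
theorem card_zero {y : G} (hy : ¬ IntoK K y) (ha : a y = 0) :
    Nat.card (centralizer ({y} : Set G)) = q := by
  classical
  have h1 := class_le h D hy
  rw [ha] at h1
  have h2 := (card_zeros h D).1
  rw [four_kr h D] at h2
  have h3 : (centralizer ({y} : Set G)).index ≤ 4 * Nat.card K * r := by
    have : ((Finset.univ.filter (fun z : G => ¬ IntoK K z ∧ a z = 0)).card : ℤ) = ((4 * Nat.card K * r : ℕ) : ℤ) := by
      push_cast; exact h2
    omega
  have h4 := Nat.mul_le_mul_left (Nat.card (centralizer ({y} : Set G))) h3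
  rw [Subgroup.card_mul_index, card_G h D] at h4
  obtain ⟨m, hm⟩ := dvd_q h D hy ha
  obtain ⟨hqo, -⟩ := odd_qr h D
  rw [hm, Nat.odd_mul] at hqo
  have hk := k_two_le h D
  have hr := r_pos h D
  have hc : 0 < Nat.card (centralizer ({y} : Set G)) := Nat.card_pos
  generalize Nat.card (centralizer ({y} : Set G)) = c at hm h4 hqo hc ⊢
  subst hm
  have h5 : m ≤ 2 := by
    refine Nat.le_of_mul_le_mul_left (?_ : 2 * Nat.card K * r * c * m ≤ 2 * Nat.card K * r * c * 2)
      (Nat.mul_pos (Nat.mul_pos (by omega) (by omega)) hc)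
    calc 2 * Nat.card K * r * c * m = 2 * Nat.card K * (c * m * r) := by ring
      _ ≤ c * (4 * Nat.card K * r) := h4
      _ = 2 * Nat.card K * r * c * 2 := by ring
  obtain ⟨-, hmo⟩ := hqo
  obtain ⟨l, rfl⟩ := hmo
  obtain rfl : l = 0 := by omega
  simp

end Data
end CfsgLib.BSW
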